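import Cfsg.Agent.H1.Wk
import Cfsg.Agent.H29.Free
import Cfsg.Agent.H27.StG
import Cfsg.Agent.H21.RED
import Cfsg.Agent.H6.AltCen

/-! Simple groups with abelian Sylow `2`-subgroups: the trichotomy `abel3`, one class of involutions
(`one_class`), and consequences of the last step `WJ` of Walter's theorem (`walter`, `r3_simple`, `irr2`). -/

set_option autoImplicit false
set_option linter.unusedSectionVars false

namespace H16
open H18 H22 H1 Subgroup Cfsg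
open H6.Ree (Ab2)
open scoped commutatorElement MatrixGroups

universe u

/-- the last step of Walter's theorem -/
def WJ : Prop := ∀ (G : Type u) [Group G] [Finite G] (S E K : Subgroup G) (t : G), WS S t E K → E = K

variable {G : Type u} [Group G] [Finite G] {S E K : Subgroup G} {t : G}

theorem not_abel_top (hG : ¬ IsMulCommutative G) : ¬ Abel (⊤ : Subgroup G) :=
  fun a => hG ⟨⟨fun x y => a (mem_top y) x (mem_top x)⟩⟩

theorem isSyl17 (h : Hall {2} S ⊤) : H17.IsSyl 2 S ⊤ := by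
  obtain ⟨T, rfl⟩ := h.exists_sylow_top Nat.prime_two
  exact H17.isSyl_sylow T

theorem abel3 [IsSimpleGroup G] (h : AbS S ⊤) (hG : ¬ IsMulCommutative G) :
    PE S ∨ (Nat.card S = 4 ∧ L35 G) ∨ ∀ t ∈ S, t ≠ 1 → ∃ E K, WS S t E K := by
  by_cases se : ∃ M : Subgroup G, IsStronglyEmbedded M
  · exact Or.inl (h.pe se.choose_spec)
  obtain ⟨e, c⟩ := (H4.Gs.goldschmidt (not_abel_top hG) (isSyl17 h.syl) (h.ne_bot_of hG) h.abel
    ⟨le_rfl, fun _ _ _ e => e⟩).resolve_left se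
  by_cases h2 : PRankLE 2 2 G
  · exact Or.inr (Or.inl ⟨(h.four_of_rank hG h2).1, h.l35 hG h2⟩)
  rcases c with c | c
  · refine absurd (fun A _ hA => ?_) h2
    obtain ⟨g, -, e⟩ := sylow_le_cj Nat.prime_two h.syl (H3.piGrp_of_pow Nat.prime_two hA) le_top
    exact ((card_cj (g := g)).symm.le.trans (card_le_of_le e)).trans c.le
  have e8 : E8 S ⊤ := ⟨h, fun x hx => (sq x).symm.trans (e.2 x hx), c⟩
  refine Or.inr (Or.inr fun t ht t1 => ?_)
  obtain ⟨E, K, j⟩ := (e8.jr_or hG ht t1).resolve_left se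
  exact ⟨E, K, e8, inferInstance, hG, ht, j⟩

theorem ab2 (h : AbS S ⊤) : Ab2 G := fun _ hQ a ha b hb =>
  cent_iff.1 (h.abel_of le_top (piGrp_of_isPGroup Nat.prime_two hQ)) a ha b hb

theorem cen_of (hW : WJ.{u}) (h : WS S t E K) : ∃ (F : Type) (_ : Field F) (_ : Fintype F) (φ : PSL(2, F) →* G),
    (Fintype.card F % 8 = 3 ∨ Fintype.card F % 8 = 5) ∧ 5 ≤ Fintype.card F ∧ φ.range = K ∧ H6.Ree.Cen t φ := by
  obtain rfl := hW G S E K t h
  obtain ⟨F, _, _, h1, h2, ⟨e⟩⟩ := h.jr.l35 h.toAbS h.tS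
  have c := H6.Ree.cen_of_sup h.jr.ht h.jr.leC h.jr.tE (by rw [sup_comm, h.jr.sup, top_inf_eq])
  refine ⟨F, _, _, E.subtype.comp e.symm.toMonoidHom, h1, h2, ?_, c.ord, c.inj.comp e.symm.injective,
    fun y => c.comm _, fun y => c.ne _, fun g hg => ?_⟩
  · rw [MonoidHom.range_comp, MonoidHom.range_eq_top.2 e.symm.surjective, ← MonoidHom.range_eq_map, range_subtype]
  · obtain ⟨y, hy⟩ := c.cov g hg
    exact ⟨e y, by simpa using hy⟩

theorem psl_A5 {F : Type} [Field F] [Fintype F] (h : Fintype.card F = 4 ∨ Fintype.card F = 5) :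
    Nonempty (PSL(2, F) ≃* alternatingGroup (Fin 5)) := by
  have := H27.simple_PSL (F := F) (by omega)
  have c := H10.card_PSL2 (F := F)
  refine H10.equiv_A5_of_simple ?_
  rcases h with h | h <;> rw [h] at c <;> norm_num at c <;> omega

/-- groups of Ree type -/
def ReeT (G : Type u) [Group G] : Prop := ∃ (F : Type) (_ : Field F) (_ : Fintype F) (t : G) (φ : PSL(2, F) →* G)
  (m : ℕ), 1 ≤ m ∧ Fintype.card F = 3 ^ (2 * m + 1) ∧ H6.Ree.Cen t φ ∧
    Nat.card G = (3 ^ (2 * m + 1)) ^ 3 * ((3 ^ (2 * m + 1)) ^ 3 + 1) * (3 ^ (2 * m + 1) - 1)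

theorem ree_or (hW : WJ.{u}) (h : WS S t E K) : ReeT G ∨ Spor.IsoJ1 G := by
  have := h.simple
  obtain ⟨F, _, _, φ, h1, h2, -, c⟩ := cen_of hW h
  rcases H6.Ree.jtw (ab2 h.toAbS) (by omega) c with ⟨m, h3, h4, h5⟩ | h3
  · exact Or.inl ⟨F, _, _, t, φ, m, h3, h4, c, h5⟩
  obtain ⟨e⟩ := psl_A5 h3
  refine Or.inr (H6.Ree.iso_J1' (φ := φ.comp e.symm.toMonoidHom) ⟨c.ord, c.inj.comp e.symm.injective,
    fun y => c.comm _, fun y => c.ne _, fun g hg => ?_⟩ (fun M _ => H10.index_ne_two_of_perfect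
      (perfect_of h.nc) M) h.syl (h.le_C1 h.tS))
  obtain ⟨y, hy⟩ := c.cov g hg
  exact ⟨e y, by simpa using hy⟩

theorem walter (hW : WJ.{u}) [IsSimpleGroup G] (h : AbS S ⊤) (hG : ¬ IsMulCommutative G) :
    Lev G ∨ L35 G ∨ ReeT G ∨ Spor.IsoJ1 G := by
  rcases abel3 h hG with e | e | e
  · exact Or.inl e.iso
  · exact Or.inr (Or.inl e.2)
  · obtain ⟨t, ht, t1⟩ := exists_mem_ne_one' (h.ne_bot_of hG)
    obtain ⟨E, K, w⟩ := e t ht t1
    exact Or.inr (Or.inr (ree_or hW w))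

/-- simple groups without real elements of order `3` -/
theorem r3_simple (hW : WJ.{u}) (G : Type u) [Group G] [Finite G] [IsSimpleGroup G] (hG : ¬ IsMulCommutative G)
    (h : H27.R3 G) : IsSuzukiOrPSL2OddPowerThree G := by
  induction' e : Nat.card G using Nat.strong_induction_on with n ih generalizing G
  subst e
  have : Fact (Nat.Prime 2) := ⟨Nat.prime_two⟩
  obtain ⟨S⟩ : Nonempty (Sylow 2 G) := inferInstance
  rcases H29.gold_of_free hG (fun e => H27.not_S4_of_r3 h (H4.involves_iff.1 e)) (fun K R _ k H _ N _ s na => by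
    have d := (H29.card_sec_dvd H N).trans (card_quotient_dvd_card (R.subgroupOf K))
    refine ih _ ((Nat.le_of_dvd Nat.card_pos d).trans_lt ?_) _ na ?_ rfl
    · simpa using card_lt (lt_top_iff_ne_top.2 k)
    · have q : ∀ {X : Type u} [Group X] [Finite X] (K : Subgroup X) (N : Subgroup K) [N.Normal], H27.R3 X →
          H27.R3 (K ⧸ N) := fun K N _ e => e.of_sec ⟨K, le_top, _, QuotientGroup.mk'_surjective N⟩
      exact q H N (q K _ h)) S with ⟨H, hH⟩ | ⟨e, -⟩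
  · obtain ⟨F, _, _, -, ⟨f⟩⟩ | k | ⟨F, _, _, k, -, hF, ⟨f⟩⟩ := H9.isBender_of_se hH
    · exact H27.szL_of_PSL f h
    · exact Or.inl k
    · have := H25.charP_of_card (F := F) (p := 2) (f := k * 2) (by rw [hF, pow_mul])
      exact absurd (h.of_equiv f.symm) (H27.not_r3_PSU _)
  have a := abS_sylow S e.abel.comm
  rcases abel3 a hG with ⟨-, -, -, -, -, k, -, F, _, _, -, ⟨f⟩⟩ | ⟨-, F, _, _, -, -, ⟨f⟩⟩ | k
  · exact H27.szL_of_PSL f h
  · exact H27.szL_of_PSL f h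
  · obtain ⟨t, ht, t1⟩ := exists_mem_ne_one' (a.ne_bot_of hG)
    obtain ⟨E, K, w⟩ := k t ht t1
    obtain ⟨F, _, _, φ, -, h2, -, c⟩ := cen_of hW w
    exact absurd h (H27.not_r3_of_cen (ab2 a) (by omega) c)

/-- no element of order `2 ^ k ≥ 4` is real -/
def I2 (G : Type u) [Group G] : Prop := ∀ x g : G, PiElt {2} x → g * x * g⁻¹ = x⁻¹ → x * x = 1

theorem not_i2_PSU {F : Type} [Field F] [Fintype F] {n : ℕ} (hn : 2 ≤ n) (hF : Fintype.card F = (2 ^ n) ^ 2) :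
    ¬ I2 (PSU 3 F (2 ^ n)) := fun h => by
  obtain ⟨H, Q, D, t, u, -, -, -, -, hu⟩ := H5.psu_model hn hF
  have := H25.charP_of_card (p := 2) (hF.trans (pow_mul 2 n 2).symm)
  obtain ⟨σ, hq, inv, ne⟩ := H11.exists_frob hF
  have two : (2 : F) = 0 := CharP.cast_eq_zero F 2
  obtain ⟨w, hw⟩ : ∃ w, σ w ≠ w := not_forall.1 fun e => ne (RingHom.ext e)
  have w0 : w + σ w ≠ 0 := fun e => hw (by linear_combination e - w * two)
  obtain ⟨b, hb⟩ : ∃ b, b + σ b = 1 := ⟨w / (w + σ w), by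
    rw [map_div₀, map_add, inv, add_comm (σ w), ← add_div, div_self w0]⟩
  simp only [← hq] at hu
  have v1 : b + σ b = 1 * σ 1 := by simp [hb]
  have v2 : σ b + σ (σ b) = 1 * σ 1 := by rw [inv, add_comm, v1]
  have v3 : b * (b * σ b) + σ (b * (b * σ b)) = b * σ b := by
    rw [map_mul, map_mul, inv]; linear_combination b * σ b * hb
  have v4 : (1 : F) + σ 1 = 0 * σ 0 := by rw [map_one]; linear_combination two
  have v5 : (0 : F) + σ 0 = 0 * σ 0 := by simp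
  have m := fun a b h => (hu a b h).2.2.1
  have u0 : u 0 0 = 1 := by simpa using m 0 0 v5 0 0 v5
  have x2 : u 1 b * u 1 b = u 0 1 := by
    rw [m _ _ v1 _ _ v1, map_one]; congr 1
    exacts [by linear_combination two, by linear_combination b * two]
  have x4 : u 0 1 * u 0 1 = 1 := by
    rw [m _ _ v4 _ _ v4, ← u0]; congr 1
    exacts [by simp, by linear_combination two]
  have xi : (u 1 b)⁻¹ = u 1 (σ b) := inv_eq_of_mul_eq_one_right (by
    rw [m _ _ v1 _ _ v2, ← u0, map_one]; congr 1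
    exacts [by linear_combination two, by linear_combination hb + two])
  have := h (u 1 b) (u b (b * (b * σ b))) ((piNat_self Nat.prime_two).pow (k := 2) |>.of_dvd
    (orderOf_dvd_of_pow_eq_one (by rw [show 2 ^ 2 = 2 + 2 from rfl, pow_add, sq, x2, x4]))) (by
      rw [mul_inv_eq_iff_eq_mul, xi, m _ _ v3 _ _ v1, m _ _ v2 _ _ v3, map_one]; congr 1
      exacts [add_comm _ _, by linear_combination (b - σ b) * two])
  exact one_ne_zero ((hu 0 1 v4).2.1 (x2 ▸ this)).2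

theorem irr2 [IsSimpleGroup G] (hG : ¬ IsMulCommutative G) (h : I2 G) : Lie.IsoSuzuki G ∨ Lev G ∨ ∃ S, AbS S (⊤ : Subgroup G) := by
  obtain ⟨S, hS⟩ := exists_sylow Nat.prime_two (⊤ : Subgroup G)
  have c : ∀ a ∈ S, a * a = 1 → ∀ b ∈ S, b * b = 1 → a * b * (a * b) = 1 := fun a ha a2 b hb b2 =>
    h _ a (hS.pi.elt (mul_mem ha hb)) (by rw [mul_inv_rev, inv_of_sq a2, inv_of_sq b2, ← mul_assoc, a2, one_mul])
  let A : Subgroup G :=
    { carrier := {a | a ∈ S ∧ a * a = 1}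
      one_mem' := ⟨one_mem _, mul_one _⟩
      mul_mem' := fun {a b} ha hb => ⟨mul_mem ha.1 hb.1, c a ha.1 ha.2 b hb.1 hb.2⟩
      inv_mem' := fun {a} ha => ⟨inv_mem ha.1, by rw [← mul_inv_rev, ha.2, inv_one]⟩ }
  have S0 : S ≠ ⊥ := fun e => not_solv_top hG (solv_of_two' (by
    have := hS.idx
    rwa [e, relIndex_bot_left] at this))
  obtain ⟨z, hz, z2⟩ := exists_inv (hS.pi.dvd_card S0)
  rcases H4.Gs.goldschmidt (A := A) (not_abel_top hG) (isSyl17 hS) (ne_bot_of_mem ⟨hz, sq1 z2⟩ (ne1 z2))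
    (cent_iff.2 fun a ha b hb => by
      rw [← inv_of_sq (mul_mem ha hb).2, mul_inv_rev, inv_of_sq ha.2, inv_of_sq hb.2])
    ⟨fun _ e => e.1, fun x hx g e => ⟨e, by rw [conj_mul, hx.2, mul_one, mul_inv_cancel]⟩⟩ with ⟨H, hH⟩ | ⟨e, -⟩
  · obtain ⟨F, _, _, ⟨k, h1, h2⟩, f⟩ | k | ⟨F, _, _, k, k2, hF, ⟨f⟩⟩ := H9.isBender_of_se hH
    · exact Or.inr (Or.inl ⟨k, h1, F, _, _, h2, f⟩)
    · exact Or.inl k
    · refine absurd (fun x g h1 h2 => ?_) (not_i2_PSU k2 hF)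
      have := h (f.symm x) (f.symm g) (by rwa [PiElt, MulEquiv.orderOf_eq]) (by simpa using congrArg f.symm h2)
      simpa using congrArg f this
  · exact Or.inr (Or.inr ⟨S, hS, e.abel⟩)

theorem inv_mem_N {x g : G} (h : g * x * g⁻¹ = x⁻¹) : g ∈ N(zpowers x) :=
  mem_N_iff_cj.2 (by rw [cj_zpowers, h, zpowers_inv])

theorem s4030 (hW : WJ.{u}) [IsSimpleGroup G] (hna : ¬ IsMulCommutative G)
    (hirr : ∀ x : G, (∀ r : ℕ, r.Prime → r ∣ orderOf x → r = 2) → N(zpowers x) ≤ C1(x)) :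
    (∃ (F : Type) (_ : Field F) (_ : Fintype F), 4 ≤ Fintype.card F ∧
        (Fintype.card F % 8 = 0 ∨ Fintype.card F % 8 = 3 ∨ Fintype.card F % 8 = 5) ∧
        Nonempty (G ≃* PSL(2, F))) ∨ IsSuzuki G ∨ IsRee G ∨ IsJ1 G := by
  have lev : Lev G → ∃ (F : Type) (_ : Field F) (_ : Fintype F), 4 ≤ Fintype.card F ∧
      (Fintype.card F % 8 = 0 ∨ Fintype.card F % 8 = 3 ∨ Fintype.card F % 8 = 5) ∧ Nonempty (G ≃* PSL(2, F)) := by
    rintro ⟨k, h1, F, _, _, h2, ⟨f⟩⟩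
    rcases h1.eq_or_lt with rfl | h1
    · have : Fact (Nat.Prime 5) := ⟨by norm_num⟩
      obtain ⟨a⟩ := psl_A5 (Or.inl h2)
      obtain ⟨b⟩ := psl_A5 (F := ZMod 5) (Or.inr (ZMod.card 5))
      exact ⟨ZMod 5, inferInstance, inferInstance, by simp, by simp, ⟨f.trans (a.trans b.symm)⟩⟩
    · obtain ⟨j, rfl⟩ := Nat.exists_eq_add_of_le (show 3 ≤ k from h1)
      have := Nat.one_le_two_pow (n := j)
      rw [pow_add] at h2
      exact ⟨F, _, _, by omega, by omega, ⟨f⟩⟩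
  rcases irr2 hna (fun x g h1 h2 => by
    have := mem_C1.1 (hirr x h1 (inv_mem_N h2))
    rw [this, mul_inv_cancel_right] at h2
    exact mul_eq_one_iff_eq_inv.2 h2) with h | h | ⟨S, h⟩
  · exact Or.inr (Or.inl (H19.isSuzuki_of_iso h))
  · exact Or.inl (lev h)
  rcases walter hW h hna with h | ⟨F, _, _, h1, h2, f⟩ | ⟨F, _, _, t, φ, m, h1, -, -, h2⟩ | ⟨⟨f⟩⟩
  · exact Or.inl (lev h)
  · exact Or.inl ⟨F, _, _, by omega, Or.inr h1, f⟩
  · exact Or.inr (Or.inr (Or.inl ⟨inferInstance, m, h1, h2⟩))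
  · exact Or.inr (Or.inr (Or.inr ⟨inferInstance, (Nat.card_congr f.toEquiv).trans H6.J1.card_J1⟩))

theorem s4031 (hW : WJ.{u}) [IsSimpleGroup G] (hna : ¬ IsMulCommutative G)
    (hirr : ∀ x : G, (∀ r : ℕ, r.Prime → r ∣ orderOf x → r = 3) → N(zpowers x) ≤ C1(x)) :
    (∃ f : ℕ, 1 ≤ f ∧ Nonempty (G ≃* PSL(2, GaloisField 3 (2 * f + 1)))) ∨ IsSuzuki G := by
  rcases r3_simple hW G hna (fun x g h1 h2 => by
    have := mem_C1.1 (hirr x (piElt_of_pow_eq_one Nat.prime_three h1) (inv_mem_N h2))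
    rw [this, mul_inv_cancel_right] at h2
    rw [pow_three, mul_eq_one_iff_eq_inv.2 h2, mul_one] at h1
    exact h1) with h | ⟨F, _, _, n, h1, ⟨f⟩⟩
  · exact Or.inr (H19.isSuzuki_of_iso h)
  have : Fintype (GaloisField 3 (2 * n + 1)) := Fintype.ofFinite _
  obtain ⟨e⟩ := H10.PSL2_congr (FiniteField.ringEquivOfCardEq (K := F) (K' := GaloisField 3 (2 * n + 1))
    (by rw [h1, ← Nat.card_eq_fintype_card, GaloisField.card 3 _ (by omega)]))
  refine Or.inl ⟨n, Nat.pos_of_ne_zero ?_, ⟨f.trans e⟩⟩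
  rintro rfl
  have c := H10.card_PSL2 (F := F)
  rw [h1, ← Nat.card_congr f.toEquiv] at c
  exact H27.not_solvable_of_simple hna (H5.burnside_paqb (a := 2) (b := 1) Nat.prime_two Nat.prime_three
    (by norm_num at c; omega))

end H16
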