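import Cfsg.Agent.H26.NA2
/-! A free pair of blocks over `B` gives `B = D₈ × D`: `H16.afp : H26.AFP`. -/
set_option autoImplicit false
set_option linter.unusedSectionVars false
namespace H16.AFP
open Cfsg Subgroup H26 H4 H118
open scoped Pointwise commutatorElement

local notation "𝐉" => thompsonSubgroupOf 2
local notation "O₂" => pCoreOf 2

variable {G : Type*} [Group G] [Finite G] {B W W' W₁ W₂ K : Subgroup G} {g g₁ g₂ x y : G}

section one
variable (h : Bk B W g)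
include h

theorem nQ : B ≤ 𝐍 ↑(B ⊓ 𝐂 W) := le_normalizer_inf_centralizer h.nW

theorem nQ' : B ⊔ zpowers g ≤ 𝐍 ↑(B ⊓ 𝐂 W) := sup_le (nQ h) (zpowers_le.2 h.nQ)

theorem inv (hy : y ∈ zpowers g) : ∃ b ∈ B, b * y * b⁻¹ = y⁻¹ := by
  obtain ⟨A, hA, b, hb, -, b2⟩ := h.inv
  obtain ⟨n, rfl⟩ := hy
  exact ⟨b, MaxEA.le hA hb, by dsimp only; rw [← conj_zpow, b2, inv_zpow]⟩

theorem odd (hy : y ∈ zpowers g) : (orderOf y).Coprime 2 :=
  h.odd.coprime_dvd_left (orderOf_dvd_of_mem_zpowers hy)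

theorem decomp (hx : x ∈ B ⊔ zpowers g) : ∃ y ∈ zpowers g, ∃ c ∈ B, y * c = x := by
  obtain ⟨A, hA, b, hb, b1, b2⟩ := h.inv
  have hb' := MaxEA.le hA hb
  have n : B ≤ 𝐍 ↑(zpowers g ⊔ B ⊓ 𝐂 W) := fun c hc => by
    have bn : b ∈ 𝐍 ↑(zpowers g ⊔ B ⊓ 𝐂 W) := zpowers_le.1 (le_normalizer_sup
      (zpowers_le.2 (cj_eq_iff.1 (by rw [cj_zpowers, b2, zpowers_inv]))) (zpowers_le.2 (nQ h hb')))
    by_cases e : c ∈ 𝐂 W
    · exact le_normalizer (mem_sup_right ⟨hc, e⟩)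
    · exact (mul_mem_cancel_right bn).1 (le_normalizer (mem_sup_right
        ⟨mul_mem hc hb', h.four.two_of_isP h.isP h.nW c hc b hb' e b1⟩))
  obtain ⟨r, hr, c, hc, rfl⟩ := (mem_sup_of_le_normalizer' n).1
    ((sup_le le_sup_right (le_sup_of_le_left le_sup_left) : B ⊔ zpowers g ≤ zpowers g ⊔ B ⊓ 𝐂 W ⊔ B) hx)
  obtain ⟨y, hy, q, hq, rfl⟩ := (mem_sup_of_le_normalizer (zpowers_le.2 h.nQ)).1 hr
  exact ⟨y, hy, q * c, mul_mem hq.1 hc, (mul_assoc _ _ _).symm⟩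

theorem le_of_n (h1 : K ≤ B ⊔ zpowers g) (h2 : K ≤ 𝐍 B) : K ≤ B := fun x hx => by
  obtain ⟨y, hy, c, hc, rfl⟩ := decomp h (h1 hx)
  obtain ⟨b, hb, e⟩ := inv h hy
  refine mul_mem (mem_of_pow_mem_coprime_orderOf (odd h hy) ?_) hc
  have := mul_mem (conj_mem_of_mem_normalizer ((mul_mem_cancel_right (le_normalizer hc)).1 (h2 hx)) hb) (inv_mem hb)
  rwa [show y * b * y⁻¹ * b⁻¹ = y * (b * y * b⁻¹)⁻¹ by group, e, inv_inv, ← pow_two] at this

theorem core : O₂ (B ⊔ zpowers g) = B ⊓ 𝐂 W := by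
  have n := le_normalizer_pCoreOf 2 (B ⊔ zpowers g)
  have p := isPGroup_pCoreOf 2 (B ⊔ zpowers g)
  have l : O₂ (B ⊔ zpowers g) ≤ B := fun x hx => by
    obtain ⟨y, hy, c, hc, rfl⟩ := decomp h (pCoreOf_le 2 _ hx)
    obtain ⟨k, hk⟩ := isPGroup_iff_mem.1 (isPGroup_sup h.isP p (le_sup_left.trans n)) y
      ((mul_mem_cancel_right (mem_sup_left hc)).1 (mem_sup_right hx))
    exact mul_mem (mem_of_pow_mem_coprime_orderOf ((odd h hy).pow_right k) (hk ▸ one_mem _)) hc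
  refine le_antisymm (le_inf l ((le_inf l le_rfl).trans (h.le_c (n (mem_sup_right (mem_zpowers g)))
    (by rw [pResidualOf_eq_bot p]; exact bot_le)))) (le_pCoreOf h.isP.to_inf_left (le_sup_of_le_left inf_le_left) (nQ' h))

theorem mem_of_sq (hy : y ∈ zpowers g) (h1 : B ≤ K) (h2 : cj y B ≤ K) : y ∈ K := by
  obtain ⟨b, hb, e⟩ := inv h hy
  refine mem_of_pow_mem_coprime_orderOf (odd h hy) ?_
  have := mul_mem (h2 (conj_mem_cj y hb)) (inv_mem (h1 hb))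
  rwa [show y * b * y⁻¹ * b⁻¹ = y * (b * y * b⁻¹)⁻¹ by group, e, inv_inv, ← pow_two] at this

omit h in
theorem not_c (f : Four W) (t : Th W x) (hK : K ≤ W) (h1 : K ≠ ⊥) : x ∉ 𝐂 K := fun e => by
  obtain ⟨w, hw, w1⟩ := (bot_or_exists_ne_one _).resolve_left h1
  exact w1 (t.fix f (hK hw) (e w hw).symm)

theorem dih : Dih (B ⊔ zpowers g) B := by
  refine ⟨le_sup_left, (core h).le.trans inf_le_left, fun x hx y hy h1 h2 => ?_,
    ⟨g, mem_sup_right (mem_zpowers g), sup_le le_sup_left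
      (zpowers_le.2 (mem_of_sq h (mem_zpowers g) le_sup_left le_sup_right))⟩, fun x hx e => ?_, ?_, fun e => ?_⟩
  · rw [core h] at h1 h2 ⊢
    exact ⟨mul_mem hx hy, h.four.two_of_isP h.isP h.nW x hx y hy (fun k => h1 ⟨hx, k⟩) fun k => h2 ⟨hy, k⟩⟩
  · obtain ⟨y, hy, c, hc, rfl⟩ := decomp h hx
    rw [cj_mul, cj_eq_iff.2 (le_normalizer hc)] at e ⊢
    refine ⟨y * y, mem_sup_right (mul_mem hy hy), e.trans (sup_le le_sup_left (cj_le_of_mem_normalizer le_sup_left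
      (le_normalizer (mem_of_pow_mem_coprime_orderOf (odd h hy) ?_)))), ?_⟩
    · rw [pow_two]
      exact mem_of_sq h (mul_mem hy hy) le_sup_left le_sup_right
    · rw [cj_mul, ← cj_sup, ← cj_eq_iff.2 (le_normalizer (mem_sup_right hy : y ∈ B ⊔ zpowers g))]
      exact cj_mono y e
  · rw [core h]
    exact le_inf (oz_le B) ((oz_le_c B).trans (centralizer_anti h.le))
  · exact not_c h.four h.th inf_le_left h.inf_ne (centralizer_anti inf_le_right (e (mem_sup_right (mem_zpowers g))))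

theorem hf (f' : Four W') (le' : W' ≤ B) (nW' : B ≤ 𝐍 W') (nc : ¬ W' ≤ 𝐂 W) : ∃ ρ, Hf B W ρ := by
  obtain ⟨b, hb, b1⟩ := SetLike.not_le_iff_exists.1 nc
  obtain ⟨ρ, hρ, t1, t2, t3⟩ := h.th.odd h.four (h.nW (le' hb)) (f'.sq b hb) b1
  have m : ∀ X : Subgroup G, g ∈ 𝐍 X → b ∈ X → ρ ∈ X := fun X h1 h2 =>
    zpowers_le.2 (mul_mem (conj_mem_of_mem_normalizer h1 h2) (inv_mem h2)) hρ
  have lQ : W ≤ B ⊓ 𝐂 W := le_inf h.le h.four.le_c
  exact ⟨ρ, h.isP, h.four, h.le, h.nW, t1, t2, m _ (le_normalizer h.nQ) (nQ h (le' hb)), (le_commStab_iff' lQ).1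
    (zpowers_le.2 (m _ (zpowers_le.1 (le_normalizer_commStab (zpowers_le.2 h.nQ) (zpowers_le.2 h.th.n)))
      ((le_commStab_iff' lQ).2 ((commutator_le_inf_of_le_normalizer (inf_le_left.trans nW') (le'.trans (nQ h))).trans
        ((le_inf inf_le_right (inf_le_left.trans inf_le_right)).trans
          ((four_inf h.four f' (h.le.trans nW') (le'.trans h.nW) nc).1.le.trans inf_le_left))) hb))), b, le' hb, b1, t3⟩

end one

variable (sol : ∀ L : Subgroup G, IsTwoLocal L → Group.IsSolvable L) (h1 : Bk B W₁ g₁) (h2 : Bk B W₂ g₂)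
  (free : ∀ N ≤ B, B ≤ 𝐍 N → g₁ ∈ 𝐍 N → g₂ ∈ 𝐍 N → N = ⊥)
include h1 h2 free

theorem not_le : ¬ B ⊓ 𝐂 W₁ ≤ B ⊓ 𝐂 W₂ := fun e => by
  have n : ∀ {W : Subgroup G} {g : G}, Bk B W g → ¬ B ≤ 𝐂 W := fun h k => h.jc ((thompsonOf_le 2 B).trans k)
  have e' : B ⊓ 𝐂 W₂ ≤ B ⊓ 𝐂 W₁ := by_contra fun k => n h2 ((le_sup_of_two (Q := B ⊓ 𝐂 W₁) (fun x hx y hy a b =>
    ⟨mul_mem hx hy, h1.four.two_of_isP h1.isP h1.nW x hx y hy (fun k => a ⟨hx, k⟩) fun k => b ⟨hy, k⟩⟩)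
    inf_le_left k).trans (sup_le (e.trans inf_le_right) inf_le_right))
  exact h1.four.ne_bot (le_bot_iff.1 (free _ inf_le_left (nQ h1) h1.nQ (le_antisymm e e' ▸ h2.nQ) ▸
    le_inf h1.le h1.four.le_c))

theorem sup_Q : B ≤ B ⊓ 𝐂 W₂ ⊔ B ⊓ 𝐂 W₁ := le_sup_of_two (fun x hx y hy a b =>
  ⟨mul_mem hx hy, h2.four.two_of_isP h2.isP h2.nW x hx y hy (fun k => a ⟨hx, k⟩) fun k => b ⟨hy, k⟩⟩)
  inf_le_left (not_le h1 h2 free)

theorem inf_P : (B ⊔ zpowers g₁) ⊓ (B ⊔ zpowers g₂) = B := by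
  refine le_antisymm (le_of_n h1 inf_le_left ?_) (le_inf le_sup_left le_sup_left)
  have := le_normalizer_sup (inf_le_right.trans (nQ' h2) : (B ⊔ zpowers g₁) ⊓ (B ⊔ zpowers g₂) ≤ _)
    (inf_le_left.trans (nQ' h1))
  rwa [le_antisymm (sup_le inf_le_left inf_le_left) (sup_Q h1 h2 free)] at this

include sol

theorem push (c : W₁ ≤ 𝐂 W₂) (n : g₁ ∈ 𝐍 ↑(B ⊓ 𝐂 W₁ ⊓ (B ⊓ 𝐂 W₂))) : False := by
  have e : B ⊓ 𝐂 W₂ ⊓ 𝐂 W₁ = B ⊓ 𝐂 W₁ ⊓ (B ⊓ 𝐂 W₂) :=
    le_antisymm (le_inf (inf_le_inf_right _ inf_le_left) inf_le_left) (le_inf inf_le_right (inf_le_left.trans inf_le_right))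
  have p : IsPGroup 2 ↥(B ⊓ 𝐂 W₂) := h1.isP.to_inf_left
  have l2 : W₂ ≤ B ⊓ 𝐂 W₂ := le_inf h2.le h2.four.le_c
  have st : St (B ⊓ 𝐂 W₂) (B ⊔ zpowers g₁) (𝐂 ↑(W₁ ⊓ oz B)) W₁ := by
    refine ⟨p, le_sup_of_le_left inf_le_left, h1.four, le_inf h1.le c,
      (thompsonOf_le 2 _).trans (inf_le_left.trans h1.nW), fun k => ?_, fun t ht _ => h1.nW ht.1,
      fun t ht => (cj_eq_iff.2 (h1.nW ht.1)).le.trans h1.four.le_c, ⟨g₁, mem_sup_right (mem_zpowers _), h1.th, e ▸ n⟩,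
      fun k _ t => not_c h1.four t inf_le_left h1.inf_ne, fun X a b d x hx => ?_⟩
    · refine thompson_ne_bot p (fun z => h2.four.ne_bot (le_bot_iff.1 (z ▸ l2))) (free _
        ((thompsonOf_le 2 _).trans inf_le_left) ((nQ h2).trans (normalizer_le_normalizer_thompsonOf 2 _)) ?_
        (normalizer_le_normalizer_thompsonOf 2 _ h2.nQ))
      rw [← thompsonOf_eq_of_le (le_inf (thompsonOf_le 2 _) k) inf_le_left, e]
      exact normalizer_le_normalizer_thompsonOf 2 _ n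
    · obtain ⟨y, hy, z, hz, rfl⟩ := decomp h1 hx.1
      refine mul_mem (by_contra fun k => b (free X (a.trans inf_le_left) ((nQ h2).trans d) ?_ (d h2.nQ)))
        (centralizer_anti inf_le_right (le_c_oz B hz))
      have m := (mul_mem_cancel_right (d (nQ h2 hz))).1 hx.2
      obtain ⟨j, rfl⟩ := mem_powers_iff_mem_zpowers.2 hy
      obtain ⟨i, hi⟩ := h1.three
      refine mem_of_pow_mem_coprime (Nat.Coprime.pow_right i ((Nat.Prime.coprime_iff_not_dvd Nat.prime_three).2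
        ?_).symm) m (hi ▸ one_mem _)
      rintro ⟨j, rfl⟩
      refine k ?_
      dsimp only
      rw [pow_mul]
      exact pow_mem (centralizer_anti inf_le_left h1.th.cube) j
  obtain ⟨W', D, E, o⟩ := st.out sol
  have d : H9.DD (B ⊓ 𝐂 W₂) W₁ W' D := ⟨o.four, o.four', o.sup, o.card, o.cen, o.disj, o.inf, o.nc, o.nw, o.nw'⟩
  have z : W₂ ≤ W₁ ⊓ W' ⊔ D := (le_inf l2 (le_centralizer_iff.1 inf_le_right)).trans d.Z_le
  have c1 := card_sup_mul_card_inf (H := W₁ ⊓ W') (K := D) (le_normalizer_of_le_centralizer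
    ((inf_le_left.trans d.leW).trans (le_centralizer_iff.1 o.cen)))
  have c2 : 0 < Nat.card ↥(W₁ ⊓ W' ⊓ D) := Nat.card_pos
  have c3 := o.card
  rw [o.inf] at c1
  have e2 := eq_of_le_of_card_ge z (by rw [h2.four.card]; nlinarith)
  exact not_c h2.four h2.th (le_sup_left.trans e2.ge) (fun k => by have := o.inf; rw [k, card_bot] at this; omega)
    (normalizer_le_c_of_card_two o.inf (d.nZ h2.nQ))

theorem nc : ¬ W₁ ≤ 𝐂 W₂ := fun c => by
  have e := inf_P h1 h2 free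
  have g : ∀ {g : G}, g ∈ B ⊔ zpowers g := fun {g} => mem_sup_right (mem_zpowers g)
  rcases dih_elem_or (e.symm ▸ dih h1) (e.symm ▸ dih h2) (fun N a b d => free N (a.trans e.le) (le_sup_left.trans b)
    (b g) (d g)) with ⟨-, a⟩ | ⟨-, a | a⟩
  · rw [core h2] at a
    exact h1.jc ((thompsonOf_le 2 B).trans ((sup_Q h1 h2 free).trans (sup_le
      ((elemAb_le_centralizer a).trans (centralizer_anti (le_inf h1.le c))) inf_le_right)))
  · rw [core h1, core h2] at a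
    exact push sol h1 h2 free c (a g)
  · rw [core h1, core h2, inf_comm] at a
    exact push sol h2 h1 (fun N a b d k => free N a b k d) (le_centralizer_iff.1 c) (a g)

end H16.AFP

open Cfsg Subgroup H26 H4 H118 H16.AFP in
theorem H16.afp.{u} : H26.AFP.{u} := fun G _ _ B W₁ W₂ g₁ g₂ sol h1 h2 free => by
  have n := nc sol h1 h2 free
  have n' : ¬ W₂ ≤ 𝐂 W₁ := fun e => n (le_centralizer_iff.1 e)
  obtain ⟨ρ, h⟩ := hf h1 h2.four h2.le h2.nW n'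
  obtain ⟨ρ', h'⟩ := hf h2 h1.four h1.le h1.nW n
  have c := h.card_dd h' n' sol
  refine ⟨dd B W₁ ρ, ⟨h1.four, h2.four, h.sup_eq h' n', c, le_centralizer_iff.1 (h.n_dd.trans ?_), eq_bot_iff.2
    (le_trans (le_inf ?_ inf_le_right) h.inf_dd.le), (h.inf h' n').2, n, h1.nW, h2.nW⟩,
    le_antisymm h.q_le (sup_le (le_inf h1.le h1.four.le_c) inf_le_left)⟩
  · rcases (show Nat.card (dd B W₁ ρ) = 1 ∨ Nat.card (dd B W₁ ρ) = 2 by
      have : 0 < Nat.card (dd B W₁ ρ) := Nat.card_pos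
      omega) with e | e
    · rw [card_eq_one.1 e, centralizer_bot']; exact le_top
    · exact normalizer_le_c_of_card_two e
  · refine (inf_le_inf_left _ (inf_le_left.trans inf_le_right)).trans ?_
    rw [dedekind_left h1.four.le_c (h1.le.trans h2.nW), (h.inf h' n').1]
    exact sup_le le_rfl inf_le_left
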