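import Cfsg.Agent.H16.Ti6
import Cfsg.Agent.H6.Oct3
/-! Pieces `FG1`, `FG2` of the interface `H26.N4` (type Tits): `H16.fg1`, `H16.fg2`. -/
set_option autoImplicit false
namespace H16
universe u

theorem fg1 : H26.FG1.{u} := fun _ _ _ _ _ T => let ⟨_, _, _, _, h⟩ := Ti.oc T; h.not_min

theorem fg2 : H26.FG2.{u} := fun _ _ _ _ _ T =>
  let ⟨_, _, _, _, h⟩ := Ti.oc T
  haveI := T.ng.simple
  h.card'

end H16
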