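import Cfsg.Agent.H27.PLDef
import Cfsg.Agent.H6.FD0
/-! The plane structure of a frame with `J(S) ≰ C(V)`: `H16.tvs : H27.TVS`. -/
set_option autoImplicit false
namespace H16.TV
open Cfsg Subgroup H26 H4 H118 H6.FD
open scoped Pointwise commutatorElement

local notation "𝐉" => thompsonSubgroupOf 2
local notation "O²" => pResidualOf 2

variable {G : Type*} [Group G] [Finite G] {S V K E W H : Subgroup G}

theorem not_res_le (h : NatSL 2 E W) : ¬ O² E ≤ 𝐂 W := fun k => by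
  obtain ⟨T, hT⟩ := exists_isSyl 2 E
  have four := four_of_natSL h
  refine inf_centralizer_ne_bot four.isP hT.isP (hT.le.trans h.le_normalizer) four.ne_bot
    (le_bot_iff.1 (h.inf_centralizer ▸ le_inf inf_le_left (le_centralizer_iff.1 ?_)))
  exact hT.le_of_pResidualOf_le (k.trans (centralizer_anti inf_le_left)) (le_centralizer_iff.1 inf_le_right)

omit [Finite G] in
theorem sq_mem {N : Subgroup G} {η t : G} (h1 : η ∈ 𝐍 N) (h2 : t ∈ 𝐍 N) (h3 : t * t ∈ N) (h4 : ⁅⁅η, t⁆, t⁆ ∈ N) :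
    ⁅η, t⁆ * ⁅η, t⁆ ∈ N := by
  have a := conj_mem_of_mem_normalizer (commutator_le_of_le_normalizer le_normalizer (commutator_mem_commutator h1 h2))
    (N.mul_mem h3 (conj_mem_of_mem_normalizer h1 (N.inv_mem h3)))
  have := N.mul_mem (N.inv_mem a) h4
  simp only [commutatorElement_def] at this ⊢
  convert this using 1
  group

section fr
variable (h : Fr S V) (hV : IsPGroup 2 V)
include h

theorem nT : S ≤ 𝐍 ↑(S ⊓ ncl (fR S V) (fH S)) :=
  le_normalizer_inf le_normalizer (h.S_le_H.trans (le_normalizer_ncl _ _))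

include hV

/-- an `S`-invariant `K` of odd action with fixed points in `V` commutes with `T₁` modulo `C(V)` -/
theorem key (h1 : K ≤ 𝐍 V) (h2 : S ≤ 𝐍 K) (ho : OddM K (𝐂 V)) (hn : V ⊓ 𝐂 K ≠ ⊥) :
    ⁅K, S ⊓ ncl (fR S V) (fH S)⁆ ≤ 𝐂 V := by
  have z := inf_centralizer_ne_bot (hV.to_le inf_le_left) h.isP
    (le_normalizer_inf h.le (le_normalizer_centralizer h2)) hn
  have l : V ⊓ 𝐂 K ⊓ 𝐂 S ≤ oz S := (inf_le_inf_right _ inf_le_left).trans (h.inf_c hV).le
  have c := (h.zc_le hV l z).2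
  have k : K ≤ 𝐍 ↑(𝐂 (ncl (oz S) (𝐂 ↑(V ⊓ 𝐂 K ⊓ 𝐂 S)))) := le_normalizer_centralizer
    ((le_centralizer_iff.1 (inf_le_left.trans inf_le_right)).trans (le_normalizer_ncl _ _))
  have e : ⁅K, S ⊓ ncl (fR S V) (fH S)⁆ ≤ K := commutator_le_of_le_normalizer (inf_le_left.trans h2)
  refine cop (X := ⁅K, S ⊓ ncl (fR S V) (fH S)⁆ ⊔ S) (h.ea hV) (h.syl.mono le_sup_right le_top)
    (sup_le (e.trans h1) h.le) le_sup_left (sup_le le_normalizer (le_normalizer_commutator h2 (nT h)))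
    (ho.mono e le_rfl) ((h.inf_c hV).le.trans (le_centralizer_iff.1 ?_))
  exact ((commutator_mono le_rfl (inf_le_right.trans c)).trans (commutator_le_of_le_normalizer' k)).trans
    (centralizer_anti (le_ncl _ _))

/-- `T₁` acts nontrivially on every nontrivial `M`-invariant subgroup of `V` -/
theorem T1_not_le {Y : Subgroup G} (h1 : Y ≤ V) (h2 : 𝐍 V ≤ 𝐍 Y) (h3 : Y ≠ ⊥) :
    ¬ S ⊓ ncl (fR S V) (fH S) ≤ 𝐂 Y := fun k => by
  obtain ⟨F, f1, f2, f3, -, f4⟩ := fr_odd h hV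
  have n := normalizer_le_normalizer_centralizer V
  obtain ⟨x, hx, hx'⟩ := SetLike.not_le_iff_exists.1 (h.T1_not_le hV)
  obtain ⟨m, hm⟩ := isPGroup_iff_mem.1 h.isP x hx.1
  obtain ⟨j, j1, j2⟩ := exists_pow_sq hm hx'
  have ht := pow_mem hx (2 ^ j)
  generalize x ^ 2 ^ j = t at j1 j2 ht
  obtain ⟨η, e1, e2⟩ := f4 t (h.le ht.1) j2 j1
  have c := key h hV (K := F ⊓ 𝐂 Y) (inf_le_left.trans f1)
    (h.le.trans (le_normalizer_inf f2 (le_normalizer_centralizer h2))) (f3.mono inf_le_left le_rfl)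
    (fun e => h3 (le_bot_iff.1 (e ▸ le_inf h1 (le_centralizer_iff.1 inf_le_right))))
  have a : ⁅η, t⁆ ∈ F := commutator_le_of_le_normalizer f2 (commutator_mem_commutator e1 (h.le ht.1))
  have b : ⁅η, t⁆ ∈ 𝐂 Y := commutator_le_of_le_normalizer' (le_normalizer_centralizer h2)
    (commutator_mem_commutator (f1 e1) (k ht))
  exact e2 (f3.sq (f1.trans n) a (sq_mem (n (f1 e1)) (n (h.le ht.1)) j2
    (c (commutator_mem_commutator (mem_inf.2 ⟨a, b⟩) ht))))

variable (f : FFD 2 V H) (nH : 𝐍 V ≤ 𝐍 H)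
include f nH

omit h hV nH [Finite G] in
theorem odd (h1 : K ≤ H) : OddM (O² K) (𝐂 V) := fun P hP hp => by
  have l := (pResidualOf_le 2 K).trans h1
  rw [← f.span, sSup_eq_iSup']
  refine le_centralizer_sup ((hP.trans l).trans (le_centralizer_iff.1 inf_le_right)) (le_centralizer_iSup fun W => ?_)
  exact (four_of_natSL W.2.2).le_c_of_isP (pResidualOf_pResidualOf _ _) (l.trans (f.le_normalizer W.2)) hp hP

theorem orbit (hne : (Pl 2 V H).Nonempty) :
    ∃ W ∈ Pl 2 V H, V ⊓ 𝐂 H = ⊥ ∧ ∀ U ∈ Pl 2 V H, ∃ s ∈ S, cj s W = U := by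
  have pl : ∀ W ∈ Pl 2 V H, ∀ g ∈ 𝐍 V, cj g W ∈ Pl 2 V H := fun W hW g hg => Pl.conj hW hg (nH hg)
  obtain ⟨W, hW, n⟩ : ∃ W ∈ Pl 2 V H, ¬ S ⊓ ncl (fR S V) (fH S) ≤ 𝐂 W := by
    by_contra k
    push Not at k
    obtain ⟨U, hU⟩ := hne
    refine T1_not_le h hV (Y := sSup (Pl 2 V H)) (sSup_le fun _ h => h.1) (H2.le_normalizer_sSup pl)
      (fun e => (four_of_natSL hU.2).ne_bot (le_bot_iff.1 (e ▸ le_sSup hU))) ?_
    rw [sSup_eq_iSup']
    exact le_centralizer_iSup fun W => k W W.2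
  have four := four_of_natSL hW.2
  have l : ncl (plE V H W) S ≤ H := ncl_le plE_le (h.le.trans nH)
  have l' := (pResidualOf_le 2 _).trans l
  have z : V ⊓ 𝐂 ↑(O² (ncl (plE V H W) S)) = ⊥ := by_contra fun z => by
    have c := (key h hV (l'.trans f.nm) (le_normalizer_pResidualOf_of_le (le_normalizer_ncl _ _)) (odd f l) z).trans
      (centralizer_anti hW.1)
    obtain ⟨ρ, r1, r2⟩ := SetLike.not_le_iff_exists.1 (not_res_le hW.2)
    have r3 := pResidualOf_le 2 _ r1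
    have r4 := pResidualOf_mono (p := 2) (le_ncl (plE V H W) S) r1
    have nW : S ⊓ ncl (fR S V) (fH S) ≤ 𝐍 W := fun t ht => by_contra fun e => r2 (by
      have a := c (commutator_mem_commutator r4 ht)
      have b := f.cent W hW _ (pl W hW t (h.le ht.1)) (fun k => e (cj_eq_iff.1 k.symm))
        (cj_plE hW.1 (h.le ht.1) (nH (h.le ht.1)) ▸ conj_mem_cj t r3)
      have := mul_mem a b
      simpa [commutatorElement_def, mul_assoc] using this)
    obtain ⟨t, t1, t2⟩ := SetLike.not_le_iff_exists.1 n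
    exact (four.comm_three (hW.2.le_normalizer r3) (nW t1) (four.cube_mem (pResidualOf_pResidualOf _ _)
      ((pResidualOf_le 2 _).trans hW.2.le_normalizer) r1) r2
      (four.sq_mem_of_isP (h.isP.to_le inf_le_left) nW t1) t2).2 (c (commutator_mem_commutator r4 t1))
  refine ⟨W, hW, le_bot_iff.1 (z ▸ inf_le_inf_left _ (centralizer_anti l')), fun U hU => by_contra fun k => ?_⟩
  refine (four_of_natSL hU.2).ne_bot (le_bot_iff.1 (z ▸ le_inf hU.1 (le_centralizer_iff.1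
    ((pResidualOf_le 2 _).trans (ncl_le_iff.2 fun s hs => ?_)))))
  rw [cj_plE hW.1 (h.le hs) (nH (h.le hs))]
  exact f.cent U hU _ (pl W hW s (h.le hs)) fun e => k ⟨s, hs, e.symm⟩

omit h hV [Finite G] in
theorem cent {U : Subgroup G} (hW : W ∈ Pl 2 V H) (hU : U ∈ Pl 2 V H) (hne : W ≠ U) : plE V (𝐍 V) W ≤ 𝐂 U :=
  fun g hg => by
  have c := f.cent W hW U hU hne
  have a : ∀ u ∈ U, u * (g * u⁻¹ * g⁻¹) ∈ 𝐂 (plE V H U) := fun u hu => le_centralizer_iff.1 c (by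
    have := commutator_plE_le (H := 𝐍 V) hW.1 (commutator_mem_commutator (hU.1 hu) hg)
    simpa [commutatorElement_def, mul_assoc] using this)
  have i := hU.2.inf_centralizer
  by_cases e : cj g U = U
  · refine mem_centralizer_iff'.2 fun u hu => ?_
    have b : u⁻¹ * (g * u⁻¹⁻¹ * g⁻¹) ∈ U := U.mul_mem (U.inv_mem hu) (e ▸ conj_mem_cj g (U.inv_mem (U.inv_mem hu)))
    have := mem_bot.1 (i.le ⟨b, a _ (U.inv_mem hu)⟩)
    rw [inv_inv, inv_mul_eq_one] at this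
    exact this.symm
  · refine ((four_of_natSL hU.2).ne_bot (le_bot_iff.1 (i ▸ le_inf le_rfl fun u hu => ?_))).elim
    have b := le_centralizer_iff.1 (f.cent _ (Pl.conj hU hg.1 (nH hg.1)) U hU e) (conj_mem_cj g (U.inv_mem hu))
    exact (mul_mem_cancel_right b).1 (a u hu)

end fr

end H16.TV

open Cfsg Subgroup H26 H4 H16.TV in
theorem H16.tvs.{u} : H27.TVS.{u} := fun G _ _ S V h hV hJ => by
  have n := normalizer_le_normalizer_centralizer V
  have f := FFD.of_mF (h.ea hV) (sup_le (thompsonOf_le 2 _) inf_le_left)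
    (ffd_thompson (h.ea hV) le_normalizer le_rfl (pSol_of_solvable (h.solM hV)) (h.red hV))
  set H := thompsonSubgroupOf 2 (𝐍 V) ⊔ 𝐍 V ⊓ 𝐂 V
  have hM : H ≤ 𝐍 V := f.nm
  have nH : 𝐍 V ≤ 𝐍 H := le_normalizer_sup (le_normalizer_thompsonOf 2 _) (le_normalizer_inf le_normalizer n)
  have jH : thompsonSubgroupOf 2 S ≤ H := (thompsonOf_le_of_isSyl h.sylM).trans le_sup_left
  obtain ⟨W, hW, z, tr⟩ := orbit h hV f nH (f.nonempty fun k => hJ (jH.trans k))
  have up : ∀ U, plE V H U ≤ plE V (𝐍 V) U := fun U => inf_le_inf_right _ hM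
  refine ⟨Pl 2 V H, fun U hU => four_of_natSL hU.2, fun U hU => hU.1, fun U hU g hg => Pl.conj hU hg (nH hg),
    fun U hU U' hU' => ?_, fun U hU => ?_, fun U hU => ?_, fun U hU U' hU' => cent f nH hU hU', ?_,
    fun U hU => jH.trans (f.le_normalizer hU)⟩
  · obtain ⟨s, hs, rfl⟩ := tr U hU
    obtain ⟨s', hs', rfl⟩ := tr U' hU'
    exact ⟨s' * s⁻¹, mul_mem hs' (inv_mem hs), by rw [← cj_mul, inv_mul_cancel_right]⟩
  · obtain ⟨ρ, r1, r2, r3⟩ := (four_of_natSL hU.2).exists_three hU.2.le_normalizer (not_res_le hU.2)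
    exact ⟨ρ, up U r1, f.inf U hU ⟨pow_mem r1 3, r2⟩, fun k => r3 (centralizer_anti hU.1 k)⟩
  · obtain ⟨A, hA, a⟩ : ∃ A ∈ MaxEA 2 S, ¬ A ≤ 𝐂 V := by
      by_contra k
      push Not at k
      exact hJ (thompsonOf_le_iff.2 k)
    have aJ := MaxEA.le_thompsonOf hA
    obtain ⟨U', hU', b⟩ : ∃ U' ∈ Pl 2 V H, ¬ (A ⊔ 𝐂 V) ⊓ plE V H U' ≤ 𝐂 V := by
      by_contra k
      push Not at k
      refine a ((f.off A (aJ.trans jH) (MaxEA.isBestOffenderOn hA (h.V_le_S hV) (h.ea hV))).trans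
        (sup_le (sSup_le ?_) le_rfl))
      rintro _ ⟨U', hU', rfl⟩
      exact k U' hU'
    obtain ⟨x, ⟨x1, x2⟩, x3⟩ := SetLike.not_le_iff_exists.1 b
    obtain ⟨t, ht, c, hc, rfl⟩ := (mem_sup_of_le_normalizer (((aJ.trans jH).trans hM).trans n)).1 x1
    have t1 : t ∈ plE V (𝐍 V) U' := (mul_mem_cancel_right
      (inf_le_plE hU'.1 ⟨centralizer_le_normalizer _ hc, hc⟩)).1 (up U' x2)
    obtain ⟨s, hs, rfl⟩ := tr U hU
    obtain ⟨s', hs', rfl⟩ := tr U' hU'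
    have m := mul_mem hs (inv_mem hs')
    refine ⟨s * s'⁻¹ * t * (s * s'⁻¹)⁻¹, conj_mem_of_mem_normalizer (le_normalizer_thompsonOf 2 S m) (aJ ht), ?_,
      fun k => x3 (mul_mem ?_ hc)⟩
    · have := conj_mem_cj (s * s'⁻¹) t1
      rwa [cj_plE hU'.1 (h.le m) (le_normalizer (h.le m)), ← cj_mul, inv_mul_cancel_right] at this
    · have := conj_mem_of_mem_normalizer' (n (h.le m)) k
      rwa [show (s * s'⁻¹)⁻¹ * (s * s'⁻¹ * t * (s * s'⁻¹)⁻¹) * (s * s'⁻¹) = t by group] at this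
  · have := f.span
    rw [z, bot_sup_eq] at this
    exact this.ge
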