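import Mathlib

/-! The Artin-Zorn theorem (`artin_zorn`: finite alternative division rings are fields), Hua's identity (`hua`) and
`field_of_bil`: a finite pre-semifield with both inverse properties is isotopic to a field; partitions of abelian
groups (`Spr`): kernel field `Spr.exists_module`, geometric partitions of rank `≥ 3` (`Spr.exists_ker`). -/

set_option autoImplicit false
set_option linter.unusedSectionVars false

namespace H16

theorem hua {R : Type*} [Ring R] (S : AddSubgroup R) (h : ∀ s ∈ S, s ≠ 0 → ∃ t ∈ S, s * t = 1 ∧ t * s = 1)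
    {a b : R} (ha : a ∈ S) (hb : b ∈ S) : a * b * a ∈ S := by
  by_cases a0 : a = 0
  · simp [a0]
  by_cases b0 : b = 0
  · simp [b0]
  obtain ⟨a', ha', a1, -⟩ := h a ha a0
  obtain ⟨b', hb', b1, b2⟩ := h b hb b0
  by_cases c0 : b' - a = 0
  · rwa [← sub_eq_zero.1 c0, b2, one_mul]
  obtain ⟨c', hc', c1, -⟩ := h _ (sub_mem hb' ha) c0
  have e : (a - a * b * a) * (a' + c') = 1 := by
    have : a - a * b * a = a * b * (b' - a) := by rw [mul_sub, mul_assoc a b b', b1, mul_one]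
    rw [mul_add]
    nth_rw 2 [this]
    rw [mul_assoc (a * b), c1, sub_mul, mul_assoc (a * b), a1]; noncomm_ring
  obtain ⟨d, hd, d1, -⟩ := h _ (add_mem ha' hc') (by
    intro e0
    rw [e0, mul_zero] at e
    exact a0 (by rw [← mul_one a, ← e, mul_zero]))
  have : a * b * a = a - d := by rw [← one_mul d, ← e, mul_assoc _ _ d, d1, mul_one, sub_sub_cancel]
  exact this ▸ sub_mem ha hd

theorem eq_of_lin {A : Type*} [AddCommGroup A] {a b c d : A} (h : a = b) (e : c - d = a - b) : c = d := by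
  rwa [h, sub_self, sub_eq_zero] at e

section Alt
variable {D : Type*} [NonAssocRing D]

/-- associator -/
def asc (x y z : D) : D := x * y * z - x * (y * z)

/-- right-nested product of a word -/
def evw : List D → D
  | [] => 1
  | x :: l => x * evw l

theorem artin (hl : ∀ x y : D, x * x * y = x * (x * y)) (hm : ∀ x y a : D, y * x * a * x = y * (x * a * x))
    (a b : D) (u v w : List D) (hu : ∀ x ∈ u, x = a ∨ x = b) (hv : ∀ x ∈ v, x = a ∨ x = b)
    (hw : ∀ x ∈ w, x = a ∨ x = b) : asc (evw u) (evw v) (evw w) = 0 := by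
  have hr : ∀ x y : D, y * x * x = y * (x * x) := fun x y => by simpa using hm x y 1
  have s1 : ∀ x y z : D, asc x y z = -asc y x z := fun x y z => by
    have := hl (x + y) z
    simp only [mul_add, add_mul, hl] at this
    simp only [asc]
    exact eq_of_lin this (by abel)
  have s2 : ∀ x y z : D, asc x y z = -asc x z y := fun x y z => by
    have := hr (y + z) x
    simp only [mul_add, add_mul, hr] at this
    simp only [asc]
    exact eq_of_lin this (by abel)
  have m1 : ∀ y x c : D, asc y (x * c) x = -(asc y x c * x) := fun y x c => by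
    simp only [asc, sub_mul, hm, neg_sub]
  have m2 : ∀ y x c z : D, asc y (x * c) z = -asc y (z * c) x - asc y x c * z - asc y z c * x := fun y x c z => by
    have := m1 y (x + z) c
    have e1 := m1 y x c
    have e2 := m1 y z c
    simp only [asc, mul_add, add_mul, sub_mul] at this e1 e2 ⊢
    exact eq_of_lin (congrArg₂ (· - ·) (congrArg₂ (· - ·) this e1) e2) (by abel)
  induction hn : u.length + v.length + w.length using Nat.strong_induction_on generalizing u v w with | _ n ih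
  have app : ∀ p q : List D, (∀ x ∈ p, x = a ∨ x = b) → (∀ x ∈ q, x = a ∨ x = b) → p.length + q.length < n →
      evw p * evw q = evw (p ++ q) := fun p q hp hq h => by
    induction p with
    | nil => simp [evw]
    | cons x p ihp =>
      have := ih _ (by simp at h ⊢; omega) [x] p q (by simpa using hp x (by simp)) (fun y hy => hp y (by simp [hy])) hq rfl
      rw [List.cons_append, evw, evw, ← ihp (fun y hy => hp y (by simp [hy])) (by simp at h; omega)]
      simpa [evw, asc, sub_eq_zero] using this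
  have key : ∀ (x : D) (p q r : List D), (x = a ∨ x = b) → (∀ x ∈ p, x = a ∨ x = b) → (∀ x ∈ q, x = a ∨ x = b) →
      (∀ x ∈ r, x = a ∨ x = b) → p.length + q.length + r.length + 2 = n →
      asc (evw p) (evw (x :: q)) (evw (x :: r)) = 0 := fun x p q r hx hp hq hr h => by
    have e : ∀ p q r : List D, (∀ x ∈ p, x = a ∨ x = b) → (∀ x ∈ q, x = a ∨ x = b) → (∀ x ∈ r, x = a ∨ x = b) →
        p.length + q.length + r.length < n → asc (evw p) (evw q) (evw r) = 0 := fun p q r hp hq hr h =>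
      ih _ h p q r hp hq hr rfl
    obtain rfl | hp0 := p.eq_nil_or_concat'
    · simp [evw, asc]
    replace hp0 : 0 < p.length := by obtain ⟨_, _, rfl⟩ := hp0; simp
    have hx' : ∀ y ∈ [x], y = a ∨ y = b := by simpa using hx
    have hxr : ∀ y ∈ x :: r, y = a ∨ y = b := by simpa using ⟨hx, hr⟩
    have e1 := e (x :: r) [x] q hxr hx' hq (by simp only [List.length_cons, List.length_nil]; omega)
    have e2 := e (x :: r) p q hxr hp hq (by simp only [List.length_cons]; omega)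
    have e3 := e (p ++ q) [x] r (by simpa [or_imp, forall_and] using ⟨hp, hq⟩) hx' hr (by simp only [List.length_append, List.length_singleton]; omega)
    simp only [evw, mul_one] at e1 e2 e3 ⊢
    rw [s2, s1 (evw p), s2 (x * evw r), m2, e1, e2, app p q hp hq (by omega), s1 (x * evw r), m1, e3]
    simp
  rcases u with _ | ⟨x, u⟩
  · simp [evw, asc]
  rcases v with _ | ⟨y, v⟩
  · simp [evw, asc]
  rcases w with _ | ⟨z, w⟩
  · simp [evw, asc]
  have hu' := List.forall_mem_cons.1 hu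
  have hv' := List.forall_mem_cons.1 hv
  have hw' := List.forall_mem_cons.1 hw
  simp only [List.length_cons] at hn
  by_cases h1 : y = z
  · subst h1; exact key y _ v w hv'.1 hu hv'.2 hw'.2 (by simp; omega)
  by_cases h2 : x = z
  · subst h2; rw [s1, key x _ u w hu'.1 hv hu'.2 hw'.2 (by simp; omega), neg_zero]
  obtain rfl : x = y := by grind
  rw [s2, s1, key x _ u v hu'.1 hw hu'.2 hv'.2 (by simp; omega)]
  simp

theorem artin_zorn [Finite D] [NoZeroDivisors D] (hl : ∀ x y : D, x * x * y = x * (x * y))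
    (hm : ∀ x y a : D, y * x * a * x = y * (x * a * x)) :
    (∀ x y z : D, x * y * z = x * (y * z)) ∧ ∀ x y : D, x * y = y * x := by
  nontriviality D
  let W : D → D → AddSubgroup D := fun a b => AddSubgroup.closure (evw '' {u | ∀ x ∈ u, x = a ∨ x = b})
  have as : ∀ a b, ∀ x ∈ W a b, ∀ y ∈ W a b, ∀ z ∈ W a b, x * y * z = x * (y * z) := fun a b x hx y hy z hz => by
    induction hx using AddSubgroup.closure_induction with
    | mem x hx =>
      induction hy using AddSubgroup.closure_induction with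
      | mem y hy =>
        induction hz using AddSubgroup.closure_induction with
        | mem z hz =>
          obtain ⟨u, hu, rfl⟩ := hx
          obtain ⟨v, hv, rfl⟩ := hy
          obtain ⟨w, hw, rfl⟩ := hz
          exact sub_eq_zero.1 (artin hl hm a b u v w hu hv hw)
        | _ => simp_all [mul_add]
      | _ => simp_all [mul_add, add_mul]
    | _ => simp_all [add_mul]
  have m1 : ∀ a b, 1 ∈ W a b := fun a b => AddSubgroup.subset_closure ⟨[], by simp, rfl⟩
  have ma : ∀ a b, a ∈ W a b := fun a b => AddSubgroup.subset_closure ⟨[a], by simp, mul_one a⟩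
  have mb : ∀ a b, b ∈ W a b := fun a b => AddSubgroup.subset_closure ⟨[b], by simp, mul_one b⟩
  have mm : ∀ a b, ∀ x ∈ W a b, ∀ y ∈ W a b, x * y ∈ W a b := fun a b x hx y hy => by
    induction hx using AddSubgroup.closure_induction with
    | mem x hx =>
      induction hy using AddSubgroup.closure_induction with
      | mem y hy =>
        obtain ⟨u, hu, rfl⟩ := hx
        obtain ⟨v, hv, rfl⟩ := hy
        refine AddSubgroup.subset_closure ⟨u ++ v, by simpa [or_imp, forall_and] using ⟨hu, hv⟩, ?_⟩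
        induction u with
        | nil => simp [evw]
        | cons x u ih =>
          have h := List.forall_mem_cons.1 hu
          have := artin hl hm a b [x] u v (by simpa using h.1) h.2 hv
          rw [List.cons_append, evw, evw, ih h.2]
          simpa [evw, asc, sub_eq_zero, eq_comm] using this
      | zero => simp
      | add y z _ _ h1 h2 => rw [mul_add]; exact add_mem h1 h2
      | neg y _ h => rw [mul_neg]; exact neg_mem h
    | zero => simp
    | add y z _ _ h1 h2 => rw [add_mul]; exact add_mem h1 h2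
    | neg y _ h => rw [neg_mul]; exact neg_mem h
  have key : ∀ a b : D, a * b = b * a ∧ ∃ w, ∀ z, a ∈ W w z ∧ b ∈ W w z := fun a b => by
    let S : Subring D := { W a b with one_mem' := m1 a b, mul_mem' := fun h1 h2 => mm a b _ h1 _ h2 }
    let _ : Ring S := { (inferInstance : NonAssocRing S) with
      mul_assoc := fun x y z => Subtype.ext (as a b _ x.2 _ y.2 _ z.2) }
    have : NoZeroDivisors S := ⟨fun h => (mul_eq_zero.1 (congrArg Subtype.val h)).imp Subtype.ext Subtype.ext⟩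
    have : IsDomain S := NoZeroDivisors.to_isDomain S
    let _ := (Finite.isDomain_to_isField S).toField
    refine ⟨congrArg Subtype.val (mul_comm (⟨a, ma a b⟩ : S) ⟨b, mb a b⟩), ?_⟩
    obtain ⟨w, hw⟩ := IsCyclic.exists_monoid_generator (α := Sˣ)
    have : ∀ z (s : S), (s : D) ∈ W ((w : S) : D) z := fun z s => by
      by_cases s0 : s = 0
      · simp [s0]
      obtain ⟨k, hk⟩ := hw (Units.mk0 s s0)
      rw [show s = (w : S) ^ k from (congrArg Units.val hk).symm.trans (Units.val_pow_eq_pow_val w k)]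
      clear hk
      induction k with
      | zero => exact m1 _ _
      | succ k ih => rw [pow_succ]; exact mm _ _ _ ih _ (ma _ _)
    exact ⟨_, fun z => ⟨this z ⟨a, ma a b⟩, this z ⟨b, mb a b⟩⟩⟩
  refine ⟨fun x y z => ?_, fun x y => (key x y).1⟩
  obtain ⟨w, hw⟩ := (key x y).2
  exact as w z _ (hw z).1 _ (hw z).2 _ (mb w z)

end Alt

theorem inv_closed {R : Type*} [Ring R] {M M' : AddSubgroup R} (h1 : 1 ∈ M) (h1' : 1 ∈ M')
    (h : ∀ m ∈ M, m ≠ 0 → ∃ t ∈ M', m * t = 1 ∧ t * m = 1) (h' : ∀ t ∈ M', t ≠ 0 → ∃ m ∈ M, t * m = 1 ∧ m * t = 1) :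
    ∀ m ∈ M, m ≠ 0 → ∃ t ∈ M, m * t = 1 ∧ t * m = 1 := fun m hm m0 => by
  by_cases e : 1 + m = 0
  · obtain rfl := eq_neg_of_add_eq_zero_right e
    exact ⟨-1, hm, by simp, by simp⟩
  obtain ⟨s, hs, s1, s2⟩ := h _ (add_mem h1 hm) e
  have e1 : 1 - s = m * s := by rw [← s1]; noncomm_ring
  have e2 : 1 - s = s * m := by rw [← s2]; noncomm_ring
  obtain ⟨u, hu, u1, u2⟩ := h' _ (sub_mem h1' hs) fun e0 => m0 (by
    rw [← mul_one m, ← s2, ← mul_assoc, ← e1, e0, zero_mul])
  refine ⟨u - 1, sub_mem hu h1, ?_, ?_⟩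
  · rw [show u - 1 = s * u by rw [← u1]; noncomm_ring, ← mul_assoc, ← e1, u1]
  · rw [show u - 1 = u * s by rw [← u2]; noncomm_ring, mul_assoc, ← e2, u2]

theorem moufang_of_bil {X Y Z : Type*} [AddCommGroup X] [AddCommGroup Y] [AddCommGroup Z] (β : X →+ Y →+ Z)
    (l : Y ≃+ Z) {x₀ : X} (hl : ∀ y, l y = β x₀ y) (L : AddSubgroup (Z →+ Y))
    (h1 : ∀ x, x ≠ 0 → ∃ g ∈ L, (∀ y, g (β x y) = y) ∧ ∀ z, β x (g z) = z)
    (h2 : ∀ g ∈ L, g ≠ 0 → ∃ x, (∀ y, g (β x y) = y) ∧ ∀ z, β x (g z) = z) (h0 : x₀ ≠ 0) (a b : X) :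
    ∃ c, ∀ y, β a (l.symm (β b (l.symm (β a y)))) = β c y := by
  let f : X →+ AddMonoid.End Z := AddMonoidHom.mk' (fun x => (β x).comp l.symm) fun a b =>
    AddMonoidHom.ext fun z => DFunLike.congr_fun (map_add β a b) _
  let g : (Z →+ Y) →+ AddMonoid.End Z := AddMonoidHom.mk' (fun x => l.toAddMonoidHom.comp x) fun a b =>
    AddMonoidHom.ext fun z => map_add l _ _
  have inv : ∀ x s, (∀ y, s (β x y) = y) → (∀ z, β x (s z) = z) → f x * g s = 1 ∧ g s * f x = 1 := fun x s e1 e2 =>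
    ⟨AddMonoidHom.ext fun z => (congrArg (β x) (l.symm_apply_apply _)).trans (e2 z),
      AddMonoidHom.ext fun z => (congrArg l (e1 _)).trans (l.apply_symm_apply z)⟩
  have f0 : f x₀ = 1 := AddMonoidHom.ext fun z => (hl _).symm.trans (l.apply_symm_apply z)
  obtain ⟨c, hc⟩ := hua f.range (inv_closed (M' := L.map g) ⟨x₀, f0⟩ (by
      obtain ⟨s, hs, e1, e2⟩ := h1 x₀ h0
      exact ⟨s, hs, by simpa [f0] using (inv _ _ e1 e2).1⟩)
    (by
      rintro _ ⟨x, rfl⟩ hx
      obtain ⟨s, hs, e1, e2⟩ := h1 x (by rintro rfl; simp at hx)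
      exact ⟨_, ⟨s, hs, rfl⟩, inv _ _ e1 e2⟩)
    (by
      rintro _ ⟨s, hs, rfl⟩ hx
      obtain ⟨x, e1, e2⟩ := h2 s hs (by rintro rfl; simp at hx)
      exact ⟨_, ⟨x, rfl⟩, (inv _ _ e1 e2).symm⟩)) ⟨a, rfl⟩ ⟨b, rfl⟩
  refine ⟨c, fun y => ?_⟩
  have : β c (l.symm (l y)) = β a (l.symm (β b (l.symm (β a (l.symm (l y)))))) := DFunLike.congr_fun hc (l y)
  simpa using this.symm

theorem field_of_bil {X Y Z : Type*} [AddCommGroup X] [AddCommGroup Y] [AddCommGroup Z] [Finite Z]
    (β : X →+ Y →+ Z) (L : AddSubgroup (Z →+ Y)) (R : AddSubgroup (Z →+ X))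
    (h1 : ∀ x, x ≠ 0 → ∃ g ∈ L, (∀ y, g (β x y) = y) ∧ ∀ z, β x (g z) = z)
    (h2 : ∀ g ∈ L, g ≠ 0 → ∃ x, (∀ y, g (β x y) = y) ∧ ∀ z, β x (g z) = z)
    (h3 : ∀ y, y ≠ 0 → ∃ g ∈ R, (∀ x, g (β x y) = x) ∧ ∀ z, β (g z) y = z)
    (h4 : ∀ g ∈ R, g ≠ 0 → ∃ y, (∀ x, g (β x y) = x) ∧ ∀ z, β (g z) y = z)
    {x₀ : X} {y₀ : Y} (hx : x₀ ≠ 0) (hy : y₀ ≠ 0) :
    ∃ (F : Type) (_ : Field F) (eX : X ≃+ F) (eY : Y ≃+ F) (eZ : Z ≃+ F), ∀ x y, eZ (β x y) = eX x * eY y := by
  obtain ⟨g, -, g1, g2⟩ := h1 x₀ hx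
  obtain ⟨k, -, k1, k2⟩ := h3 y₀ hy
  let l : Y ≃+ Z := { β x₀ with invFun := g, left_inv := g1, right_inv := g2 }
  let r : X ≃+ Z := { β.flip y₀ with invFun := k, left_inv := k1, right_inv := k2 }
  let _ : NonAssocRing Z :=
    { ‹AddCommGroup Z› with
      mul := fun a b => β (k a) (g b)
      one := β x₀ y₀
      left_distrib := fun a b c => by simp [HMul.hMul]
      right_distrib := fun a b c => by simp [HMul.hMul]
      zero_mul := fun a => by simp [HMul.hMul]
      mul_zero := fun a => by simp [HMul.hMul]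
      one_mul := fun a => (congrArg (β · (g a)) (k1 x₀)).trans (g2 a)
      mul_one := fun a => (congrArg (β (k a)) (g1 y₀)).trans (k2 a) }
  have hm : ∀ a b : Z, a * b = β (k a) (g b) := fun _ _ => rfl
  have : NoZeroDivisors Z := ⟨fun {a b} h => or_iff_not_imp_left.2 fun ha => by
    obtain ⟨s, -, s1, -⟩ := h1 (k a) fun e => ha (by rw [← k2 a, e]; simp)
    rw [← g2 b, ← s1 (g b), ← hm, h]; simp⟩
  have : Nontrivial Z := ⟨⟨_, _, fun e : β x₀ y₀ = 0 => hy (by rw [← g1 y₀, e, map_zero])⟩⟩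
  obtain ⟨e1, e2⟩ := artin_zorn (D := Z) (fun a y => by
      obtain ⟨c, hc⟩ := moufang_of_bil β l (fun _ => rfl) L h1 h2 hx (k a) x₀
      have h : ∀ y, β (k a) (g (β (k a) y)) = β c y := fun y => by rw [← hc]; exact congrArg _ (g1 _).symm
      rw [hm, hm, hm, hm, h, ← k1 c, ← h, k2])
    fun a y b => by
      obtain ⟨c, hc⟩ := moufang_of_bil β.flip r (fun _ => rfl) R h3 h4 hy (g a) (g b)
      have h : ∀ x, β (k (β (k (β x (g a))) (g b))) (g a) = β x c := hc
      simp only [hm]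
      rw [h, ← g1 c, ← h, g2]
  let _ : Ring Z := { (inferInstance : NonAssocRing Z) with mul_assoc := e1 }
  have : IsDomain Z := NoZeroDivisors.to_isDomain Z
  let _ := (Finite.isDomain_to_isField Z).toField
  let e := (Shrink.ringEquiv.{0} Z).symm
  exact ⟨Shrink.{0} Z, inferInstance, r.trans e.toAddEquiv, l.trans e.toAddEquiv, e.toAddEquiv, fun x y =>
    (congrArg e (congrArg₂ (β · ·) (k1 x) (g1 y)).symm).trans (map_mul e (r x) (l y))⟩

section Spread
variable {V : Type*} [AddCommGroup V] {C : V → AddSubgroup V}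

/-- a partition of an abelian group into components `C v` -/
structure Spr (C : V → AddSubgroup V) : Prop where
  zero : C 0 = ⊥
  mem : ∀ v, v ∈ C v
  eq : ∀ {v w}, w ∈ C v → w ≠ 0 → C w = C v

namespace Spr
variable (h : Spr C)
include h

theorem symm {v w : V} (hv : v ≠ 0) (hw : w ∉ C v) : v ∉ C w := fun e => hw (h.eq e hv ▸ h.mem w)

theorem disj {v w x : V} (hw : w ∉ C v) (h1 : x ∈ C v) (h2 : x ∈ C w) : x = 0 := by_contra fun e =>
  hw (h.eq h1 e ▸ (h.eq h2 e).symm ▸ h.mem w)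

theorem sub_comm {x v w : V} (e : x ∈ C (v - w)) : x ∈ C (w - v) := by
  by_cases h0 : w - v = 0
  · rwa [h0, ← neg_zero, ← h0, neg_sub]
  · rwa [h.eq (show w - v ∈ C (v - w) from neg_sub v w ▸ neg_mem (h.mem _)) h0]

theorem uniq {v w v' w' w'' : V} (hv : v ∉ C w) (h1 : w' ∈ C w) (h2 : w'' ∈ C w) (e1 : v' - w' ∈ C (v - w))
    (e2 : v' - w'' ∈ C (v - w)) : w' = w'' := sub_eq_zero.1 (h.disj (w := v - w)
  (fun e => hv (by simpa using add_mem e (h.mem w))) (sub_mem h1 h2) (by simpa using sub_mem e2 e1))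

theorem exists_module [Finite V] (hn : ∀ v, C v ≠ ⊤)
    (hk : ∀ a, ∀ a' ∈ C a, ∃ φ : V →+ V, φ a = a' ∧ ∀ v, φ v ∈ C v) :
    ∃ (F : Type) (_ : Field F) (_ : Module F V), ∀ v w, w ∈ C v ↔ ∃ c : F, w = c • v := by
  let K : Subring (AddMonoid.End V) :=
    { carrier := {φ | ∀ v, φ v ∈ C v}
      one_mem' := h.mem
      zero_mem' := fun v => zero_mem _
      add_mem' := fun h1 h2 v => add_mem (h1 v) (h2 v)
      neg_mem' := fun h1 v => neg_mem (h1 v)
      mul_mem' := fun {φ ψ} h1 h2 v => by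
        by_cases e : ψ v = 0
        · simp [e]
        · exact h.eq (h2 v) e ▸ h1 (ψ v) }
  have ex : ∀ v, ∃ w, w ∉ C v := fun v => by simpa [AddSubgroup.eq_top_iff'] using hn v
  have inj : ∀ φ ∈ K, ∀ v, v ≠ 0 → φ v = 0 → φ = 0 := fun φ hφ v hv e => by
    have h1 : ∀ w, w ∉ C v → φ w = 0 := fun w hw => (h.uniq (v := v) (v' := 0) (h.symm hv hw) (hφ w) (zero_mem _)
      (by simpa [e] using hφ (v - w)) (by simp))
    refine AddMonoidHom.ext fun w => by_contra fun hw => ?_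
    obtain ⟨u, hu⟩ := ex v
    have h2 : w ∈ C v := by_contra fun e => hw (h1 w e)
    have := h1 (w + u) fun e => hu (by simpa using sub_mem e h2)
    rw [map_add, h1 u hu, add_zero] at this
    exact hw this
  obtain ⟨u, hu⟩ := ex 0
  have u0 : u ≠ 0 := fun e => hu (by simp [e])
  have : Nontrivial K := ⟨⟨1, 0, fun e => u0 (DFunLike.congr_fun (congrArg Subtype.val e) u)⟩⟩
  have : NoZeroDivisors K := ⟨fun {a b} e => or_iff_not_imp_right.2 fun hb => Subtype.ext (inj _ a.2 (b.1 u)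
    (fun e => hb (Subtype.ext (inj _ b.2 u u0 e))) (DFunLike.congr_fun (congrArg Subtype.val e) u))⟩
  have : IsDomain K := NoZeroDivisors.to_isDomain K
  have : Finite K := Finite.of_injective _
    ((DFunLike.coe_injective (F := AddMonoid.End V)).comp Subtype.val_injective)
  let _ := (Finite.isDomain_to_isField K).toField
  let e := Shrink.ringEquiv.{0} K
  refine ⟨Shrink.{0} K, inferInstance, Module.compHom V (K.subtype.comp e.toRingHom), fun v w =>
    ⟨fun hw => ?_, fun ⟨c, hc⟩ => hc ▸ (e c).2 v⟩⟩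
  obtain ⟨φ, h1, h2⟩ := hk v w hw
  exact ⟨e.symm ⟨φ, h2⟩, h1.symm.trans (congrArg (fun k : K => k.1 v) (e.apply_symm_apply ⟨φ, h2⟩).symm)⟩

variable (hg : ∀ {u v w}, u ∈ C v ⊔ C w → C u ≤ C v ⊔ C w)
include hg

theorem ex {v v' : V} (w : V) (hv : v' ∈ C v) : ∃ w' ∈ C w, v' - w' ∈ C (v - w) := by
  obtain ⟨a, ha, b, hb, rfl⟩ := AddSubgroup.mem_sup.1 (hg (AddSubgroup.mem_sup.2
    ⟨w, h.mem w, _, h.mem (v - w), add_sub_cancel w v⟩) hv)
  exact ⟨a, ha, by simpa using hb⟩

theorem exch {a b x y : V} (hy : y ∈ C a ⊔ C b) (hx : x ∈ C a ⊔ C b) (y0 : y ≠ 0) (hxy : x ∉ C y) :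
    a ∈ C y ⊔ C x := by
  obtain ⟨a₁, ha, b₁, hb, rfl⟩ := AddSubgroup.mem_sup.1 hy
  by_cases b0 : b₁ = 0
  · subst b0
    rw [add_zero] at *
    exact AddSubgroup.mem_sup_left (h.eq ha y0 ▸ h.mem a)
  have h1 : C b ≤ C a ⊔ C (a₁ + b₁) := h.eq hb b0 ▸ hg (by
    simpa using sub_mem (AddSubgroup.mem_sup_right (h.mem (a₁ + b₁))) (AddSubgroup.mem_sup_left ha))
  obtain ⟨a₂, ha₂, c, hc, rfl⟩ := AddSubgroup.mem_sup.1 (sup_le le_sup_left h1 hx)
  refine hg (u := a₂) ?_ (h.eq ha₂ (by rintro rfl; exact hxy (by simpa using hc)) ▸ h.mem a)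
  simpa using sub_mem (AddSubgroup.mem_sup_right (h.mem (a₂ + c))) (AddSubgroup.mem_sup_left hc)

theorem des {u v w u' v' w' : V} (hu : u ∉ C v ⊔ C w) (hw : w ∉ C v) (h1 : v' ∈ C v) (h2 : w' ∈ C w)
    (e1 : u' - v' ∈ C (u - v)) (e2 : u' - w' ∈ C (u - w)) : v' - w' ∈ C (v - w) := by_contra fun e => by
  have s : ∀ {a b}, a ∈ C v → b ∈ C w → a - b ∈ C v ⊔ C w := fun ha hb =>
    sub_mem (AddSubgroup.mem_sup_left ha) (AddSubgroup.mem_sup_right hb)
  have := h.exch hg (a := u - v) (b := u - w) (y := v - w) (x := v' - w')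
    (by simpa using sub_mem (AddSubgroup.mem_sup_right (h.mem (u - w))) (AddSubgroup.mem_sup_left (h.mem (u - v))))
    (by simpa using sub_mem (AddSubgroup.mem_sup_right e2) (AddSubgroup.mem_sup_left e1))
    (fun e => hw (sub_eq_zero.1 e ▸ h.mem v)) e
  have := add_mem (sup_le (hg (s (h.mem v) (h.mem w))) (hg (s h1 h2)) this) (AddSubgroup.mem_sup_left (h.mem v))
  exact hu (by simpa using this)

variable (h3 : ∀ v w, C v ⊔ C w ≠ ⊤)
include h3

theorem stage {a a' : V} {φ : V → V} (a0 : a ≠ 0) (hφ : ∀ v, φ v ∈ C v) (ha : ∀ v, v ∉ C a → a' - φ v ∈ C (a - v))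
    {v w : V} (hv : v ∉ C a) (hw : w ∉ C a) (hvw : w ∉ C v) : φ v - φ w ∈ C (v - w) := by
  by_cases e : a ∈ C v ⊔ C w
  swap
  · exact h.des hg e hvw (hφ v) (hφ w) (ha v hv) (ha w hw)
  obtain ⟨x, hx⟩ : ∃ x, x ∉ C v ⊔ C w := by simpa [AddSubgroup.eq_top_iff'] using h3 v w
  have xa : x ∉ C a := fun e' => hx (hg e e')
  have key : ∀ y, y ∉ C a → C y ≤ C v ⊔ C w → φ x - φ y ∈ C (x - y) := fun y ya hy => h.des hg
    (fun e' => hx (sup_le (hg e) hy (h.exch hg e' (AddSubgroup.mem_sup_right (h.mem y)) a0 ya)))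
    (h.symm (fun e => ya (e ▸ zero_mem _)) fun e => hx (hy e)) (hφ x) (hφ y) (ha x xa) (ha y ya)
  exact h.des hg hx hvw (hφ v) (hφ w) (key v hv le_sup_left) (key w hw le_sup_right)

theorem exists_ker (a : V) (a' : V) (ha : a' ∈ C a) : ∃ φ : V →+ V, φ a = a' ∧ ∀ v, φ v ∈ C v := by
  classical
  by_cases a0 : a = 0
  · exact ⟨0, by rw [a0, h.zero] at ha; exact ha.symm, fun v => zero_mem _⟩
  have ex1 : ∀ v w, ∃ x, x ∉ C v ∧ x ∉ C w := fun v w => by
    obtain ⟨x, hx⟩ : ∃ x, x ∉ C v ⊔ C w := by simpa [AddSubgroup.eq_top_iff'] using h3 v w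
    exact ⟨x, fun e => hx (AddSubgroup.mem_sup_left e), fun e => hx (AddSubgroup.mem_sup_right e)⟩
  obtain ⟨b, hb, -⟩ := ex1 a a
  have b0 : b ≠ 0 := fun e => hb (e ▸ zero_mem _)
  choose f f1 f2 using fun w => h.ex hg w ha
  choose g g1 g2 using fun w => h.ex hg w (f1 b)
  let φ : V → V := fun v => if v ∈ C a then g v else f v
  have p1 : ∀ v, φ v ∈ C v := fun v => by simp only [φ]; split_ifs; exacts [g1 v, f1 v]
  have s1 := @h.stage _ _ _ hg h3 a a' φ a0 p1 fun v hv => by simpa only [φ, if_neg hv] using f2 v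
  have s2 := @h.stage _ _ _ hg h3 b (φ b) φ b0 p1 fun v hv => by
    by_cases e : v ∈ C a
    · simpa only [φ, if_neg hb, if_pos e] using g2 v
    · exact s1 hb e hv
  have s3 : ∀ v w, v ≠ 0 → w ∉ C v → v ∈ C a → φ v - φ w ∈ C (v - w) := fun v w v0 hw hv => by
    have vb : v ∉ C b := fun e => v0 (h.disj hb hv e)
    by_cases e : w ∈ C b
    swap
    · exact s2 vb e hw
    have w0 : w ≠ 0 := fun e => hw (e ▸ zero_mem _)
    obtain ⟨x, hx⟩ : ∃ x, x ∉ C v ⊔ C w := by simpa [AddSubgroup.eq_top_iff'] using h3 v w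
    have x1 : x ∉ C v := fun e => hx (AddSubgroup.mem_sup_left e)
    have x2 : x ∉ C w := fun e => hx (AddSubgroup.mem_sup_right e)
    exact h.des hg hx hw (p1 v) (p1 w) (s2 (h.eq e w0 ▸ x2) vb (h.symm v0 x1))
      (s1 (h.eq hv v0 ▸ x1) (h.eq hv v0 ▸ hw) (h.symm w0 x2))
  have s4 : ∀ v w, v ≠ 0 → w ∉ C v → φ v - φ w ∈ C (v - w) := fun v w v0 hw => by
    by_cases e : v ∈ C a
    · exact s3 v w v0 hw e
    by_cases e' : w ∈ C a
    · exact neg_sub (φ w) (φ v) ▸ neg_mem (h.sub_comm (s3 w v (fun e => hw (e ▸ zero_mem _)) (h.symm v0 hw) e'))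
    · exact s1 e e' hw
  have p0 : φ 0 = 0 := by simpa [h.zero] using p1 0
  have ad : ∀ u w, w ∉ C u → φ (u + w) = φ u + φ w := fun u w hw => by
    by_cases u0 : u = 0
    · simp [u0, p0]
    have w0 : w ≠ 0 := fun e => hw (e ▸ zero_mem _)
    have h1 : u + w ∉ C u := fun e => hw (by simpa using sub_mem e (h.mem u))
    have h2 : u + w ∉ C w := fun e => h.symm u0 hw (by simpa using sub_mem e (h.mem w))
    have v0 : u + w ≠ 0 := fun e => h1 (e ▸ zero_mem _)
    have := h.uniq h1 (p1 u) (by simpa using s4 _ _ v0 (h.symm w0 h2)) (s4 _ _ v0 (h.symm u0 h1))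
      (by simpa using p1 w)
    rw [this, sub_add_cancel]
  refine ⟨AddMonoidHom.mk' φ fun u w => ?_, h.uniq hb (p1 a) ha (s4 b a b0 (h.symm a0 hb)) ?_, p1⟩
  · by_cases e : w ∈ C u
    swap
    · exact ad u w e
    obtain ⟨x, x1, x2⟩ := ex1 u w
    have x3 : x ∉ C (u + w) := fun e' => by
      by_cases e0 : u + w = 0
      · rw [e0, h.zero] at e'; exact x1 (e' ▸ zero_mem _)
      · exact x1 (h.eq (add_mem (h.mem u) e) e0 ▸ e')
    have := ad u (w + x) fun e' => x1 (by simpa using sub_mem e' e)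
    rw [← add_assoc, ad _ _ x3, ad _ _ x2, ← add_assoc] at this
    exact add_right_cancel this
  · simpa only [φ, if_neg hb, neg_sub] using neg_mem (h.sub_comm (f2 b))

end Spr
end Spread

end H16
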