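import Cfsg.Agent.H16.Des
import Cfsg.Agent.H16.PFix
import Cfsg.Agent.H16.CRing2
import Cfsg.Agent.H16.Regular

/-! Derangements: `dvd_ncard_of_orbits`, `index_dvd_ncard` (the index of a normal subgroup containing the stabilisers
divides the size of an invariant set), `fix_one_of` (a subgroup containing all derangements is transitive and the
elements outside it fix exactly one point), the subgroup `der G Ω` generated by the derangements. -/

set_option autoImplicit false
set_option linter.unusedSectionVars false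

namespace H16
open Subgroup MulAction

variable {G Ω : Type*} [Group G] [Finite G] [MulAction G Ω] [Finite Ω]

theorem dvd_ncard_of_orbits (K : Subgroup G) (O : Set Ω) (hO : ∀ g ∈ K, ∀ x ∈ O, g • x ∈ O) {d : ℕ}
    (h : ∀ x ∈ O, d ∣ (stabilizer G x).relIndex K) : d ∣ O.ncard := by
  have := Fintype.ofFinite (orbitRel.Quotient K (subAct K O hO))
  rw [← Nat.card_coe_set_eq, show Nat.card O = _ from (sum_orbits (Ω := subAct K O hO) K).symm]
  refine Finset.dvd_sum fun q _ => ?_
  induction q using Quotient.inductionOn with | _ x =>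
  rw [orbitRel.Quotient.orbit_mk, H29.card_orbit_eq_index]
  exact (h x x.2).trans (dvd_of_eq (congrArg index (Subgroup.ext fun g =>
    (Subtype.ext_iff (a1 := g • x)).symm)))

theorem index_dvd_ncard {D : Subgroup G} [D.Normal] (K : Subgroup G) (hK : K ⊔ D = ⊤) (O : Set Ω)
    (hO : ∀ g ∈ K, ∀ x ∈ O, g • x ∈ O) (h : ∀ g ∈ K, ∀ x ∈ O, g • x = x → g ∈ D) : D.index ∣ O.ncard :=
  dvd_ncard_of_orbits K O hO fun x hx => by
    rw [← relIndex_top_right, ← hK, relIndex_sup_right, ← inf_relIndex_right (stabilizer G x)]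
    exact relIndex_dvd_of_le_left _ fun g hg => h g hg.2 x hx hg.1

theorem card_orb_one [Nonempty Ω] [IsPretransitive G Ω] : Nat.card (orbitRel.Quotient G Ω) = 1 :=
  Nat.card_eq_one_iff_unique.2 ⟨⟨fun a b => Quotient.inductionOn₂ a b fun a b => Quotient.sound (exists_smul_eq G b a)⟩,
    ⟨Quotient.mk _ (Classical.arbitrary Ω)⟩⟩

theorem fix_one_of [Nonempty Ω] [IsPretransitive G Ω] (D : Subgroup G) (h : ∀ g ∉ D, ∃ x : Ω, g • x = x) :
    IsPretransitive D Ω ∧ ∀ g ∉ D, ∀ x y : Ω, g • x = x → g • y = y → x = y := by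
  classical
  have := Fintype.ofFinite G
  have h1 := H29.sum_card_fixedBy (G := G) (Ω := Ω)
  have h2 : ∑ g : D, Nat.card (fixedBy Ω (g : G)) = _ := H29.sum_card_fixedBy (G := D) (Ω := Ω)
  rw [card_orb_one, one_mul, ← Finset.sum_filter_add_sum_filter_not _ (· ∈ D),
    Finset.sum_subtype (p := (· ∈ D)) _ (by simp), h2] at h1
  have h3 : ∀ g ∈ Finset.univ.filter (· ∉ D), 1 ≤ Nat.card (fixedBy Ω g) := fun g hg => by
    obtain ⟨x, hx⟩ := h g (by simpa using hg)
    have : Nonempty (fixedBy Ω g) := ⟨x, hx⟩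
    exact Nat.card_pos
  have h4 := Finset.sum_le_sum h3
  have h5 := Finset.card_filter_add_card_filter_not (s := Finset.univ) (· ∈ D)
  rw [← Fintype.card_subtype, Finset.card_univ, ← Nat.card_eq_fintype_card, ← Nat.card_eq_fintype_card] at h5
  rw [← Finset.card_eq_sum_ones] at h4
  have : Nonempty (orbitRel.Quotient D Ω) := ⟨Quotient.mk _ (Classical.arbitrary Ω)⟩
  have h6 : 0 < Nat.card (orbitRel.Quotient D Ω) := Nat.card_pos
  have h7 : 0 < Nat.card D := Nat.card_pos
  have h8 : Nat.card (orbitRel.Quotient D Ω) = 1 := by nlinarith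
  refine ⟨⟨fun a b => Quotient.exact ((Nat.card_eq_one_iff_unique.1 h8).1.elim (Quotient.mk (orbitRel D Ω) b)
    (Quotient.mk _ a))⟩, fun g hg x y hx hy => ?_⟩
  have := (Finset.sum_eq_sum_iff_of_le h3).1 (by rw [← Finset.card_eq_sum_ones]; rw [h8] at h1; omega) g (by simpa)
  exact congrArg Subtype.val ((Nat.card_eq_one_iff_unique.1 this.symm).1.elim (⟨x, hx⟩ : fixedBy Ω g) ⟨y, hy⟩)

theorem sup_eq_top_of_transitive (D : Subgroup G) [IsPretransitive D Ω] (a : Ω) : stabilizer G a ⊔ D = ⊤ :=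
  eq_top_iff.2 fun g _ => by
    obtain ⟨d, hd, e⟩ := exists_mem_smul_eq D (g • a) a
    simpa using mul_mem (inv_mem (mem_sup_right hd)) (mem_sup_left (show d * g ∈ stabilizer G a from (mul_smul ..).trans e))

theorem index_dvd_pred [IsPretransitive G Ω] (D : Subgroup G) [D.Normal] (h : ∀ g ∉ D, ∃ x : Ω, g • x = x) (a : Ω)
    (O : Set Ω) (ha : a ∉ O) (hO : ∀ g : G, g • a = a → ∀ x ∈ O, g • x ∈ O) : D.index ∣ O.ncard :=
  have : Nonempty Ω := ⟨a⟩
  have ⟨_, h2⟩ := fix_one_of D h
  index_dvd_ncard _ (sup_eq_top_of_transitive D a) O hO fun g hg _ hx e => by_contra fun hd =>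
    ha (h2 g hd _ _ e hg ▸ hx)

theorem index_dvd_card_pred [IsPretransitive G Ω] (D : Subgroup G) [D.Normal] (h : ∀ g ∉ D, ∃ x : Ω, g • x = x)
    (a : Ω) : D.index ∣ Nat.card Ω - 1 := by
  simpa [Set.ncard_compl {a}] using index_dvd_pred D h a {a}ᶜ (by simp) fun g hg x hx e =>
    hx (smul_left_cancel g (e.trans hg.symm))

variable (G Ω) in
/-- the subgroup generated by the derangements -/
abbrev der : Subgroup G := closure {g : G | ∀ ω : Ω, g • ω ≠ ω}

instance : (der G Ω).Normal := ⟨fun _ hn g => (closure_le ((der G Ω).comap (MulAut.conj g).toMonoidHom)).2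
  (fun a (ha : ∀ ω : Ω, a • ω ≠ ω) => Subgroup.subset_closure fun ω e => ha (g⁻¹ • ω) (by simpa [mul_smul, smul_eq_iff_eq_inv_smul g] using e)) hn⟩

theorem der_fix (g : G) (h : g ∉ der G Ω) : ∃ x : Ω, g • x = x := by_contra fun e =>
  h (Subgroup.subset_closure (not_exists.1 e))

theorem le_sqrt_sub_one {h k l : ℕ} (h1 : h ∣ k - 1) (h2 : h ∣ l - 1) (hk : 1 < k) (hl : 1 < l) :
    (h : ℝ) ≤ Real.sqrt (k * l : ℕ) - 1 := by
  have a := Nat.le_of_dvd (by omega) h1
  have b := Nat.le_of_dvd (by omega) h2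
  rw [le_sub_iff_add_le]
  exact Real.le_sqrt_of_sq_le (by
    exact_mod_cast (sq (h + 1)).trans_le (Nat.mul_le_mul (by omega) (by omega)))

end H16
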