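import Cfsg.Agent.H16.Normal
import Cfsg.Agent.H16.Centralizer
import Mathlib.Algebra.Group.Shrink
import Mathlib.Data.Set.Finite.Lemmas
import Mathlib.Logic.Small.Basic

/-! Characteristically simple finite groups are powers of a simple group (`exists_pi_of_charSimple`), minimal
normal subgroups (`exists_pi_of_minimal_normal`). -/

set_option autoImplicit false

namespace H16
open Subgroup

theorem nonempty_sup_equiv {N : Type*} [Group N] (D L : Subgroup N) [D.Normal] [L.Normal] (h : Disjoint D L) :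
    Nonempty (D × L ≃* (D ⊔ L : Subgroup N)) := by
  have c : ∀ (x : D) (y : L), Commute (D.subtype x) (L.subtype y) := fun x y =>
    commute_of_normal_of_disjoint D L ‹_› ‹_› h x y x.2 y.2
  refine ⟨(MonoidHom.ofInjective (f := D.subtype.noncommCoprod L.subtype c) ?_).trans (MulEquiv.subgroupCongr ?_)⟩
  · exact (MonoidHom.noncommCoprod_injective _ _ c).2 ⟨D.subtype_injective, L.subtype_injective, by simpa⟩
  · simp [MonoidHom.noncommCoprod_range]

theorem exists_pi_of_charSimple {N : Type*} [Group N] [Finite N] [Nontrivial N]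
    (h : ∀ L : Subgroup N, L.Characteristic → L = ⊥ ∨ L = ⊤) :
    ∃ (M : Subgroup N) (m : ℕ), IsSimpleGroup M ∧ 0 < m ∧ Nonempty (N ≃* (Fin m → M)) := by
  obtain ⟨M, hMn, hM, -, hmin⟩ := exists_minimal_normal_le (⊤ : Subgroup N) top_ne_bot
  have nm : ∀ φ : N ≃* N, (M.map φ.toMonoidHom).Normal := fun φ => hMn.map _ φ.surjective
  have mn : ∀ (φ : N ≃* N) (L : Subgroup N), L.Normal → L ≤ M.map φ.toMonoidHom → L = ⊥ ∨ L = M.map φ.toMonoidHom :=
    fun φ L hL hle => by
      rcases hmin (L.comap φ.toMonoidHom) (hL.comap _) (fun x hx => by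
        obtain ⟨y, hy, e⟩ := hle hx
        exact φ.injective e ▸ hy) with e | e
      · left; rw [← map_comap_eq_self_of_surjective (f := φ.toMonoidHom) φ.surjective L, e, Subgroup.map_bot]
      · right; rw [← e, map_comap_eq_self_of_surjective φ.surjective]
  have top : ∀ D : Subgroup N, (∀ φ : N ≃* N, M.map φ.toMonoidHom ≤ D) → D = ⊤ := fun D hD => by
    refine top_le_iff.1 (((h (⨆ φ : N ≃* N, M.map φ.toMonoidHom) ?_).resolve_left fun e => hM ?_).ge.trans
      (iSup_le hD))
    · refine characteristic_iff_map_le.2 fun ψ => ?_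
      rw [Subgroup.map_iSup]
      exact iSup_le fun φ => le_iSup_of_le (φ.trans ψ) (by rw [map_map]; rfl)
    · exact le_bot_iff.1 ((le_iSup_of_le (MulEquiv.refl N) (by simp)).trans e.le)
  obtain ⟨D, ⟨hD, m, ⟨e⟩⟩, hmax⟩ := Set.exists_max_image
    {D : Subgroup N | D.Normal ∧ ∃ m, Nonempty (D ≃* (Fin m → M))} (fun D => Nat.card D) (Set.toFinite _)
    ⟨⊥, inferInstance, 0, ⟨MulEquiv.ofUnique⟩⟩
  obtain rfl : D = ⊤ := top D fun φ => by
    have := nm φ
    refine inf_eq_left.1 ((mn φ (_ ⊓ D) inferInstance inf_le_left).resolve_left fun e0 => ?_)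
    obtain ⟨f⟩ := nonempty_sup_equiv _ D (disjoint_iff.2 e0)
    let c : M × (Fin m → M) ≃* (Fin (m + 1) → M) :=
      { Fin.consEquiv fun _ => M with map_mul' := fun x y => funext fun i => by cases i using Fin.cases <;> rfl }
    have := hmax _ ⟨inferInstance, m + 1, ⟨f.symm.trans (((φ.subgroupMap M).symm.prodCongr e).trans c)⟩⟩
    have := eq_of_le_of_card_ge (le_sup_right : D ≤ M.map φ.toMonoidHom ⊔ D) this
    exact hM ((map_eq_bot_iff_of_injective _ φ.injective).1 (e0 ▸ (inf_eq_left.2 (this ▸ le_sup_left)).symm))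
  have := (nontrivial_iff_ne_bot M).2 hM
  refine ⟨M, m, ⟨fun L hL => ?_⟩, Nat.pos_of_ne_zero ?_, ⟨topEquiv.symm.trans e⟩⟩
  · have : normalizer (L.map M.subtype : Set N) = ⊤ := top _ fun φ => by
      by_cases e : M.map φ.toMonoidHom = M
      · rw [e]; exact (normal_subgroupOf_iff_le_normalizer (map_subtype_le L)).1 (by
          rwa [← comap_subtype, comap_map_eq_self_of_injective M.subtype_injective])
      · have := nm φ
        refine le_trans (fun x hx => ?_) (centralizer_le_normalizer _)
        exact fun y hy => commute_of_minimal_normal hmin (mn φ) (Ne.symm e) y (map_subtype_le L hy) x hx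
    rcases hmin _ (normalizer_eq_top_iff.1 this) (map_subtype_le L) with e | e
    · exact .inl ((map_eq_bot_iff_of_injective _ M.subtype_injective).1 e)
    · exact .inr (map_injective M.subtype_injective (by rw [e, ← MonoidHom.range_eq_map, range_subtype]))
  · rintro rfl
    exact not_subsingleton N (topEquiv.symm.trans e).toEquiv.subsingleton

theorem exists_pi_of_minimal_normal {H : Type*} [Group H] (N : Subgroup H) [Finite N] [N.Normal] (hN : N ≠ ⊥)
    (hmin : ∀ M : Subgroup H, M.Normal → M ≤ N → M = ⊥ ∨ M = N) :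
    ∃ (T : Type) (_ : Group T) (m : ℕ), IsSimpleGroup T ∧ 0 < m ∧ Nonempty (N ≃* (Fin m → T)) := by
  have := (nontrivial_iff_ne_bot N).2 hN
  obtain ⟨M, m, h1, h2, ⟨e⟩⟩ := exists_pi_of_charSimple (N := N) fun L hL =>
    (hmin (L.map N.subtype) inferInstance (map_subtype_le L)).imp
      (map_eq_bot_iff_of_injective _ N.subtype_injective).1
      fun e => map_injective N.subtype_injective (by rw [e, ← MonoidHom.range_eq_map, range_subtype])
  exact ⟨Shrink.{0} M, inferInstance, m, (Shrink.mulEquiv.{0} (α := M)).isSimpleGroup, h2,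
    ⟨e.trans (MulEquiv.arrowCongr (Equiv.refl _) Shrink.mulEquiv.symm)⟩⟩

end H16
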