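import Cfsg.Agent.H16.ON3
import Cfsg.Agent.H16.MinNormal
import Cfsg.Agent.H16.Normal
import Cfsg.Agent.H29.Basic
import Cfsg.Agent.H5.TI

/-! Symmetric designs: an automorphism fixes as many points as blocks (`fix_eq`); `SD G I` (a point-2-transitive square
incidence structure) is block-2-transitive (`SD.twoY`); Ito's theorem `SD.ito` (a block fixed pointwise by a non-trivial
element gives O'Nan's hypothesis on the blocks); `exists_SD` (blocks `G ⧸ H` from a subgroup of index the degree). -/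

set_option autoImplicit false
set_option linter.unusedSectionVars false

namespace H16
open Subgroup MulAction Matrix

theorem fix_eq {X Y : Type*} [Finite X] [Finite Y] (I : X → Y → Prop) (hc : Nat.card X = Nat.card Y) {r l : ℕ}
    (hl : l < r) (h1 : ∀ x, {y | I x y}.ncard = r) (h2 : ∀ x x', x ≠ x' → {y | I x y ∧ I x' y}.ncard = l)
    (σ : Equiv.Perm X) (τ : Equiv.Perm Y) (h : ∀ x y, I (σ x) (τ y) ↔ I x y) :
    {x | σ x = x}.ncard = {y | τ y = y}.ncard := by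
  classical
  have := Fintype.ofFinite X
  have := Fintype.ofFinite Y
  obtain ⟨e⟩ := Finite.card_eq.1 hc
  let M : Matrix X X ℚ := of fun x x' => if I x (e x') then 1 else 0
  have m : ∀ x x', (M * Mᵀ) x x' = if x = x' then (r : ℚ) else l := fun x x' => by
    have : (M * Mᵀ) x x' = {y | I x y ∧ I x' y}.ncard := by
      simp only [M, mul_apply, transpose_apply, of_apply, ← ite_and, mul_ite, mul_one, mul_zero]
      rw [e.sum_comp fun y => if I x' y ∧ I x y then (1 : ℚ) else 0]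
      simp [Set.ncard_eq_toFinset_card', and_comm]
    split_ifs with e
    · rw [this, ← h1 x, e]; simp
    · rw [this, h2 x x' e]
  have u : IsUnit M := vecMul_injective_iff_isUnit.1 <| (injective_iff_map_eq_zero M.vecMulLinear).2 fun u hu => by
    have a : ∀ x', ((r : ℚ) - l) * u x' + l * ∑ x, u x = 0 := fun x' => by
      have : (u ᵥ* (M * Mᵀ)) x' = 0 := by rw [← vecMul_vecMul, show u ᵥ* M = 0 from hu]; simp
      rw [← this, vecMul, dotProduct, Finset.mul_sum, ← Finset.sum_ite_eq_of_mem' _ x' (fun x => ((r : ℚ) - l) * u x)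
        (Finset.mem_univ _), ← Finset.sum_add_distrib]
      exact Finset.sum_congr rfl fun x _ => by simp only [m]; split_ifs <;> ring
    have b : (0 : ℚ) < r - l := sub_pos.2 (by exact_mod_cast hl)
    have c : ∑ x, u x = 0 := by
      have := Finset.sum_eq_zero fun x (_ : x ∈ Finset.univ) => a x
      rw [Finset.sum_add_distrib, ← Finset.mul_sum, Finset.sum_const, nsmul_eq_mul, ← mul_assoc, ← add_mul] at this
      exact (mul_eq_zero.1 this).resolve_left (by positivity)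
    exact funext fun x => by simpa [c, b.ne'] using a x
  have k : σ.permMatrix ℚ * M = M * (e.symm.permCongr τ).permMatrix ℚ := by
    rw [PEquiv.toMatrix_toPEquiv_mul, PEquiv.mul_toMatrix_toPEquiv]
    ext x x'
    simp [M, ← h x, Equiv.permCongr_def]
  obtain ⟨U, hU⟩ := u
  have t := trace_units_conj U ((e.symm.permCongr τ).permMatrix ℚ)
  rw [hU, ← k, ← hU, Units.mul_inv_cancel_right, trace_permutation, trace_permutation] at t
  refine (Nat.cast_injective t).trans ?_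
  rw [← Set.ncard_image_of_injective _ e.injective]
  congr 1
  ext y
  obtain ⟨x, rfl⟩ := e.surjective y
  simp [Function.IsFixedPt, Equiv.symm_apply_eq]

theorem card_orb_eq {Γ X Y : Type*} [Group Γ] [Finite Γ] [Finite X] [Finite Y] [MulAction Γ X] [MulAction Γ Y]
    (h : ∀ g : Γ, Nat.card (fixedBy X g) = Nat.card (fixedBy Y g)) :
    Nat.card (orbitRel.Quotient Γ X) = Nat.card (orbitRel.Quotient Γ Y) := by
  have := Fintype.ofFinite Γ
  refine Nat.eq_of_mul_eq_mul_right (Nat.card_pos (α := Γ)) ?_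
  simp only [← H29.sum_card_fixedBy, h]

theorem card_orb_le_two {Γ X : Type*} [Group Γ] [MulAction Γ X] (P : X → Prop)
    (h : ∀ x y, (P x ↔ P y) → ∃ g : Γ, g • y = x) : Nat.card (orbitRel.Quotient Γ X) ≤ 2 :=
  (Nat.card_le_card_of_injective (fun ω => P ω.out) fun a b e => by
    rw [← a.out_eq, ← b.out_eq]; exact Quotient.sound (h _ _ (iff_of_eq e))).trans_eq (by simp)

theorem exists_smul_of_card_orb {Γ X : Type*} [Group Γ] [Finite X] [MulAction Γ X]
    (h : Nat.card (orbitRel.Quotient Γ X) ≤ 2) {x y z : X} (h1 : ∀ g : Γ, g • z ≠ x) (h2 : ∀ g : Γ, g • z ≠ y) :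
    ∃ g : Γ, g • y = x := by
  by_contra h3
  have := Nat.card_le_card_of_injective _ (inj3 (a := Quotient.mk (orbitRel Γ X) x) (b := Quotient.mk _ y)
    (c := Quotient.mk _ z) (fun e => h3 (Quotient.exact e)) (fun e => (Quotient.exact e).elim h1)
    fun e => (Quotient.exact e).elim h2)
  simp only [Nat.card_eq_fintype_card, Fintype.card_fin] at this
  exact absurd (this.trans h) (by decide)

theorem pi_normal {ι T : Type*} [Finite ι] [Group T] [IsSimpleGroup T] (hT : ¬ ∀ a b : T, a * b = b * a)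
    (L : Subgroup (ι → T)) [L.Normal] (hL : L ≠ ⊤) : ∃ i, ∀ g ∈ L, g i = 1 := by
  classical
  obtain ⟨i, hi⟩ : ∃ i, L.comap (MonoidHom.mulSingle (fun _ => T) i) = ⊥ := by_contra fun h => hL <|
    eq_top_iff.2 fun g _ => Submonoid.pi_mem_of_mulSingle_mem g fun i => ((Normal.eq_bot_or_eq_top
      (Normal.comap inferInstance _)).resolve_left fun e => h ⟨i, e⟩).ge (mem_top (g i))
  have hz : center T = ⊥ := (Normal.eq_bot_or_eq_top inferInstance).resolve_right fun e =>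
    hT fun a b => mem_center_iff.1 (e.ge (mem_top b)) a
  refine ⟨i, fun g hg => hz.le (mem_center_iff.2 fun s => ?_)⟩
  have : s * g i * s⁻¹ * (g i)⁻¹ ∈ L.comap (MonoidHom.mulSingle (fun _ => T) i) := by
    have := mul_mem (Normal.conj_mem inferInstance g hg (Pi.mulSingle i s)) (inv_mem hg)
    refine mem_comap.2 ((congrArg (· ∈ L) ?_).to_iff.2 this)
    ext j
    by_cases e : j = i
    · simp [e]
    · simp [e]
  rwa [hi, mem_bot, mul_inv_eq_one, mul_inv_eq_iff_eq_mul] at this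

theorem minimal_normal_nc {H : Type*} [Group H] (M : Subgroup H) [Finite M] [M.Normal] (hM : M ≠ ⊥)
    (hmin : ∀ L : Subgroup H, L.Normal → L ≤ M → L = ⊥ ∨ L = M) (hc : ¬ ∀ a b : M, a * b = b * a) :
    ∃ g : M, g ≠ 1 ∧ ∀ L : Subgroup M, L.Normal → L ≠ ⊤ →
      g ∉ L ∧ ∃ t : M, t ∉ L ∧ ∀ l ∈ L, l * t = t * l := by
  classical
  obtain ⟨T, _, m, _, m0, ⟨e⟩⟩ := exists_pi_of_minimal_normal M hM hmin
  obtain ⟨t, ht⟩ := exists_ne (1 : T)
  refine ⟨e.symm fun _ => t, fun h => ht (by simpa using congrFun (e.symm_apply_eq.1 h) ⟨0, m0⟩), fun L _ hL => ?_⟩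
  have : (L.comap e.symm.toMonoidHom).Normal := Normal.comap inferInstance _
  obtain ⟨i, hi⟩ := pi_normal (fun h => hc fun a b => e.injective (by ext i; simp [h (e a i)]))
    (L.comap e.symm.toMonoidHom) fun h => hL (eq_top_iff.2 fun g _ => by simpa using h.ge (mem_top (e g)))
  refine ⟨fun h => ht (hi _ h), e.symm (Pi.mulSingle i t), fun h => ht (by simpa using hi _ h),
    fun l hl => e.injective (funext fun j => ?_)⟩
  by_cases h : j = i
  · simp [h, hi (e l) (by simpa using hl)]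
  · simp [h]

variable {G X Y : Type*} [Group G] [Finite G] [Finite X] [Finite Y] [MulAction G X] [MulAction G Y]

theorem two_of_fix (h2 : IsMultiplyPretransitive G X 2)
    (h : ∀ g : G, Nat.card (fixedBy X g) = Nat.card (fixedBy Y g)) : IsMultiplyPretransitive G Y 2 := by
  have p : ∀ (Z : Type _) [MulAction G Z] (g : G), Nat.card (fixedBy (Z × Z) g) = Nat.card (fixedBy Z g) ^ 2 :=
    fun Z _ g => by
      rw [sq, ← Nat.card_prod]
      exact Nat.card_congr ((Equiv.setCongr (by ext ⟨x, y⟩; simp)).trans (Equiv.Set.prod _ _))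
  have p' : ∀ (Z : Type _) [MulAction G Z] (g : G), Nat.card (fixedBy (Z × Z) g) = Nat.card (fixedBy Z g) ^ 2 :=
    fun Z _ g => by
      rw [sq, ← Nat.card_prod]
      exact Nat.card_congr ((Equiv.setCongr (by ext ⟨x, y⟩; simp)).trans (Equiv.Set.prod _ _))
  rw [is_two_pretransitive_iff]
  intro a b c d hab hcd
  have : Nontrivial X := Finite.one_lt_card_iff_nontrivial.1 (by
    have : Nontrivial Y := ⟨a, b, hab⟩
    simpa [← (by simpa using h 1 : Nat.card X = Nat.card Y)] using Finite.one_lt_card (α := Y))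
  have := (card_orb_eq (X := X × X) (Y := Y × Y) fun g : G => by rw [p X, p' Y, h]).ge.trans
    (card_orb_le_two (fun z => z.1 = z.2) fun ⟨x, x'⟩ ⟨y, y'⟩ e => by
      by_cases e' : y = y'
      · obtain ⟨u, hu⟩ := exists_ne x
        obtain ⟨w, hw⟩ := exists_ne y
        obtain ⟨g, e1, -⟩ := exists_smul2 h2 hw.symm hu.symm
        exact ⟨g, Prod.ext e1 (by rw [← e', ← e.2 e']; exact e1)⟩
      · obtain ⟨g, e1, e2⟩ := exists_smul2 h2 e' (e.not.2 e')
        exact ⟨g, Prod.ext e1 e2⟩)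
  obtain ⟨g, e⟩ := exists_smul_of_card_orb this (x := (c, d)) (y := (a, b)) (z := (a, a))
    (fun g e => hcd ((congrArg Prod.fst e).symm.trans (congrArg Prod.snd e)))
    fun g e => hab ((congrArg Prod.fst e).symm.trans (congrArg Prod.snd e))
  exact ⟨g, congrArg Prod.fst e, congrArg Prod.snd e⟩

variable (G) in
/-- a square incidence structure with a group 2-transitive on points -/
structure SD (I : X → Y → Prop) : Prop where
  inv : ∀ (g : G) x y, I (g • x) (g • y) ↔ I x y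
  two : IsMultiplyPretransitive G X 2
  card : Nat.card X = Nat.card Y
  sep : ∃ x x' y, I x y ∧ ¬ I x' y

namespace SD
variable {I : X → Y → Prop} (h : SD G I) {x x' p p' : X} {B C D : Y} {g : G}
include h

theorem exists_sep (hx : x ≠ x') : ∃ y, I x y ∧ ¬ I x' y := by
  obtain ⟨a, b, y, h1, h2⟩ := h.sep
  obtain ⟨g, rfl, rfl⟩ := exists_smul2 h.two (show a ≠ b by rintro rfl; exact h2 h1) hx
  exact ⟨g • y, (h.inv ..).2 h1, (h.inv ..).not.2 h2⟩

theorem lam (hx : x ≠ x') (hp : p ≠ p') : {y | I x y ∧ I x' y}.ncard = {y | I p y ∧ I p' y}.ncard := by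
  obtain ⟨g, rfl, rfl⟩ := exists_smul2 h.two hx hp
  refine Set.ncard_congr (fun y _ => g • y) (by simp [h.inv]) (by simp) fun y hy => ⟨g⁻¹ • y, ?_, by simp⟩
  simpa [← h.inv g _ (g⁻¹ • y)] using hy

theorem fix (g : G) : Nat.card (fixedBy X g) = Nat.card (fixedBy Y g) := by
  obtain ⟨a, b, y, h1, h2⟩ := h.sep
  have ab : a ≠ b := by rintro rfl; exact h2 h1
  refine fix_eq I h.card (r := {y | I a y}.ncard) (Set.ncard_lt_ncard (s := {y | I a y ∧ I b y})
    ⟨fun _ h => h.1, fun e => h2 (e h1).2⟩) (fun x => ?_) (fun _ _ e => h.lam e ab) (toPerm g) (toPerm g) (h.inv g)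
  have : Nontrivial X := ⟨a, b, ab⟩
  obtain ⟨w, hw⟩ := exists_ne x
  obtain ⟨g, rfl, -⟩ := exists_smul2 h.two hw.symm ab
  refine Set.ncard_congr (fun y _ => g • y) (by simp [h.inv]) (by simp) fun y hy => ⟨g⁻¹ • y, ?_, by simp⟩
  simpa [← h.inv g _ (g⁻¹ • y)] using hy

theorem twoY : IsMultiplyPretransitive G Y 2 := two_of_fix h.two h.fix

theorem faithY [FaithfulSMul G X] : FaithfulSMul G Y := faithfulSMul_iff.2 fun g hg =>
  eq_one_of_forall_smul (α := X) fun x => (Set.eq_of_subset_of_ncard_le (Set.subset_univ (fixedBy X g)) (by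
    rw [Set.ncard_univ, h.card, ← Nat.card_coe_set_eq, h.fix, Set.eq_univ_of_forall (s := fixedBy Y g) hg]
    simp)).ge trivial

theorem dual : SD G fun y x => I x y := ⟨fun g y x => h.inv g x y, h.twoY, h.card.symm, by
  obtain ⟨a, b, y, h1, h2⟩ := h.sep
  obtain ⟨z, h3, h4⟩ := h.exists_sep (show b ≠ a by rintro rfl; exact h2 h1)
  exact ⟨y, z, a, h1, h4⟩⟩

theorem fix_block (hg : ∀ x, I x B → g • x = x) (hx : ¬ I x B) (h1 : I x C) (h2 : I (g • x) C) : g • C = C := by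
  by_contra e
  have e' : C ≠ g⁻¹ • C := fun e' => e (eq_inv_smul_iff.1 e')
  have a : ∀ y, I (g • y) C → I y (g⁻¹ • C) := fun y hy => by rwa [← h.inv g, smul_inv_smul]
  refine (Set.ncard_lt_ncard (s := {y | I y C ∧ I y B}) (t := {y | I y C ∧ I y (g⁻¹ • C)})
    ⟨fun y hy => ⟨hy.1, a y ((hg y hy.2).symm ▸ hy.1)⟩, fun e => hx (e ⟨h1, a x h2⟩).2⟩).ne
      (h.dual.lam (fun e => hx (e ▸ h1)) e')

theorem mem_of_fix (hC : g • C = C) (h1 : I x C) : I (g • x) C := by rwa [← hC, h.inv]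

theorem one_out [FaithfulSMul G X] (hB : ∃ a b, a ≠ b ∧ I a B ∧ I b B) (hg : ∀ x, I x B → g • x = x) (hp : ¬ I p B)
    (hp' : ¬ I p' B) (h1 : g • p = p) (h2 : g • p' = p') (hpp : p ≠ p') : g = 1 := by
  by_contra g1
  have key : ∀ {x p}, g • x ≠ x → ¬ I p B → g • p = p → {y | I x y ∧ I p y} = {y | I x y ∧ I (g • x) y} :=
    fun hx hp h1 => Set.eq_of_subset_of_ncard_le (fun y hy => ⟨hy.1, h.mem_of_fix (h.fix_block hg hp hy.2
      (h1.symm ▸ hy.2)) hy.1⟩) (h.lam hx.symm (by rintro rfl; exact hx h1)).le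
  have k2 : ∀ {x}, g • x ≠ x → {y | I x y ∧ I p y} = {y | I p y ∧ I p' y} := fun hx =>
    Set.eq_of_subset_of_ncard_le (fun y hy => ⟨hy.2, (((key hx hp h1).trans (key hx hp' h2).symm).le hy).2⟩)
      (h.lam hpp (by rintro rfl; exact hx h1)).le
  obtain ⟨a, b, ab, ha, hb⟩ := hB
  obtain ⟨E, hE⟩ : {y | I p y ∧ I p' y}.Nonempty := (Set.ncard_pos (Set.toFinite _)).1
    (h.lam ab hpp ▸ (Set.ncard_pos (Set.toFinite _)).2 ⟨B, ha, hb⟩)
  obtain ⟨x, hx⟩ := exists_smul_ne (α := X) g1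
  have all : ∀ z, ¬ I z B → I z E := fun z hz => by
    by_cases e : g • z = z
    · exact (((key hx hp h1).trans (key hx hz e).symm).le ((k2 hx).ge hE)).2
    · exact ((k2 e).ge hE).1
  obtain ⟨C, h3, h4⟩ := h.exists_sep hpp
  obtain ⟨k, e1, rfl⟩ := exists_smul2 h.twoY (show B ≠ E by rintro rfl; exact hp hE.1)
    (show B ≠ C by rintro rfl; exact hp h3)
  exact h4 (by rw [← smul_inv_smul k p', h.inv]; exact all _ (by rwa [← h.inv k, smul_inv_smul, e1]))

theorem fix_of_meet (hg : ∀ x, I x B → g • x = x) (hf : ∀ x, ¬ I x B → g • x ≠ x) (hC : C ≠ B) (hD : D ≠ B)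
    (hCD : ∀ x, I x B → (I x C ↔ I x D)) (h1 : g • C = C) : g • D = D := by
  classical
  by_contra h2
  have := Fintype.ofFinite X
  have := Fintype.ofFinite Y
  have CD : C ≠ D := by rintro rfl; exact h2 h1
  obtain ⟨a, b, y, ha, hb⟩ := h.sep
  have s : ∀ C, ∑ E with g • E = E, {x | I x E ∧ I x C}.ncard = ∑ x with I x C ∧ I x B, {E | g • E = E ∧ I x E}.ncard +
      {x | I x C ∧ ¬ I x B}.ncard * {y | I a y ∧ I b y}.ncard := fun C => by
    have : ∀ x, ¬ I x B → {E | g • E = E ∧ I x E}.ncard = {y | I a y ∧ I b y}.ncard := fun x hx => by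
      rw [← h.lam (hf x hx).symm (show a ≠ b by rintro rfl; exact hb ha)]
      exact congrArg _ (Set.ext fun E => ⟨fun e => ⟨e.2, h.mem_of_fix e.1 e.2⟩,
        fun e => ⟨h.fix_block hg hx e.1 e.2, e.1⟩⟩)
    rw [Set.ncard_eq_toFinset_card' {x | I x C ∧ ¬ I x B}, ← smul_eq_mul, ← Finset.sum_const, Finset.sum_congr rfl (g := fun x =>
      {E | g • E = E ∧ I x E}.ncard) fun x hx => (this x (by simp at hx; exact hx.2)).symm, Set.toFinset_ofPred,
      ← Finset.filter_filter, ← Finset.filter_filter, Finset.sum_filter_add_sum_filter_not]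
    simp only [Set.ncard_eq_toFinset_card', Set.toFinset_ofPred, ← Finset.filter_filter]
    simp only [Finset.card_filter]
    rw [Finset.sum_comm (s := Finset.univ.filter fun x => I x C)]
    simp only [Finset.sum_filter, ← ite_and, and_comm]
  have e1 : {x | I x C ∧ I x B} = {x | I x D ∧ I x B} := Set.ext fun x => and_congr_left (hCD x)
  have e2 : {x | I x C ∧ ¬ I x B}.ncard = {x | I x D ∧ ¬ I x B}.ncard := by
    obtain ⟨k, rfl, e⟩ := exists_smul2 h.twoY hC hD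
    refine Set.ncard_congr (fun y _ => k • y) (fun y hy => ?_) (by simp) fun y hy => ⟨k⁻¹ • y, ?_, by simp⟩
    · exact ⟨(h.inv ..).2 hy.1, e ▸ (h.inv ..).not.2 hy.2⟩
    · simpa [← h.inv k (k⁻¹ • y), e] using hy
  refine (Finset.sum_lt_sum (s := Finset.univ.filter fun E => g • E = E) (f := fun E => {x | I x E ∧ I x D}.ncard)
    (g := fun E => {x | I x E ∧ I x C}.ncard) (fun E hE => ?_) ⟨C, by simpa using h1, ?_⟩).ne ?_
  · by_cases e : E = C
    · exact Set.ncard_le_ncard (fun x hx => ⟨hx.1, e ▸ hx.1⟩)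
    · exact (h.dual.lam (by rintro rfl; exact h2 (by simpa using hE)) e).le
  · obtain ⟨x, h3, h4⟩ := h.dual.exists_sep CD
    exact Set.ncard_lt_ncard ⟨fun x hx => ⟨hx.1, hx.1⟩, fun e => h4 (e ⟨h3, h3⟩).2⟩
  · rw [s, s, e2, Finset.filter_congr fun x _ => and_congr_left (hCD x)]

theorem ito [FaithfulSMul G X] (H : Subgroup G) (hH : ∀ g, g ∈ H ↔ g • B = B) (hB : ∃ a, I a B)
    (hfix : ∀ x : X, ∃ g : H, g • x ≠ x) (K : Subgroup H) [K.Normal] (hK : K ≠ ⊥)
    (hKB : ∀ g ∈ K, ∀ x, I x B → g • x = x) : ∃ A : Y → Subgroup G, ON A := by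
  have := h.faithY
  have iB : ∀ (g : H) x, I (g • x) B ↔ I x B := fun g x => by rw [← h.inv g x, (hH g).1 g.2]; rfl
  have hB : ∃ a b, a ≠ b ∧ I a B ∧ I b B := by
    obtain ⟨a, ha⟩ := hB
    obtain ⟨g, hg⟩ := hfix a
    exact ⟨_, a, hg, (iB g a).2 ha, ha⟩
  obtain ⟨M, _, M1, MK, hmin⟩ := exists_minimal_normal_le K hK
  have MB : ∀ g : M, ∀ x, I x B → (g : G) • x = x := fun g => hKB g (MK g.2)
  have ns : ∀ g : M, ∃ C, C ≠ B ∧ (g : G) • C = C := fun g => by
    obtain ⟨a, b, ab, ha, hb⟩ := hB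
    have : Nontrivial (fixedBy X (g : G)) := ⟨⟨a, MB g a ha⟩, ⟨b, MB g b hb⟩, fun e => ab (congrArg Subtype.val e)⟩
    have : Nontrivial (fixedBy Y (g : G)) := Finite.one_lt_card_iff_nontrivial.1 (h.fix _ ▸ Finite.one_lt_card)
    obtain ⟨C, hC⟩ := exists_ne (⟨B, (hH _).1 g.1.2⟩ : fixedBy Y (g : G))
    exact ⟨C, fun e => hC (Subtype.ext e), C.2⟩
  have fa : ∀ (Z : Type _) [MulAction G Z] (z : Z), stabilizer M z = ⊤ → ∀ (k : H) (g : M), (g : G) • k • z = k • z :=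
    fun Z _ z e k g => by
      have : ((k⁻¹ * g * k⁻¹⁻¹ : H) : G) • z = z := e.ge (mem_top (⟨_, Normal.conj_mem inferInstance _ g.2 k⁻¹⟩ : M))
      simpa [mul_smul, inv_smul_eq_iff, Subgroup.smul_def] using this
  have fa' : ∀ (Z : Type _) [MulAction G Z] (z : Z), stabilizer M z = ⊤ → ∀ (k : H) (g : M), (g : G) • k • z = k • z :=
    fun Z _ z e k g => by
      have : ((k⁻¹ * g * k⁻¹⁻¹ : H) : G) • z = z := e.ge (mem_top (⟨_, Normal.conj_mem inferInstance _ g.2 k⁻¹⟩ : M))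
      simpa [mul_smul, inv_smul_eq_iff, Subgroup.smul_def] using this
  have ne : ∀ g : M, g ≠ 1 → (g : G) ≠ 1 := fun g h e => h (by simpa using e)
  by_cases hc : ∀ a b : M, a * b = b * a
  · obtain ⟨g, g1⟩ := @exists_ne _ ((nontrivial_iff_ne_bot M).2 M1) 1
    refine on_of_normal h.twoY B (M.map H.subtype) (by rintro _ ⟨a, -, rfl⟩; exact (hH _).1 a.2) ?_ ?_
      ⟨g, mem_map_of_mem _ g.2, ne g g1, ns g⟩
    · rintro k hk _ ⟨a, ha, rfl⟩
      exact ⟨_, Normal.conj_mem inferInstance a ha ⟨k, (hH k).2 hk⟩, rfl⟩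
    · rintro _ ⟨a, ha, rfl⟩ _ ⟨b, hb, rfl⟩
      exact congrArg (fun m : M => (m : G)) (hc ⟨a, ha⟩ ⟨b, hb⟩)
  exfalso
  obtain ⟨g, g1, hg⟩ := minimal_normal_nc M M1 hmin hc
  have one : ∀ (m : M) p (k : H), ¬ I p B → (m : G) • p = p → (m : G) • k • p = k • p → k • p ≠ p → m = 1 :=
    fun m p k hp h1 h2 h3 => by_contra fun e => ne m e (h.one_out hB (MB m) ((iB k p).not.2 hp) hp h2 h1 h3)
  by_cases hs : ∀ m : M, m ≠ 1 → ∀ x, ¬ I x B → (m : G) • x ≠ x
  · obtain ⟨C, hC, e⟩ := ns g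
    refine (hg (stabilizer M C) ⟨fun m hm k => ?_⟩ fun e => ne g g1 (eq_one_of_forall_smul (α := Y) fun D => ?_)).1 e
    · by_cases m1 : m = 1
      · simp [m1]
      have := h.fix_of_meet (D := (k : G)⁻¹ • C) (MB m) (hs m m1) hC (fun e => hC (by
        rw [inv_smul_eq_iff.1 e, (hH _).1 k.1.2])) (fun x hx => by rw [← h.inv k x (_ • C), smul_inv_smul, MB k x hx]) hm
      show ((k : G) * m * (k : G)⁻¹) • C = C
      rw [mul_smul, mul_smul, this, smul_inv_smul]
    · by_cases e' : D = B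
      · exact e' ▸ (hH _).1 g.1.2
      obtain ⟨k, e1, e2⟩ := exists_smul2 h.twoY hC e'
      exact e1 ▸ fa Y C e ⟨k, (hH k).2 e2⟩ g
  push Not at hs
  obtain ⟨m, m1, p, hp, e⟩ := hs
  obtain ⟨L, _, h1, h2, h3⟩ := H5.frobenius_wielandt (stabilizer M p) ⊥ bot_le (by simp) fun k hk x hx e =>
    one x p k⁻¹ hp hx (by
      have : ((k : G) * x * (k : G)⁻¹) • p = p := e
      rw [mul_smul, mul_smul] at this
      exact eq_inv_smul_iff.2 this) fun e => hk (inv_smul_eq_iff.1 e).symm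
  obtain ⟨-, t, h4, h5⟩ := hg L inferInstance fun e' => m1 (h2.le ⟨e'.ge trivial, e⟩)
  obtain ⟨x, h6, h7⟩ : ∃ x : M, (x * t * x⁻¹) • p = p ∧ x * t * x⁻¹ ≠ 1 := by simpa [h1] using h4
  obtain ⟨k, hk⟩ := hfix p
  refine m1 (one m p k hp e (fa' X p (eq_top_iff.2 (h3.ge.trans (sup_le (fun l hl => by_contra fun e => h7
    (one _ p l hp h6 ?_ e)) le_rfl))) k m) hk)
  have : x * t * x⁻¹ * l = l * (x * t * x⁻¹) := by
    have := h5 _ (Normal.conj_mem inferInstance l hl x⁻¹)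
    calc _ = x * (t * (x⁻¹ * l * x⁻¹⁻¹)) * x⁻¹ := by group
      _ = _ := by rw [← this]; group
  show (x * t * x⁻¹) • l • p = l • p
  rw [← mul_smul, this, mul_smul, h6]

end SD

theorem exists_SD (h2 : IsMultiplyPretransitive G X 2) (H : Subgroup G) (hi : H.index = Nat.card X)
    (hnt : ¬ IsPretransitive H X) (a : X) :
    ∃ I : X → G ⧸ H → Prop, SD G I ∧ ∀ x, I x ((1 : G) : G ⧸ H) ↔ x ∈ orbit H a := by
  have k : ∀ x, (∃ g : G, (g : G ⧸ H) = (1 : G) ∧ g • a = x) ↔ x ∈ orbit H a := fun x =>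
    ⟨fun ⟨g, e, e'⟩ => ⟨⟨g, by simpa [QuotientGroup.eq] using e⟩, e'⟩,
      fun ⟨g, e⟩ => ⟨g, by simp [QuotientGroup.eq], e⟩⟩
  refine ⟨fun x y => ∃ g : G, (g : G ⧸ H) = y ∧ g • a = x, ⟨fun g x y => ⟨fun ⟨k, e, e'⟩ => ⟨g⁻¹ * k, ?_, ?_⟩,
    fun ⟨k, e, e'⟩ => ⟨g * k, e ▸ rfl, e' ▸ mul_smul ..⟩⟩, h2, hi.symm, ?_⟩, k⟩
  · rw [← inv_smul_smul g y, ← e]; rfl
  · rw [mul_smul, e', inv_smul_smul]
  · obtain ⟨b, hb⟩ : ∃ b, b ∉ orbit H a := by_contra fun h => hnt ⟨fun x y => by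
      push Not at h
      obtain ⟨⟨g, rfl⟩, k, rfl⟩ := And.intro (h x) (h y)
      exact ⟨k * g⁻¹, by simp [mul_smul]⟩⟩
    exact ⟨a, b, _, ⟨1, rfl, one_smul ..⟩, (k b).not.2 hb⟩

theorem ito_psl [FaithfulSMul G X] (h2 : IsMultiplyPretransitive G X 2) (H : Subgroup G) (hi : H.index = Nat.card X)
    (hnt : ¬ IsPretransitive H X) (hfix : ∀ a : X, ∃ h : H, h • a ≠ a)
    (hu : ∃ a : X, ∃ h : H, h ≠ 1 ∧ ∀ b ∈ orbit H a, h • b = b) :
    ∃ (m : ℕ) (F : Type) (_ : Field F) (_ : Fintype F), 2 ≤ m ∧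
      Nat.card X = (Fintype.card F ^ (m + 1) - 1) / (Fintype.card F - 1) ∧ ∃ N : Subgroup G, N.Normal ∧
        Nonempty (N ≃* ProjectiveSpecialLinearGroup (Fin (m + 1)) F) ∧ centralizer (N : Set G) = ⊥ := by
  obtain ⟨a, g, g1, hg⟩ := hu
  obtain ⟨I, h, hI⟩ := exists_SD h2 H hi hnt a
  have := h.faithY
  have : (fixingSubgroup H (orbit H a)).Normal := ⟨fun n hn k => (mem_fixingSubgroup_iff H).2 fun y hy => by
    rw [mul_smul, mul_smul, (mem_fixingSubgroup_iff H).1 hn _ (mem_orbit_of_mem_orbit k⁻¹ hy), smul_inv_smul]⟩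
  obtain ⟨A, hA⟩ := h.ito H (B := ((1 : G) : G ⧸ H)) (fun g => by rw [← mem_stabilizer_iff, stabilizer_quotient])
    ⟨a, (hI a).2 (mem_orbit_self a)⟩ hfix (fixingSubgroup H (orbit H a))
    (fun e => g1 (e.le ((mem_fixingSubgroup_iff H).2 hg))) fun k hk x hx =>
      (mem_fixingSubgroup_iff H).1 hk x ((hI x).1 hx)
  obtain ⟨F, _, _, n, e, n3, -, hN⟩ := hA.main
  obtain ⟨m, rfl⟩ : ∃ m, n = m + 1 := ⟨n - 1, by omega⟩
  refine ⟨m, F, _, inferInstance, by omega, ?_, hN⟩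
  rw [h.card, Nat.card_congr e, Projectivization.card'']
  simp

end H16
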