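import Cfsg.Agent.H16.NF3
import Mathlib.Combinatorics.Enumerative.DoubleCounting

/-! Projectively abelian linear groups (`ρ x ρ y = c • ρ y ρ x`): `index_center_le` (`|N : Z(N)| ≤ (dim V)²`),
fixed space bounds `card_fix_sq_le`, `card_fix_cube_le`, the double count `count_fix` and its consequence
`stab_le_two_or` used in Huppert's theorem on solvable transitive linear groups. -/

set_option autoImplicit false
set_option linter.unusedSectionVars false
set_option linter.style.haveILetI false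

namespace H16
open Subgroup Module

variable {F V N : Type*} [Field F] [AddCommGroup V] [Module F V] [Finite V] [Nontrivial V] [Group N]
  {ρ : N →* End F V}

theorem smul_rep_inj (ρ : N →* End F V) {b c : F} {x : N} (h : b • ρ x = c • ρ x) : b = c := by
  obtain ⟨v, hv⟩ := exists_ne (0 : V)
  exact smul_left_injective F (rep_ne_zero ρ x hv) (DFunLike.congr_fun h v)

theorem exists_comm_char (hβ : ∀ x y, ∃ c : F, ρ (x * y) = c • ρ (y * x)) :
    ∃ χ : N → N →* F, ∀ x y, ρ (y * x) = χ x y • ρ (x * y) := by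
  choose β hβ using hβ
  refine ⟨fun x => ⟨⟨fun y => β y x, smul_rep_inj ρ (x := x) ?_⟩, fun y y' => smul_rep_inj ρ (x := x * (y * y')) ?_⟩,
    fun x y => hβ y x⟩
  · simpa using (hβ 1 x).symm
  · show β (y * y') x • _ = (β y x * β y' x) • _
    rw [← hβ, mul_assoc, map_mul, hβ y', mul_smul_comm, ← map_mul, ← mul_assoc, map_mul, hβ y, smul_mul_assoc,
      ← map_mul, smul_smul, mul_comm (β y' x), mul_assoc]

theorem index_center_le [Finite N] (hρ : Function.Injective ρ) (hβ : ∀ x y, ∃ c : F, ρ (x * y) = c • ρ (y * x)) :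
    (center N).index ≤ finrank F V ^ 2 := by
  classical
  obtain ⟨χ, hχ⟩ := exists_comm_char hβ
  have := Fintype.ofFinite (N ⧸ center N)
  have hi : Function.Injective fun c : N ⧸ center N => χ c.out := fun c c' e => by
    have e : χ c.out = χ c'.out := e
    rw [← c.out_eq', ← c'.out_eq', QuotientGroup.eq, mem_center_iff]
    intro y
    refine hρ ?_
    have e1 := hχ c.out (y * c.out⁻¹)
    have e2 := hχ c'.out (y * c.out⁻¹)
    have e3 := hχ c.out c.out⁻¹
    have e4 := hχ c.out y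
    have e5 := hχ c'.out y
    rw [← e] at e5
    have e6 : ρ (c.out⁻¹ * y) = χ c.out y • ρ (y * c.out⁻¹) := by
      have := congrArg (fun T => ρ c.out⁻¹ * T * ρ c.out⁻¹) e4
      simpa [mul_smul_comm, smul_mul_assoc, ← map_mul, mul_assoc] using this
    have e7 : χ c.out y ≠ 0 := ((Group.isUnit y).map _).ne_zero
    refine smul_right_injective _ e7 ?_
    show χ c.out y • _ = χ c.out y • _
    rw [← mul_assoc, map_mul, ← smul_mul_assoc, ← e6, mul_assoc, map_mul ρ _ (_ * y), ← mul_smul_comm, ← e5,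
      ← map_mul, ← map_mul, mul_assoc]
  have hl : LinearIndependent F fun c : N ⧸ center N => ρ c.out := by
    refine Fintype.linearIndependent_iff.2 fun g hg c₀ => ?_
    obtain ⟨v, hv⟩ := exists_ne (0 : V)
    obtain ⟨φ, hφ⟩ : ∃ φ : Dual F V, φ (ρ c₀.out v) ≠ 0 := by
      by_contra h
      exact rep_ne_zero ρ _ hv ((forall_dual_apply_eq_zero_iff F _).1 fun φ => by_contra fun e => h ⟨φ, e⟩)
    refine (mul_eq_zero.1 (Fintype.linearIndependent_iff.1 ((linearIndependent_monoidHom N F).comp _ hi)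
      (fun c => g c * φ (ρ c.out v)) (funext fun y => ?_) c₀)).resolve_right hφ
    have := congrArg (fun T => φ ((ρ y * T * ρ y⁻¹) v)) hg
    simp only [Finset.mul_sum, Finset.sum_mul, mul_smul_comm, smul_mul_assoc, ← map_mul, hχ _ y,
      mul_inv_cancel_right, LinearMap.sum_apply, map_sum, LinearMap.smul_apply, map_smul, smul_eq_mul, mul_zero,
      zero_mul, LinearMap.zero_apply, map_zero] at this
    simpa [mul_assoc, mul_comm, mul_left_comm] using this
  have := hl.fintype_card_le_finrank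
  rwa [finrank_linearMap, ← pow_two, ← Nat.card_eq_fintype_card] at this

theorem card_fix_sq_le {X Y : End F V} (hY : Function.Injective Y) {c : F} (h : ∀ v, X (Y v) = c • Y (X v))
    (h1 : c ≠ 1) : Nat.card {v // X v = v} ^ 2 ≤ Nat.card V := by
  rw [pow_two, ← Nat.card_prod]
  refine Nat.card_le_card_of_injective (fun a : {v // X v = v} × {v // X v = v} => a.1.1 + Y a.2.1)
    fun a b (e : a.1.1 + Y a.2.1 = b.1.1 + Y b.2.1) => ?_
  have e2 := congrArg X e
  rw [map_add, map_add, h, h, a.1.2, a.2.2, b.1.2, b.2.2] at e2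
  have e3 : (1 - c) • a.1.1 = (1 - c) • b.1.1 := by linear_combination (norm := module) e2 - c • e
  have e4 := smul_right_injective _ (sub_ne_zero.2 h1.symm) e3
  exact Prod.ext (Subtype.ext e4) (Subtype.ext (hY (add_left_cancel (e4 ▸ e))))

theorem card_fix_cube_le {X Y : End F V} (hY : Function.Injective Y) {c : F} (h : ∀ v, X (Y v) = c • Y (X v))
    (h0 : c ≠ 0) (h1 : c ^ 2 ≠ 1) : Nat.card {v // X v = v} ^ 3 ≤ Nat.card V := by
  rw [pow_three, ← Nat.card_prod, ← Nat.card_prod]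
  refine Nat.card_le_card_of_injective
    (fun a : {v // X v = v} × {v // X v = v} × {v // X v = v} => a.1.1 + Y a.2.1.1 + Y (Y a.2.2.1))
    fun a b (e : a.1.1 + Y a.2.1.1 + Y (Y a.2.2.1) = b.1.1 + Y b.2.1.1 + Y (Y b.2.2.1)) => ?_
  have h2 : c ≠ 1 := by rintro rfl; simp at h1
  have e2 := congrArg X e
  simp only [map_add, h, a.1.2, a.2.1.2, a.2.2.2, b.1.2, b.2.1.2, b.2.2.2, map_smul] at e2
  have e3 := congrArg X e2
  simp only [map_add, h, a.1.2, a.2.1.2, a.2.2.2, b.1.2, b.2.1.2, b.2.2.2, map_smul] at e3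
  have e4 : ((1 - c) * (1 - c ^ 2)) • a.1.1 = ((1 - c) * (1 - c ^ 2)) • b.1.1 := by
    linear_combination (norm := module) e3 - (c + c ^ 2) • e2 + c ^ 3 • e
  have e5 := smul_right_injective _ (mul_ne_zero (sub_ne_zero.2 h2.symm) (sub_ne_zero.2 h1.symm)) e4
  have e6 : (c * (1 - c)) • Y a.2.1.1 = (c * (1 - c)) • Y b.2.1.1 := by
    linear_combination (norm := module) e2 - c ^ 2 • e - (1 - c ^ 2) • e5
  have e7 := smul_right_injective _ (mul_ne_zero h0 (sub_ne_zero.2 h2.symm)) e6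
  refine Prod.ext (Subtype.ext e5) (Prod.ext (Subtype.ext (hY e7)) (Subtype.ext (hY (hY ?_))))
  linear_combination (norm := module) e - e5 - e7

theorem count_fix [Finite N] (hρ : Function.Injective ρ) (hβ : ∀ x y, ∃ c : F, ρ (x * y) = c • ρ (y * x))
    (hZ : ∀ z ∈ center N, ∃ c : F, ρ z = c • 1) {p : ℕ} (hp : p.Prime) (hpow : ∀ x, x ^ p ∈ center N) {s : ℕ}
    (hs : ∀ v, v ≠ 0 → s ≤ Nat.card {x // ρ x v = v}) :
    ∃ u, (u ^ 2 ≤ Nat.card V ∧ (p ≠ 2 → u ^ 3 ≤ Nat.card V)) ∧
      (Nat.card V - 1) * (s - 1) ≤ p * (finrank F V ^ 2 - 1) * (u - 1) := by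
  classical
  have := Fintype.ofFinite V
  have := Fintype.ofFinite N
  have := Fintype.ofFinite (N ⧸ center N)
  obtain ⟨χ, hχ⟩ := exists_comm_char hβ
  choose! sc hsc using hZ
  have hZ1 : ∀ z ∈ center N, ∀ v, v ≠ 0 → ρ z v = v → z = 1 := fun z hz v hv e => by
    rw [hsc z hz] at e
    have : sc z = 1 := smul_left_injective F hv (by simpa using e)
    exact hρ (by rw [hsc z hz, this, one_smul, map_one])
  let I : Finset N := {x | x ∉ center N ∧ x ^ p = 1}
  have hI : I.card ≤ p * (finrank F V ^ 2 - 1) := by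
    refine (Finset.card_le_mul_card_image_of_maps_to (f := QuotientGroup.mk (s := center N))
      (t := Finset.univ.erase 1) (fun a ha => ?_) p fun b _ => ?_).trans (Nat.mul_le_mul_left _ ?_)
    · simpa using (Finset.mem_filter.1 ha).2.1
    · refine (Finset.card_le_card_of_injOn (t := (Polynomial.nthRoots p (sc (b.out ^ p))⁻¹).toFinset)
        (fun a => sc (b.out⁻¹ * a)) (fun a ha => ?_) fun a ha a' ha' e => ?_).trans
        ((Multiset.toFinset_card_le _).trans (Polynomial.card_nthRoots _ _))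
      · obtain ⟨h1, h2⟩ := Finset.mem_filter.1 ha
        have h3 : b.out⁻¹ * a ∈ center N := QuotientGroup.eq.1 (b.out_eq'.trans h2.symm)
        have h4 := (Finset.mem_filter.1 h1).2.2
        rw [← mul_inv_cancel_left b.out a, Commute.mul_pow (mem_center_iff.1 h3 _)] at h4
        have h5 := congrArg ρ h4
        rw [map_mul, hsc _ (hpow _), map_pow, hsc _ h3, smul_pow, one_pow, smul_mul_smul_comm, mul_one,
          ← map_one ρ, ← one_smul F (ρ 1)] at h5
        rw [one_smul, ← one_smul F (ρ 1), smul_smul, mul_one] at h5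
        simpa [Polynomial.mem_nthRoots hp.pos] using eq_inv_of_mul_eq_one_right (smul_rep_inj ρ h5)
      · have h3 : b.out⁻¹ * a ∈ center N := QuotientGroup.eq.1 (b.out_eq'.trans (Finset.mem_filter.1 ha).2.symm)
        have h4 : b.out⁻¹ * a' ∈ center N := QuotientGroup.eq.1 (b.out_eq'.trans (Finset.mem_filter.1 ha').2.symm)
        exact mul_left_cancel (hρ (by rw [hsc _ h3, hsc _ h4]; exact congrArg (· • (1 : End F V)) e))
    · rw [Finset.card_erase_of_mem (Finset.mem_univ _), Finset.card_univ, ← Nat.card_eq_fintype_card]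
      exact Nat.sub_le_sub_right (index_center_le hρ hβ) 1
  refine ⟨I.sup fun x => Nat.card {v // ρ x v = v}, Finset.sup_induction (p := fun u => u ^ 2 ≤ Nat.card V ∧
    (p ≠ 2 → u ^ 3 ≤ Nat.card V)) (by simp) (fun a ha b hb => by rcases max_choice a b with e | e <;> rwa [e])
    fun x hx => ?_, le_trans ?_ (Nat.mul_le_mul_right _ hI)⟩
  · obtain ⟨y, hy⟩ : ∃ y, χ y x ≠ 1 := by
      by_contra h
      push Not at h
      exact (Finset.mem_filter.1 hx).2.1 (mem_center_iff.2 fun y => (hρ (by rw [hχ y x, h, one_smul])).symm)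
    have h1 : ∀ v, ρ x (ρ y v) = χ y x • ρ y (ρ x v) := fun v => by
      simpa using DFunLike.congr_fun (hχ y x) v
    refine ⟨card_fix_sq_le (rep_injective ρ y) h1 hy, fun h2 => card_fix_cube_le (rep_injective ρ y) h1
      ((Group.isUnit x).map _).ne_zero fun e => hy ?_⟩
    obtain ⟨k, hk⟩ := hp.odd_of_ne_two h2
    have := congrArg (χ y) (Finset.mem_filter.1 hx).2.2
    rwa [map_pow, hk, pow_succ, pow_mul, e, one_pow, one_mul, map_one] at this
  · rw [Nat.card_eq_fintype_card, ← Finset.card_univ, ← Finset.card_erase_of_mem (Finset.mem_univ (0 : V))]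
    refine Finset.card_mul_le_card_mul (fun v x => ρ x v = v) (fun v hv => ?_) fun x hx => ?_
    · have hv := Finset.ne_of_mem_erase hv
      refine (Nat.sub_le_sub_right (hs v hv) 1).trans ?_
      rw [Nat.card_eq_fintype_card, Fintype.card_subtype, ← Finset.card_erase_of_mem (a := 1) (by simp)]
      refine Finset.card_le_card fun x hx => ?_
      obtain ⟨h1, h2⟩ := Finset.mem_erase.1 hx
      have h2 := (Finset.mem_filter.1 h2).2
      simpa [I, h2] using ⟨fun h => h1 (hZ1 x h v hv h2), hZ1 _ (hpow x) v hv (pow_fix ρ h2 p)⟩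
    · refine le_trans ?_ (Nat.sub_le_sub_right (Finset.le_sup (f := fun x => Nat.card {v // ρ x v = v}) hx) 1)
      rw [Nat.card_eq_fintype_card, Fintype.card_subtype, ← Finset.card_erase_of_mem (a := 0) (by simp)]
      exact Finset.card_le_card fun v hv => by simpa using hv

theorem num_odd {d X u : ℕ} (hd : 1 ≤ d) (h1 : 4 ^ d ≤ X) (h2 : u ^ 3 ≤ X)
    (h3 : 2 * (X - 1) ≤ 3 * ((d ^ 2 - 1) * (u - 1))) : False := by
  have h4 : 4 ^ 1 ≤ 4 ^ d := Nat.pow_le_pow_right (by norm_num) hd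
  obtain ⟨Y, rfl⟩ : ∃ Y, X = Y + 1 := ⟨X - 1, by omega⟩
  obtain ⟨D, hD⟩ : ∃ D, d ^ 2 = D + 1 := ⟨d ^ 2 - 1, by have := Nat.one_le_pow 2 d hd; omega⟩
  obtain ⟨w, rfl⟩ : ∃ w, u = w + 2 := ⟨u - 2, by
    by_contra h
    rw [show u - 1 = 0 by omega] at h3; omega⟩
  rw [hD] at h3
  simp only [Nat.add_sub_cancel, show w + 2 - 1 = w + 1 from rfl] at h3
  have h5 : 2 * (w ^ 2 + 5 * w + 7) ≤ 3 * D := Nat.le_of_mul_le_mul_right (c := w + 1) (by nlinarith) (by omega)
  have key : ∀ d, 4 ≤ d → 3 * d ^ 3 + 1 < 4 ^ d := fun d hd => by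
    induction d, hd using Nat.le_induction with
    | base => norm_num
    | succ n hn ih => rw [pow_succ 4]; nlinarith [Nat.mul_le_mul hn hn, Nat.mul_le_mul_right (n ^ 2) hn]
  by_cases h6 : 4 ≤ d
  · have := key d h6
    have h7 : w + 1 ≤ 2 * d := by nlinarith
    have := Nat.mul_le_mul_left D h7
    nlinarith
  · have h7 : d ≤ 3 := by omega
    interval_cases d <;> nlinarith

theorem num_two {d X u : ℕ} (hd : 1 ≤ d) (h1 : 3 ^ d ≤ X) (h2 : u ^ 2 ≤ X)
    (h3 : (X - 1) * 3 ≤ 2 * (d ^ 2 - 1) * (u - 1)) : X = 81 := by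
  have h4 : 3 ^ 1 ≤ 3 ^ d := Nat.pow_le_pow_right (by norm_num) hd
  obtain ⟨Y, rfl⟩ : ∃ Y, X = Y + 1 := ⟨X - 1, by omega⟩
  obtain ⟨D, hD⟩ : ∃ D, d ^ 2 = D + 1 := ⟨d ^ 2 - 1, by have := Nat.one_le_pow 2 d hd; omega⟩
  obtain ⟨w, rfl⟩ : ∃ w, u = w + 2 := ⟨u - 2, by
    by_contra h
    rw [show u - 1 = 0 by omega] at h3; omega⟩
  rw [hD] at h3
  simp only [Nat.add_sub_cancel, show w + 2 - 1 = w + 1 from rfl] at h3
  have h5 : 3 * (w + 3) ≤ 2 * D := Nat.le_of_mul_le_mul_right (c := w + 1) (by nlinarith) (by omega)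
  have key : ∀ d, 6 ≤ d → 4 * d ^ 4 + 9 < 9 * 3 ^ d := fun d hd => by
    induction d, hd using Nat.le_induction with
    | base => norm_num
    | succ n hn ih =>
      rw [pow_succ 3]
      nlinarith [Nat.mul_le_mul hn hn, Nat.mul_le_mul_right (n ^ 2) hn, Nat.mul_le_mul_right (n ^ 3) hn]
  by_cases h6 : 6 ≤ d
  · have := key d h6
    have e : d ^ 4 = (D + 1) ^ 2 := by rw [← hD]; ring
    nlinarith
  · have h7 : d ≤ 5 := by omega
    interval_cases d <;> simp at hD h1 <;> subst hD <;> omega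

theorem stab_le_two_or [Finite N] [Finite F] (hρ : Function.Injective ρ)
    (hβ : ∀ x y, ∃ c : F, ρ (x * y) = c • ρ (y * x)) (hZ : ∀ z ∈ center N, ∃ c : F, ρ z = c • 1) {p : ℕ}
    (hp : p.Prime) (hN : IsPGroup p N) (hpow : ∀ x, x ^ p ∈ center N) (hna : center N ≠ ⊤) {s : ℕ}
    (hs : ∀ v, v ≠ 0 → Nat.card {x // ρ x v = v} = s) : s = 1 ∨ (p = 2 ∧ s = 2) ∨ Nat.card V = 81 := by
  have := Fact.mk hp
  obtain ⟨u, ⟨h1, h2⟩, h3⟩ := count_fix hρ hβ hZ hp hpow fun v hv => (hs v hv).ge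
  have hd : 1 ≤ finrank F V := finrank_pos
  have hX := natCard_eq_pow_finrank (K := F) (V := V)
  have hQ : p + 1 ≤ Nat.card F := by
    obtain ⟨χ, hχ⟩ := exists_comm_char hβ
    obtain ⟨x, y, hxy⟩ : ∃ x y, χ x y ≠ 1 := by
      by_contra h
      push Not at h
      exact hna (eq_top_iff.2 fun x _ => mem_center_iff.2 fun y => hρ (by rw [hχ x y, h, one_smul]))
    have e : χ x (y ^ p) = 1 := smul_rep_inj ρ (by rw [← hχ, one_smul, mem_center_iff.1 (hpow y) x])
    have e2 : orderOf ((χ x).toHomUnits y) = p := orderOf_eq_prime (by ext; simpa using e)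
      fun h => hxy (by simpa using congrArg Units.val h)
    have e3 := Nat.le_of_dvd Nat.card_pos (e2 ▸ _root_.orderOf_dvd_natCard _)
    rw [Nat.card_units] at e3
    have := Finite.one_lt_card (α := F)
    omega
  obtain ⟨v, hv⟩ := exists_ne (0 : V)
  letI : MulAction N V := MulAction.compHom V ρ
  obtain ⟨k, hk⟩ := IsPGroup.iff_card.1 (hN.to_subgroup (MulAction.stabilizer N v))
  have hk : s = p ^ k := (hs v hv).symm.trans hk
  rcases k with _ | k
  · exact Or.inl hk
  by_cases h4 : p = 2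
  · subst h4
    rcases k with _ | k
    · exact Or.inr (Or.inl ⟨rfl, hk⟩)
    refine Or.inr (Or.inr (num_two hd (hX ▸ Nat.pow_le_pow_left hQ _) h1 (le_trans (Nat.mul_le_mul_left _ ?_) h3)))
    have := Nat.one_le_two_pow (n := k)
    rw [pow_succ, pow_succ] at hk; omega
  · have h5 : 3 ≤ p := by have := hp.two_le; omega
    refine (num_odd hd (hX ▸ Nat.pow_le_pow_left (by omega) _) (h2 h4) ?_).elim
    have h6 : p ≤ s := hk ▸ Nat.le_self_pow (by omega) p
    refine Nat.le_of_mul_le_mul_left ?_ hp.pos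
    have h7 : 2 * p ≤ 3 * (s - 1) := by omega
    have := Nat.mul_le_mul_left (Nat.card V - 1) h7
    nlinarith

end H16
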