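import Cfsg.Agent.H16.Hup
import Cfsg.Agent.S3381
import Cfsg.Agent.H21.Pairing

/-! Huppert's theorem on solvable linear groups transitive on nonzero vectors: `huppert`; tools
`min_nonab_solv`, `cent_not_le_of_trans`, `FieldData.le_ker`, `card_stab_eq`, `succ_dvd_index_of_trans`,
`card_invol_le_ten`. -/

set_option autoImplicit false
set_option linter.unusedSectionVars false
set_option linter.style.haveILetI false

namespace H16
open Subgroup Module
open scoped commutatorElement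

section Grp
variable {G : Type*} [Group G] [Finite G]

theorem min_nonab_solv {A N : Subgroup G} (hAn : A.Normal) (hAc : IsMulCommutative A)
    (hAmax : ∀ B : Subgroup G, B.Normal → IsMulCommutative B → A ≤ B → B = A) (hNn : N.Normal)
    (hNle : N ≤ centralizer (A : Set G)) (hNna : ¬ IsMulCommutative N)
    (hNmin : ∀ M : Subgroup G, M.Normal → M ≤ N → ¬ IsMulCommutative M → M = N) (hs : Group.IsSolvable G) :
    (∀ a ∈ N, ∀ b ∈ N, ⁅a, b⁆ ∈ A) ∧ N ⊓ centralizer (N : Set G) ≤ A ∧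
      ∃ p : ℕ, p.Prime ∧ IsPGroup p N ∧ ∀ x ∈ N, x ^ p ∈ A := by
  have hle : ⁅N, N⁆ ≤ N := commutator_le_left N N
  have hA : ∀ M : Subgroup G, M.Normal → M ≤ N → M ≠ N → M ≤ A := fun M h1 h2 h3 =>
    le_of_max_abelian hAn hAc hAmax h1 (by_contra fun h => h3 (hNmin M h1 h2 h)) (h2.trans hNle)
  have h1 : ∀ a ∈ N, ∀ b ∈ N, ⁅a, b⁆ ∈ A := fun a ha b hb => hA _ inferInstance hle
    (Group.IsSolvable.commutator_lt_of_ne_bot (by rintro rfl; exact hNna inferInstance)).ne (commutator_mem_commutator ha hb)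
  refine ⟨h1, hA _ inferInstance inf_le_left fun e => hNna (comm_iff_le_cent.2 fun a ha b hb => (e.ge hb).2 a ha), ?_⟩
  have hnil : Group.IsNilpotent N := by
    refine Subgroup.isNilpotent_of_ker_le_center (Abelianization.of (G := N)) ?_
    rw [Abelianization.ker_of, _root_.commutator_def, commutator_le]
    exact fun a _ b _ => mem_center_iff.2 fun c => Subtype.ext (hNle c.2 _ (h1 a a.2 b b.2)).symm
  obtain ⟨p, hp, hP⟩ : ∃ p : ℕ, p.Prime ∧ IsPGroup p N := by
    by_contra h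
    obtain ⟨e⟩ := (Group.isNilpotent_of_finite_tfae.out 0 4).1 hnil
    refine hNna ⟨⟨fun a b => e.symm.injective ?_⟩⟩
    rw [map_mul, map_mul]
    funext p P
    have := Fact.mk (Nat.prime_of_mem_primeFactors p.2)
    have := Sylow.characteristic_of_normal P inferInstance
    have h2 := hA ((P : Subgroup N).map N.subtype) inferInstance (map_subtype_le _) fun e =>
      h ⟨p, Fact.out, by have := P.isPGroup'.map N.subtype; rwa [e] at this⟩
    exact Subtype.ext (Subtype.ext (comm_iff_le_cent.1 hAc _ (h2 ⟨_, (e.symm a p P).2, rfl⟩) _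
      (h2 ⟨_, (e.symm b p P).2, rfl⟩)))
  refine ⟨p, hp, hP, ?_⟩
  let M : Subgroup G :=
    { carrier := {x | x ∈ N ∧ x ^ p ∈ A}
      one_mem' := ⟨N.one_mem, by simp⟩
      inv_mem' := fun h => ⟨inv_mem h.1, by rw [inv_pow]; exact inv_mem h.2⟩
      mul_mem' := fun {a b} ha hb => ⟨mul_mem ha.1 hb.1, by
        have c : Commute (a : G ⧸ A) b := commutatorElement_eq_one_iff_commute.1
          ((QuotientGroup.eq_one_iff _).2 (h1 a ha.1 b hb.1))
        rw [← QuotientGroup.eq_one_iff, QuotientGroup.mk_pow, QuotientGroup.mk_mul, c.mul_pow, ← QuotientGroup.mk_pow,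
          ← QuotientGroup.mk_pow, (QuotientGroup.eq_one_iff _).2 ha.2, (QuotientGroup.eq_one_iff _).2 hb.2,
          mul_one]⟩ }
  have hM : M.Normal := ⟨fun a ha g => ⟨hNn.conj_mem a ha.1 g, by rw [conj_pow]; exact hAn.conj_mem _ ha.2 g⟩⟩
  by_cases e : M = N
  · exact fun x hx => (e.ge hx).2
  have h2 := hA M hM (fun _ h => h.1) e
  have h3 : ∀ k, ∀ x ∈ N, x ^ p ^ k ∈ A → x ∈ A := fun k => by
    induction k with
    | zero => simp
    | succ k ih => exact fun x hx h => ih x hx (h2 ⟨pow_mem hx _, by rwa [← pow_mul, ← pow_succ]⟩)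
  refine fun x hx => pow_mem ?_ p
  obtain ⟨k, hk⟩ := hP ⟨x, hx⟩
  exact h3 k x hx (by rw [show x ^ p ^ k = 1 from congrArg Subtype.val hk]; exact A.one_mem)

theorem FC.qData_of_class_two (h : FC G) {p : ℕ} (hp : p.Prime) (hP : IsPGroup p G) (hna : center G ≠ ⊤)
    (hc : ∀ a b : G, ⁅a, b⁆ ∈ center G) : ∃ i j, H9.QData (⊤ : Subgroup G) 2 i j := by
  have hnc : ¬ IsCyclic (⊤ : Subgroup G) := fun _ => hna (eq_top_iff.2 fun a _ => mem_center_iff.2 fun b =>
    comm_iff_le_cent.1 (inferInstance : IsMulCommutative (⊤ : Subgroup G)) b trivial a trivial)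
  by_cases h2 : p = 2
  swap
  · exact absurd (h.isCyclic_of_odd hp h2 (hP.to_subgroup ⊤)) hnc
  subst h2
  obtain ⟨n, x, y, q⟩ := (h.two_group (hP.to_subgroup ⊤)).resolve_left hnc
  have e2 := mem_center_iff.1 (hc y x) y
  have e3 : x ^ 4 = 1 := by
    have e4 : y * (x⁻¹ * x⁻¹) * y⁻¹ = x * x := by rw [← conj_mul, ← conj_inv, q.inv, inv_inv]
    rw [commutatorElement_def, q.inv] at e2
    rw [e2, mul_inv_cancel_right] at e4
    calc x ^ 4 = x * x * (x * x) := by simp only [pow_succ, pow_zero, one_mul, mul_assoc]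
      _ = 1 := by nth_rw 1 [← e4]; group
  have e5 := orderOf_dvd_of_pow_eq_one e3
  rw [q.ordx] at e5
  obtain rfl : n = 0 := by
    rcases n with _ | n
    · rfl
    · have := Nat.le_of_dvd (by norm_num) e5
      have := Nat.one_le_two_pow (n := n)
      rw [pow_succ, pow_succ] at *; omega
  exact ⟨x, y, q⟩

theorem card_invol_le_ten {z : G} (z2 : z * z = 1) (z1 : z ≠ 1) (hz : z ∈ center G)
    (h : ∀ x y : G, x * x = 1 → y * y = 1 → x ∉ center G → y ∉ center G → y = x ∨ y = x * z ∨ y * x = z * (x * y)) :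
    Nat.card {g : G // orderOf g = 2 ∧ g ∉ center G} ≤ 10 := by
  classical
  by_contra hc
  have key : ∀ l : List G, l.length ≤ 5 → ∃ y, y * y = 1 ∧ y ∉ center G ∧ ∀ x ∈ l, y ≠ x ∧ y ≠ x * z := fun l hl => by
    by_contra h1
    push Not at h1
    refine hc (le_trans (Set.ncard_le_ncard (t := ((l ++ l.map (· * z)).toFinset : Set G)) fun y hy => ?_) ?_)
    · obtain ⟨x, hx, e⟩ := h1 y (by rw [← pow_two, ← hy.1, pow_orderOf_eq_one]) hy.2
      by_cases e1 : y = x
      · simp [e1, hx]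
      · simpa using Or.inr ⟨x, hx, (e e1).symm⟩
    · rw [Set.ncard_coe_finset]
      exact (List.toFinset_card_le _).trans (by simp; omega)
  have zc := mem_center_iff.1 hz
  obtain ⟨a, a2, ac, -⟩ := key [] (by simp)
  obtain ⟨b, b2, bc, hb⟩ := key [a] (by simp)
  obtain ⟨c, c2, cc, hc⟩ := key [a, b] (by simp)
  obtain ⟨d, d2, dc, hd⟩ := key [a, b, c] (by simp)
  obtain ⟨e, e2, ec, he⟩ := key [a, b, c, d, a * b * c * d] (by simp)
  simp only [List.mem_cons, List.not_mem_nil, or_false, forall_eq_or_imp, forall_eq] at hb hc hd he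
  have an : ∀ {x y : G}, x * x = 1 → y * y = 1 → x ∉ center G → y ∉ center G → y ≠ x ∧ y ≠ x * z →
      ∀ w, y * (x * w) = z * (x * (y * w)) := fun x2 y2 xc yc hn w => by
    rw [← mul_assoc, ((h _ _ x2 y2 xc yc).resolve_left hn.1).resolve_left hn.2, mul_assoc, mul_assoc]
  have sq : ∀ {x : G}, x * x = 1 → ∀ w, x * (x * w) = w := fun h w => by rw [← mul_assoc, h, one_mul]
  have zz : ∀ x w, x * (z * w) = z * (x * w) := fun x w => by rw [← mul_assoc, zc x, mul_assoc]
  have ba := an a2 b2 ac bc hb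
  have ca := an a2 c2 ac cc hc.1
  have cb := an b2 c2 bc cc hc.2
  have da := an a2 d2 ac dc hd.1
  have db := an b2 d2 bc dc hd.2.1
  have dc' := an c2 d2 cc dc hd.2.2
  have y2 : a * b * c * d * (a * b * c * d) = 1 := by
    rw [← mul_one (a * b * c * d * _)]
    simp only [mul_assoc, ba, ca, cb, da, db, dc', zz _ , sq z2, sq a2, sq b2, sq c2, sq d2]
  have yc : a * b * c * d ∉ center G := fun hy => z1 (by
    have := mem_center_iff.1 hy a
    rw [← mul_one (a * b * c * d * a)] at this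
    simp only [mul_assoc, ba, ca, da, zz _, sq z2, sq a2] at this
    simpa using this)
  have := an y2 e2 yc ec he.2.2.2.2 1
  simp only [mul_assoc, an a2 e2 ac ec he.1, an b2 e2 bc ec he.2.1, an c2 e2 cc ec he.2.2.1,
    an d2 e2 dc ec he.2.2.2.1, zz _, sq z2] at this
  exact z1 (by simpa using this)

end Grp

section Lin
variable {k V G : Type*} [CommRing k] [AddCommGroup V] [Module k V] [Group G] [Finite G] [Finite V] [Nontrivial V]
  {τ : G →* End k V} {A : Subgroup G} {W : Submodule k V}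

theorem card_stab_eq (N : Subgroup G) [hN : N.Normal] (g : G) (v : V) :
    Nat.card {x : N // τ x (τ g v) = τ g v} = Nat.card {x : N // τ x v = v} :=
  Nat.card_congr ((MulAut.conjNormal g).toEquiv.subtypeEquiv fun x => by
    show _ ↔ τ (g * x * g⁻¹) (τ g v) = τ g v
    rw [map_mul, map_mul, End.mul_apply, End.mul_apply, rep_inv_apply, (rep_injective τ g).eq_iff]).symm

theorem card_preimage_of_trans (ht : ∀ v w : V, v ≠ 0 → w ≠ 0 → ∃ g, τ g v = w) {v : V} (hv : v ≠ 0)
    (W : Submodule k V) :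
    {g | τ g v ∈ W}.ncard = (Nat.card W - 1) * Nat.card {g // τ g v = v} := by
  choose! f hf using ht v
  have e : ((W : Set V) \ {0}).ncard = Nat.card W - 1 := Set.ncard_sdiff_singleton_of_mem W.zero_mem
  rw [← e, ← Nat.card_coe_set_eq, ← Nat.card_coe_set_eq, ← Nat.card_prod]
  refine (Nat.card_eq_of_bijective (fun x : ↥((W : Set V) \ {0}) × {g // τ g v = v} =>
    (⟨f x.1 * x.2, by
      show τ _ v ∈ W
      rw [map_mul, End.mul_apply, x.2.2, hf _ hv x.1.2.2]; exact x.1.2.1⟩ : {g | τ g v ∈ W})) ⟨?_, ?_⟩).symm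
  · rintro ⟨w, s⟩ ⟨w', s'⟩ h
    have h : f w * s = f w' * s' := congrArg Subtype.val h
    have h1 := congrArg (fun g => τ g v) h
    simp only [map_mul, End.mul_apply, s.2, s'.2, hf _ hv w.2.2, hf _ hv w'.2.2] at h1
    obtain rfl := Subtype.ext h1
    rw [Subtype.ext (mul_left_cancel h)]
  · rintro ⟨g, hg⟩
    have h0 := rep_ne_zero τ g hv
    exact ⟨(⟨τ g v, hg, h0⟩, ⟨(f (τ g v))⁻¹ * g, by
      rw [map_mul, End.mul_apply]
      exact rep_injective τ _ ((rep_apply_inv τ _ _).trans (hf _ hv h0).symm)⟩), Subtype.ext (by simp)⟩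

theorem succ_dvd_index_of_trans (ht : ∀ v w : V, v ≠ 0 → w ≠ 0 → ∃ g, τ g v = w) (hW : Inv τ A W)
    (hc : Nat.card V = Nat.card W ^ 2) : Nat.card W + 1 ∣ A.index := by
  obtain ⟨v, hv⟩ := exists_ne (0 : V)
  obtain ⟨s, hs⟩ := H10.card_dvd_ncard_of_free A (S := {g | τ g v ∈ W}) (Set.toFinite _)
    (fun a ha g hg => by
      show τ (a * g) v ∈ W
      rw [map_mul]; exact hW a ha _ hg) fun a _ g _ e => mul_eq_right.1 e
  have e := card_preimage_of_trans ht hv ⊤
  rw [card_preimage_of_trans ht hv] at hs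
  rw [Nat.card_congr Submodule.topEquiv.toEquiv] at e
  simp only [Submodule.mem_top, Set.ofPred_true, Set.ncard_univ] at e
  rw [← card_mul_index A, hc] at e
  obtain ⟨t, ht⟩ : ∃ t, Nat.card W = t + 1 := Nat.exists_eq_add_one.2 Nat.card_pos
  rw [ht] at e hs ⊢
  rw [Nat.add_sub_cancel] at hs
  rw [show (t + 1) ^ 2 - 1 = (t + 1 + 1) * t from Nat.sub_eq_of_eq_add (by ring), mul_assoc, hs] at e
  exact ⟨s, Nat.eq_of_mul_eq_mul_left (Nat.card_pos (α := A)) (by rw [e]; ring)⟩

theorem cent_not_le_of_trans (hτ : Function.Injective τ) (ht : ∀ v w : V, v ≠ 0 → w ≠ 0 → ∃ g, τ g v = w)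
    [A.Normal] (hA : IsMulCommutative A) (hW : Inv τ A W) (h0 : W ≠ ⊥) (h1 : W ≠ ⊤) :
    ¬ centralizer (A : Set G) ≤ A := fun hc => by
  obtain ⟨F, _, _, ι, σ, d⟩ := exists_field_cover τ A (comm_iff_le_cent.1 hA) (cover_of_trans A ht)
  obtain ⟨p, hp, n, hn, hF⟩ := FiniteField.card' F
  have := Fact.mk hn
  have e1 := d.sq_le hW h0 h1
  have e2 := d.card_lt hτ
  have e3 : σ.ker.index ≤ n := by
    rw [index_ker, ← H25.card_ringAut hF]; exact card_le_card_group _
  have e4 : Nat.card σ.ker ≤ Nat.card A := card_le_of_le ((d.ker_le hτ).trans hc)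
  have e5 : (n : ℕ) < Nat.card F := by rw [Nat.card_eq_fintype_card, hF]; exact Nat.lt_pow_self hn.one_lt
  have e6 : Nat.card V ≤ Nat.card G + 1 := by
    obtain ⟨v, hv⟩ := exists_ne (0 : V)
    rw [← Finite.card_option]
    refine Nat.card_le_card_of_surjective (fun x => x.elim 0 fun g => τ g v) fun w => ?_
    by_cases hw : w = 0
    · exact ⟨none, hw.symm⟩
    · obtain ⟨g, hg⟩ := ht v w hv hw
      exact ⟨some g, hg⟩
  have e7 : 0 < Nat.card A := Nat.card_pos
  rw [← card_mul_index σ.ker] at e6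
  have e8 := Nat.mul_le_mul e4 e3
  have e9 := Nat.mul_le_mul e2 e5
  nlinarith

end Lin

variable {q : ℕ} [hq : Fact q.Prime] {V G : Type*} [AddCommGroup V] [Module (ZMod q) V] [Group G] [Finite G]
  [Finite V] [Nontrivial V] {τ : G →* End (ZMod q) V} {A : Subgroup G}

theorem FieldData.le_ker {F : Type} [Field F] {ι : F →+* End (ZMod q) V} {σ : G →* (F ≃+* F)}
    (d : FieldData τ A ι σ) : centralizer (A : Set G) ≤ σ.ker := fun g hg => RingEquiv.ext fun c => by
  obtain ⟨w, hw⟩ := exists_ne (0 : V)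
  let ev : F →+ V := { toFun := fun c => ι c w, map_zero' := by simp, map_add' := by simp }
  have hi : Function.Injective ev := (injective_iff_map_eq_zero ev).2 fun c => scal_eq_zero ι hw
  let K : AddSubgroup F := AddMonoidHom.eqLocus (σ g : F →+ F) (AddMonoidHom.id F)
  obtain ⟨b, hb, e⟩ := d.inv (AddSubgroup.toZModSubmodule q (K.map ev)) (by
    rintro a ha _ ⟨b, hb, rfl⟩
    obtain ⟨e, he⟩ := d.mem a ha
    refine ⟨e * b, ?_, by rw [← he]; exact DFunLike.congr_fun (map_mul ι e b) w⟩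
    have h1 := d.conj g e
    rw [he, ← map_mul, ← hg a ha, map_mul, ← he] at h1
    have h2 : e = σ g e := ι.injective (by
      simpa [mul_assoc, ← map_mul] using congrArg (· * τ g⁻¹) h1)
    show σ g (e * b) = e * b
    rw [map_mul, ← h2, show σ g b = b from hb]) c w ⟨1, map_one (σ g), by simp [ev]⟩
  obtain rfl : b = c := hi e
  exact hb

theorem num_a {t : ℕ} (h1 : t + 1 ∣ 24) (h2 : 2 ^ (0 + 3) ∣ t ^ 2 - 1) (h3 : 1 < t ^ 2) :
    t ^ 2 ∈ ({9, 25, 49, 121, 529, 81} : Set ℕ) := by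
  have := Nat.le_of_dvd (by norm_num) h1
  have : t ≤ 23 := by omega
  interval_cases t <;> simp_all

theorem num_b {t : ℕ} (h1 : Odd t) (h2 : t + 1 ≤ 10) (h3 : 1 < t ^ 2) :
    t ^ 2 ∈ ({9, 25, 49, 121, 529, 81} : Set ℕ) := by
  obtain ⟨n, hn⟩ := h1
  obtain rfl | rfl | rfl | rfl | rfl : n = 0 ∨ n = 1 ∨ n = 2 ∨ n = 3 ∨ n = 4 := by omega
  all_goals subst hn; simp_all

theorem huppert (hs : Group.IsSolvable G) (ρ : G →* (V ≃ₗ[ZMod q] V)) (hρ : Function.Injective ρ)
    (ht : ∀ v w : V, v ≠ 0 → w ≠ 0 → ∃ g : G, ρ g v = w) :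
    (∃ (F : Type) (_ : Field F) (_ : Fintype F) (e : V ≃+ F),
        ∀ g : G, ∃ (a : F) (σ : F ≃+* F), ∀ v : V, e (ρ g v) = a * σ (e v)) ∨
    Nat.card V ∈ ({9, 25, 49, 121, 529, 81} : Set ℕ) := by
  let τ := toRep ρ
  have hτ : Function.Injective τ := fun a b e => hρ (LinearEquiv.toLinearMap_injective e)
  obtain ⟨A, hAn, hAc, hAmax⟩ := exists_max_abelian_normal (G := G)
  obtain ⟨F, _, _, ι, σ, d⟩ := exists_field_cover τ A (comm_iff_le_cent.1 hAc) (cover_of_trans A ht)
  by_cases hirr : ∀ W, Inv τ A W → W = ⊥ ∨ W = ⊤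
  · obtain ⟨e, he⟩ := d.semilinear hirr
    exact Or.inl ⟨F, _, inferInstance, e, fun g => (he g).imp fun a ha => ⟨σ g, ha⟩⟩
  right
  push Not at hirr
  obtain ⟨W₀, hW₀, h0, h1⟩ := hirr
  obtain ⟨N, hNn, h2, h3, h4⟩ := exists_min_nonab_normal (C := centralizer (A : Set G)) inferInstance fun hc =>
    cent_not_le_of_trans hτ ht hAc hW₀ h0 h1 (hAmax _ inferInstance hc (le_centralizer A)).le
  obtain ⟨h5, h6, p, hp, hP, h7⟩ := min_nonab_solv hAn hAc hAmax hNn h2 h3 h4 hs
  have hcen : ∀ x : N, x ∈ center N ↔ (x : G) ∈ A := fun x =>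
    ⟨fun h => h6 ⟨x.2, fun y hy => congrArg Subtype.val (mem_center_iff.1 h ⟨y, hy⟩)⟩,
      fun h => mem_center_iff.2 fun y => Subtype.ext (h2 y.2 x h).symm⟩
  have hna : center N ≠ ⊤ := fun e => h3 ⟨⟨fun a b => mem_center_iff.1 (e ▸ mem_top b : b ∈ center N) a⟩⟩
  letI : Module F V := Module.compHom V ι
  let pN : N →* End F V :=
    { toFun := fun x =>
        { toFun := τ (x : G)
          map_add' := map_add _
          map_smul' := fun c v => by
            have := d.conj x c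
            rw [MonoidHom.mem_ker.1 (d.le_ker (h2 x.2))] at this
            exact DFunLike.congr_fun this v }
      map_one' := LinearMap.ext fun v => DFunLike.congr_fun (map_one τ) v
      map_mul' := fun x y => LinearMap.ext fun v => DFunLike.congr_fun (map_mul τ (x : G) y) v }
  have hZ : ∀ z ∈ center N, ∃ c : F, pN z = c • 1 := fun z hz => by
    obtain ⟨c, hc⟩ := d.mem z ((hcen z).1 hz)
    exact ⟨c, LinearMap.ext fun v => (DFunLike.congr_fun hc v).symm⟩
  have hc2 : ∀ x y : N, ⁅x, y⁆ ∈ center N := fun x y => (hcen _).2 (h5 x x.2 y y.2)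
  have hpN : Function.Injective pN := fun x y e => Subtype.ext (hτ (LinearMap.ext fun v => (DFunLike.congr_fun e v :)))
  obtain ⟨v₀, hv₀⟩ := exists_ne (0 : V)
  have hst : ∀ v, v ≠ 0 → Nat.card {x // pN x v = v} = Nat.card {x // pN x v₀ = v₀} := fun v hv => by
    obtain ⟨g, rfl⟩ := ht v₀ v hv₀ hv
    exact card_stab_eq (τ := τ) N g v₀
  have hZ1 : ∀ z ∈ center N, ∀ v, pN z v = v → z ≠ 1 → v = 0 := fun z hz v e z1 => by_contra fun hv => by
    obtain ⟨c, hc⟩ := hZ z hz
    rw [hc] at e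
    have : c = 1 := smul_left_injective F hv (by simpa using e)
    exact z1 (hpN (by rw [hc, this, one_smul, map_one]))
  rcases stab_le_two_or hpN (fun x y => by
      obtain ⟨c, hc⟩ := hZ _ (hc2 x y)
      exact ⟨c, by rw [← smul_one_mul, ← hc, ← map_mul, commutatorElement_def]; congr 1; group⟩)
    hZ hp hP (fun x => (hcen _).2 (h7 x x.2)) hna hst with h | ⟨rfl, h⟩ | h
  · have hf : Free (τ.comp N.subtype) := fun x x1 v e => by_contra fun hv =>
      x1 (congrArg Subtype.val ((Nat.card_eq_one_iff_unique.1 ((hst v hv).trans h)).1.elim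
        (⟨x, e⟩ : {x // pN x v = v}) ⟨1, by simp⟩))
    obtain ⟨i, j, Q⟩ := hf.fc.qData_of_class_two hp hP hna hc2
    have hi := Q.x_mul_x_ne_one le_rfl
    have h4 : i * i * (i * i) = 1 := by rw [← pow_two i, Q.u_mul_u]
    have hz := hf.invol hi h4
    obtain ⟨a, b, hab⟩ := ZMod.sq_add_sq q (-1)
    obtain ⟨W, hW, hW'⟩ := exists_half (I := τ i) (J := τ j) (by rw [← map_mul]; exact hz)
      (by rw [← map_mul, ← coe_mul, Q.ysq, pow_two]; exact hz) (by
        have : i * j = i * i * (j * i) := by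
          calc i * j = i * i * (i⁻¹ * j) := by group
            _ = i * i * (j * i) := by rw [← Q.inv]; group
        have := congrArg (τ.comp N.subtype) this
        rwa [map_mul _ (i * i), hz, neg_one_mul, map_mul, map_mul] at this)
      (fun v => by rw [hab, neg_one_smul]) (hf.two_inj hi h4)
    obtain ⟨e⟩ := Q.nonempty_equiv
    obtain ⟨θ, hθ⟩ := exists_hom_Q8 (P := N) (topEquiv.symm.trans e)
    have h8 := succ_dvd_index_of_trans (τ := τ) (A := θ.ker) ht (fun c hc => hW' _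
      (by rw [← map_mul, ← map_mul, (hθ ▸ hc : c ∈ centralizer _) i i.2])
      (by rw [← map_mul, ← map_mul, (hθ ▸ hc : c ∈ centralizer _) j j.2])) hW
    have h9 : Nat.card W + 1 ∣ 24 := h8.trans (by
      have := card_subgroup_dvd_card θ.range
      rwa [Nat.card_perm, Nat.card_fin, ← index_ker] at this)
    have h10 := hf.card_dvd (A := ⊤) (W := ⊤) fun _ _ _ _ => trivial
    rw [Q.card_eq, Nat.card_congr Submodule.topEquiv.toEquiv] at h10
    have h11 := Finite.one_lt_card (α := V)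
    rw [hW] at h10 h11 ⊢
    exact num_a h9 h10 h11
  · obtain ⟨x, y, hxy⟩ : ∃ x y : N, ⁅x, y⁆ ≠ 1 := by
      by_contra h
      push Not at h
      exact hna (eq_top_iff.2 fun x _ => mem_center_iff.2 fun y => commutatorElement_eq_one_iff_mul_comm.1 (h y x))
    have hsq : ∀ x y : N, ⁅x, y⁆ * ⁅x, y⁆ = 1 := fun x y => by
      have e1 := mem_center_iff.1 ((hcen _).2 (h7 x x.2) : x ^ 2 ∈ center N) y
      rw [← pow_two, ← H21.comm_pow_left (mem_center_iff.1 (hc2 x y) x), commutatorElement_eq_one_iff_mul_comm, e1]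
    generalize hz : ⁅x, y⁆ = z at hxy
    have zc : z ∈ center N := hz ▸ hc2 x y
    have z2 : z * z = 1 := hz ▸ hsq x y
    have hneg : ∀ c ∈ center N, c ≠ 1 → c * c = 1 → ∀ v, pN c v = -v := fun c hc c1 c2 v =>
      eq_neg_of_add_eq_zero_left (hZ1 c hc _ (by
        rw [map_add, ← End.mul_apply, ← map_mul, c2, map_one, End.one_apply, add_comm]) c1)
    have huniq : ∀ v, v ≠ 0 → ∀ s t, s ≠ 1 → t ≠ 1 → pN s v = v → pN t v = v → s = t := fun v hv s t hs ht e1 e2 => by
      obtain ⟨u, -, hu⟩ := (Nat.card_eq_two_iff' (⟨1, by simp⟩ : {x // pN x v = v})).1 ((hst v hv).trans h)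
      exact congrArg Subtype.val ((hu ⟨s, e1⟩ fun e => hs (congrArg Subtype.val e)).trans
        (hu ⟨t, e2⟩ fun e => ht (congrArg Subtype.val e)).symm)
    have hfix : ∀ t s : N, t * t = 1 → s * t = t * s → ∀ w, w ≠ 0 → pN s w = w →
        ∃ w', w' ≠ 0 ∧ pN s w' = w' ∧ (pN t w' = w' ∨ pN (t * z) w' = w') := fun t s t2 st w hw e => by
      by_cases h0 : pN t w + w = 0
      · exact ⟨w, hw, e, Or.inr (by
          rw [map_mul, End.mul_apply, hneg z zc hxy z2, map_neg, neg_eq_iff_add_eq_zero, h0])⟩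
      · exact ⟨_, h0, by rw [map_add, ← End.mul_apply, ← map_mul, st, map_mul, End.mul_apply, e], Or.inl (by
          rw [map_add, ← End.mul_apply, ← map_mul, t2, map_one, End.one_apply, add_comm])⟩
    have h8 := card_invol_le_ten z2 hxy zc fun a b a2 b2 ac bc => by
      by_cases hab : ⁅b, a⁆ = 1
      · have ab := commutatorElement_eq_one_iff_mul_comm.1 hab
        have n1 : ∀ t : N, t ∉ center N → t ≠ 1 ∧ t * z ≠ 1 := fun t ht =>
          ⟨fun e => ht (e ▸ one_mem _), fun e => ht (eq_inv_of_mul_eq_one_left e ▸ inv_mem zc)⟩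
        obtain ⟨w, hw, -, e | e⟩ := hfix a 1 a2 (by simp) v₀ hv₀ (by simp)
        · obtain ⟨w, hw, e, e' | e'⟩ := hfix b a b2 ab.symm w hw e
          · exact Or.inl (huniq w hw _ _ (n1 b bc).1 (n1 a ac).1 e' e)
          · exact Or.inr (Or.inl (by rw [huniq w hw _ _ (n1 a ac).1 (n1 b bc).2 e e', mul_assoc, z2, mul_one]))
        · obtain ⟨w, hw, e, e' | e'⟩ := hfix b (a * z) b2
            (by rw [mul_assoc, ← mem_center_iff.1 zc, ← mul_assoc, ← mul_assoc, ab]) w hw e
          · exact Or.inr (Or.inl (huniq w hw _ _ (n1 b bc).1 (n1 a ac).2 e' e))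
          · exact Or.inl (mul_right_cancel (huniq w hw _ _ (n1 b bc).2 (n1 a ac).2 e' e))
      · refine Or.inr (Or.inr ?_)
        rw [← hpN (LinearMap.ext fun v => (hneg _ (hc2 b a) hab (hsq b a) v).trans (hneg z zc hxy z2 v).symm),
          commutatorElement_def]
        group
    obtain ⟨r, h9, h10⟩ := Cfsg.Agent.S3381.result q (ρ.comp N.subtype) (hρ.comp N.subtype_injective)
      (fun v hv => (hst v hv).trans h) z (orderOf_eq_prime (by rw [pow_two, z2]) hxy) zc
    have h11 : Odd (q ^ r) := (hq.out.odd_of_ne_two (by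
      rintro rfl
      refine hv₀ (hZ1 z zc v₀ ?_ hxy)
      rw [hneg z zc hxy z2, neg_eq_iff_add_eq_zero, ← two_smul (ZMod 2)]
      exact zero_smul (ZMod 2) v₀)).pow
    have h12 := Finite.one_lt_card (α := V)
    rw [h10] at h8
    rw [h9, mul_comm, pow_mul] at h12 ⊢
    exact num_b h11 h8 h12
  · simp [h]

end H16
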