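import Cfsg.Agent.H16.Hup2
import Cfsg.Agent.H16.OddOrder
import Cfsg.Agent.H16.Homog
import Cfsg.Agent.H16.Normal

/-! Multiplicative form of Huppert's theorem (`huppert_mul`), minimal normal subgroups of solvable primitive groups
(`exists_regular_elem`). -/

set_option autoImplicit false
set_option linter.unusedSectionVars false
set_option linter.style.haveILetI false

namespace H16
open Subgroup MulAction

theorem huppert_mul {N G : Type*} [CommGroup N] [Finite N] [Nontrivial N] [Group G] {p : ℕ} (hp : p.Prime)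
    (hN : ∀ n : N, n ^ p = 1) (hs : Group.IsSolvable G) (ρ : G →* MulAut N)
    (ht : ∀ v w : N, v ≠ 1 → w ≠ 1 → ∃ g : G, ρ g v = w) :
    (∃ (F : Type) (_ : Field F) (_ : Fintype F) (e : Additive N ≃+ F),
        ∀ g : G, ∃ (a : F) (σ : F ≃+* F), ∀ v : N, e (.ofMul (ρ g v)) = a * σ (e (.ofMul v))) ∨
    Nat.card N ∈ ({9, 25, 49, 121, 529, 81} : Set ℕ) := by
  have := Fact.mk hp
  obtain ⟨_⟩ : Nonempty (Module (ZMod p) (Additive N)) := ⟨AddCommGroup.zmodModule fun x => hN x⟩
  let φ : G → Additive N →+ Additive N := fun g =>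
    { toFun := fun v => .ofMul (ρ g v.toMul), map_zero' := by simp, map_add' := by simp }
  let ψ : G →* (Additive N ≃ₗ[ZMod p] Additive N) :=
    { toFun := fun g =>
        { toFun := fun v => .ofMul (ρ g v.toMul)
          invFun := fun v => .ofMul ((ρ g).symm v.toMul)
          map_add' := by simp
          map_smul' := ZMod.map_smul (φ g)
          left_inv := fun v => by simp
          right_inv := fun v => by simp }
      map_one' := LinearEquiv.ext fun v => by simp
      map_mul' := fun a b => LinearEquiv.ext fun v => by simp }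
  have : Finite ψ.range := Finite.of_injective _
    ((DFunLike.coe_injective (F := Additive N ≃ₗ[ZMod p] Additive N)).comp Subtype.val_injective)
  refine (huppert (V := Additive N) (Group.isSolvable_of_surjective ψ.rangeRestrict_surjective) ψ.range.subtype
    (subtype_injective _) fun v w hv hw => ?_).imp (fun ⟨F, _, _, e, h⟩ => ⟨F, _, ‹_›, e, fun g => h ⟨_, g, rfl⟩⟩) id
  obtain ⟨g, hg⟩ := ht v.toMul w.toMul hv hw
  exact ⟨⟨_, g, rfl⟩, congrArg Additive.ofMul hg⟩

theorem exists_regular_elem {G α : Type*} [Group G] [Finite G] [Nontrivial G] [MulAction G α] [FaithfulSMul G α]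
    [IsPreprimitive G α] (hs : Group.IsSolvable G) : ∃ (N : Subgroup G) (p : ℕ), N.Normal ∧ N ≠ ⊥ ∧
      IsMulCommutative N ∧ IsPretransitive N α ∧ (∀ a : α, stabilizer N a = ⊥) ∧ p.Prime ∧ ∀ n ∈ N, n ^ p = 1 := by
  obtain ⟨N, hN, h1, -, h2⟩ := exists_minimal_normal_le (⊤ : Subgroup G) top_ne_bot
  have hc : ∀ a ∈ N, ∀ b ∈ N, a * b = b * a := fun a ha b hb => commutatorElement_eq_one_iff_mul_comm.1
    (((h2 ⁅N, N⁆ inferInstance (commutator_le_left N N)).resolve_right
      (Group.IsSolvable.commutator_lt_of_ne_bot h1).ne).le (commutator_mem_commutator ha hb))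
  have ht : IsPretransitive N α := IsQuasiPreprimitive.isPretransitive_of_normal fun e => h1 <|
    eq_bot_iff.2 fun g hg => eq_of_smul_eq_smul fun a : α =>
      ((e.ge (Set.mem_univ a) : a ∈ fixedPoints N α) ⟨g, hg⟩).trans (one_smul G a).symm
  obtain ⟨p, hp, hd⟩ := Nat.exists_prime_and_dvd (card_eq_one.not.2 h1)
  have := Fact.mk hp
  obtain ⟨x, hx⟩ := exists_prime_orderOf_dvd_card' p hd
  let M : Subgroup G :=
    { carrier := {n | n ∈ N ∧ n ^ p = 1}
      one_mem' := ⟨N.one_mem, one_pow p⟩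
      inv_mem' := fun h => ⟨inv_mem h.1, by rw [inv_pow, h.2, inv_one]⟩
      mul_mem' := fun {a b} ha hb => ⟨mul_mem ha.1 hb.1, by
        rw [Commute.mul_pow (hc a ha.1 b hb.1), ha.2, hb.2, mul_one]⟩ }
  have hM := (h2 M ⟨fun a ha g => ⟨hN.conj_mem a ha.1 g, by rw [conj_pow, ha.2, mul_one, mul_inv_cancel]⟩⟩
    fun _ h => h.1).resolve_left fun e => hp.one_lt.ne' (by
      rw [← hx, orderOf_eq_one_iff]
      exact Subtype.ext (e.le ⟨x.2, by rw [← hx, ← coe_pow, pow_orderOf_eq_one, coe_one]⟩))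
  refine ⟨N, p, hN, h1, comm_iff_le_cent.2 hc, ht, fun a => stabilizer_bot_of_forall fun n hn e =>
    eq_of_smul_eq_smul fun b : α => ?_, hp, fun n hn => (hM.ge hn).2⟩
  obtain ⟨m, hm, rfl⟩ := exists_mem_smul_eq N a b
  rw [one_smul, ← mul_smul, hc n hn m hm, mul_smul, e]

end H16
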