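import Cfsg.Agent.H15.Kl0

/-! Piece `PS` of S4606. -/
set_option autoImplicit false
namespace H16.KlS
open Subgroup Cfsg H15.Kl
open scoped commutatorElement
universe u

theorem exp_p {G : Type u} [Group G] (p : ℕ) (D : Subgroup G) (hA : AC D) :
    ∀ (k : ℕ) (a : G), a ∈ D → a ^ p ^ k = 1 → a ^ p = 1 := by
  intro k
  induction k with
  | zero => intro a _ h; rw [pow_zero, pow_one] at h; rw [h, one_pow]
  | succ k ih =>
    intro a ha h
    by_contra hne
    have h1 : a ≠ 1 := by rintro rfl; exact hne (one_pow p)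
    have h2 : (a ^ p) ^ p = 1 := ih (a ^ p) (D.pow_mem ha p) (by rw [← pow_mul, ← pow_succ']; exact h)
    obtain ⟨c, hc⟩ := isConj_iff.1 (hA _ (D.pow_mem ha p) a ha hne h1)
    apply hne
    rw [← hc, conj_pow, h2]; simp

theorem dich {G : Type u} [Group G] (D : Subgroup G) (hA : AC D) (L : Subgroup G) (hL : L.Normal)
    (h : ¬ D ≤ L) : ∀ x ∈ D, x ∈ L → x = 1 := by
  intro x hx hxL
  by_contra hne
  apply h
  intro y hy
  by_cases h1 : y = 1
  · rw [h1]; exact L.one_mem
  obtain ⟨c, hc⟩ := isConj_iff.1 (hA x hx y hy hne h1)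
  rw [← hc]; exact hL.conj_mem x hxL c

theorem pow_rel {G : Type u} [Group G] (A B : Subgroup G) (hA : A.Normal) (x : G) (hx : x ∈ B) :
    x ^ A.relIndex B ∈ A := by
  have := hA
  have := Subgroup.pow_index_mem (H := A.subgroupOf B) (⟨x, hx⟩ : B)
  simpa [Subgroup.mem_subgroupOf, Subgroup.relIndex] using this

theorem pS : PS.{u} := by
  intro G _ _ p hp D hsol hD hA
  have hexp : ∀ a ∈ D, a ^ p = 1 := by
    intro a ha
    obtain ⟨k, hk⟩ := hD ⟨a, ha⟩
    exact exp_p p D hA k a ha (by simpa using congrArg Subtype.val hk)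
  refine ⟨?_, hexp⟩
  by_cases hbot : D = ⊥
  · subst hbot; infer_instance
  obtain ⟨n, H, h0, hl, -, hN, hF⟩ := hsol
  -- the step of the series
  have hstep : ∃ i : Fin n, ¬ D ≤ H i.castSucc ∧ D ≤ H i.succ := by
    by_contra hc
    push Not at hc
    have : ∀ j : Fin (n + 1), ¬ D ≤ H j := by
      intro j
      induction j using Fin.induction with
      | zero => rw [h0]; exact fun h => hbot (le_bot_iff.1 h)
      | succ j ih => exact hc j ih
    exact this (Fin.last n) (hl ▸ le_top)
  obtain ⟨i, hi1, hi2⟩ := hstep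
  obtain ⟨K, ⟨hKN, hDK⟩, hmin⟩ := (wellFounded_lt (α := Subgroup G)).has_min {K | K.Normal ∧ D ≤ K}
    ⟨⊤, inferInstance, le_top⟩
  have := hKN
  have := hN i.succ
  have := hN i.castSucc
  have hK2 : K ≤ H i.succ := by
    by_contra hc
    exact hmin (K ⊓ H i.succ) ⟨inferInstance, le_inf hDK hi2⟩
      (lt_of_le_of_ne inf_le_left fun h => hc (h ▸ inf_le_right))
  obtain ⟨x, hxD, hx1⟩ : ∃ x ∈ D, x ≠ 1 := by
    by_contra hc
    push Not at hc
    exact hbot ((eq_bot_iff_forall _).2 hc)
  have hlt : ⁅K, K⁆ ≠ K := by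
    intro hKK
    rcases hF i with ⟨m, hm⟩ | hc
    · set Kb := K.map (QuotientGroup.mk' (H i.castSucc)) with hKb
      have hP : IsPGroup p Kb := by
        rintro ⟨_, k, hk, rfl⟩
        refine ⟨m, Subtype.ext ?_⟩
        have := pow_rel (H i.castSucc) (H i.succ) inferInstance k (hK2 hk)
        rw [hm] at this
        simpa [← QuotientGroup.mk_pow, QuotientGroup.eq_one_iff] using this
      have := hP.isNilpotent
      have hne : Kb ≠ ⊥ := by
        intro h
        apply hi1
        rw [hKb, Subgroup.map_eq_bot_iff, QuotientGroup.ker_mk'] at h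
        exact hDK.trans h
      have : Nontrivial Kb := (nontrivial_iff_ne_bot _).2 hne
      have h1 := Group.IsSolvable.commutator_lt_top_of_nontrivial (G := Kb)
      have h2 : ⁅Kb, Kb⁆ = Kb := by rw [hKb, ← map_commutator, hKK]
      apply h1.ne
      apply map_injective Kb.subtype_injective
      rw [map_subtype_commutator, h2, ← MonoidHom.range_eq_map, range_subtype]
    · have h1 := pow_rel (H i.castSucc) (H i.succ) inferInstance x (hi2 hxD)
      have h2 := dich D hA _ inferInstance hi1 _ (D.pow_mem hxD _) h1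
      apply hx1
      have h3 := Nat.dvd_gcd (orderOf_dvd_of_pow_eq_one h2) (orderOf_dvd_of_pow_eq_one (hexp x hxD))
      rw [hc.gcd_eq_one, Nat.dvd_one] at h3
      exact orderOf_eq_one_iff.1 h3
  have hnle : ¬ D ≤ ⁅K, K⁆ := fun h =>
    hmin ⁅K, K⁆ ⟨inferInstance, h⟩ (lt_of_le_of_ne (commutator_le_left K K) hlt)
  refine ⟨⟨fun a b => Subtype.ext ?_⟩⟩
  have h1 : ⁅(a : G), (b : G)⁆ = 1 := by
    apply dich D hA _ inferInstance hnle
    · rw [commutatorElement_def]
      exact D.mul_mem (D.mul_mem (D.mul_mem a.2 b.2) (D.inv_mem a.2)) (D.inv_mem b.2)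
    · exact commutator_mem_commutator (hDK a.2) (hDK b.2)
  exact commutatorElement_eq_one_iff_mul_comm.1 h1

end H16.KlS
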