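import Cfsg.Agent.H16.Basic

/-! O'Nan's theorem, geometric part: `ON A` (2-transitive group, `A x` an abelian normal subgroup of the stabiliser of
`x` that is not semiregular); the lines `col A x y`, TI property, transitivity of `A x` on lines through `x`
(`ON.trans`), axes `Ax A B`. -/

set_option autoImplicit false
set_option linter.unusedSectionVars false

namespace H16
open Subgroup MulAction

variable {G X : Type*} [Group G] [Finite G] [Finite X] [MulAction G X] [FaithfulSMul G X] {A : X → Subgroup G}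

/-- O'Nan's hypothesis -/
structure ON (A : X → Subgroup G) : Prop where
  two : IsMultiplyPretransitive G X 2
  conj : ∀ (g : G) {x a}, a ∈ A x → g * a * g⁻¹ ∈ A (g • x)
  fix : ∀ {x a}, a ∈ A x → a • x = x
  comm : ∀ {x a b}, a ∈ A x → b ∈ A x → a * b = b * a
  nsr : ∃ x y, x ≠ y ∧ ∃ a ∈ A x, a ≠ 1 ∧ a • y = y

/-- `z` lies on the line through `x` and `y` -/
def col (A : X → Subgroup G) (x y z : X) : Prop := ∀ a ∈ A x, a • y = y → a • z = z

/-- `B` is the set of fixed points of a non-trivial element of some `A y` -/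
def Ax (A : X → Subgroup G) (B : Set X) : Prop := ∃ y, ∃ k ∈ A y, k ≠ 1 ∧ B = {x | k • x = x}

theorem conj_smul (g a : G) (x : X) : (g * a * g⁻¹) • g • x = g • a • x := by simp [mul_smul]

theorem card_le_of_conj {H K : Subgroup G} (g : G) (h : ∀ a ∈ H, g * a * g⁻¹ ∈ K) : Nat.card H ≤ Nat.card K :=
  Nat.card_le_card_of_injective (fun a => ⟨_, h a.1 a.2⟩) fun a b e => Subtype.ext (by simpa using e)

namespace ON
variable (h : ON A) {x y z w v : X} {a b g k : G}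
include h

theorem cardA (x y : X) : Nat.card (A x) ≤ Nat.card (A y) := by
  obtain ⟨u, v, huv, -⟩ := h.nsr
  have : Nontrivial X := ⟨u, v, huv⟩
  obtain ⟨x', hx⟩ := exists_ne x
  obtain ⟨y', hy⟩ := exists_ne y
  obtain ⟨g, rfl, -⟩ := exists_smul2 h.two hx.symm hy.symm
  exact card_le_of_conj g fun a => h.conj g

theorem cardL (hxy : x ≠ y) (hzw : z ≠ w) :
    Nat.card ↥(A x ⊓ stabilizer G y) ≤ Nat.card ↥(A z ⊓ stabilizer G w) := by
  obtain ⟨g, rfl, rfl⟩ := exists_smul2 h.two hxy hzw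
  exact card_le_of_conj g fun a ha => ⟨h.conj g ha.1, (conj_smul g a y).trans (congrArg _ ha.2)⟩

theorem ti (hxy : x ≠ y) (hx : a ∈ A x) (hy : a ∈ A y) : a = 1 := by
  have key : ∀ {x y z w : X}, x ≠ y → z ≠ w → A x ⊓ A y ≤ A z → A x ⊓ A y ≤ A w → A x ⊓ A y = A z ⊓ A w :=
    fun hxy hzw h1 h2 => eq_of_le_of_card_ge (le_inf h1 h2) (by
      obtain ⟨g, rfl, rfl⟩ := exists_smul2 h.two hzw hxy
      exact card_le_of_conj g fun a ha => ⟨h.conj g ha.1, h.conj g ha.2⟩)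
  refine eq_one_of_forall_smul (α := X) fun w => by_contra fun hw => ?_
  have xw : x ≠ w := by rintro rfl; exact hw (h.fix hx)
  have yw : y ≠ w := by rintro rfl; exact hw (h.fix hy)
  have e : ∀ {u}, a ∈ A u → A u ⊓ A w ≤ A (a • w) := fun hu d hd => by
    have := h.conj a hd.2
    rwa [h.comm hu hd.1, mul_inv_cancel_right] at this
  have e1 := (key xw hw (e hx) inf_le_right).trans (key yw hw (e hy) inf_le_right).symm
  exact hw (h.fix ((key xw hxy inf_le_left (e1.le.trans inf_le_left)).ge ⟨hx, hy⟩).2)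

theorem cent (hk : k ∈ A y) (k1 : k ≠ 1) (e : g * k = k * g) : g • y = y := by_contra fun hy =>
  k1 (h.ti hy (by simpa [e] using h.conj g hk) hk)

theorem conj' (ha : a ∈ A x) (hg : g • x = x) : g * a * g⁻¹ ∈ A x := hg ▸ h.conj g (hg.symm ▸ ha)

theorem comm_mem (ha : a ∈ A x) (hk : k • x = x) : a * k * a⁻¹ * k⁻¹ ∈ A x := by
  simpa [mul_assoc] using mul_mem ha (h.conj' (inv_mem ha) hk)

theorem comm_mem' (hk : k ∈ A y) (ha : a • y = y) : a * k * a⁻¹ * k⁻¹ ∈ A y := mul_mem (h.conj' hk ha) (inv_mem hk)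

theorem comm2 (hxy : x ≠ y) (ha : a ∈ A x) (ha' : a • y = y) (hb : b ∈ A y) (hb' : b • x = x) : a * b = b * a := by
  have := h.ti hxy (h.comm_mem ha hb') (h.comm_mem' hb ha')
  rwa [mul_inv_eq_one, mul_inv_eq_iff_eq_mul] at this

theorem col_left (x y : X) : col A x y x := fun _ ha _ => h.fix ha

omit h in
theorem col_right (x y : X) : col A x y y := fun _ _ e => e

omit h in
theorem col_trans (h1 : col A x y z) (h2 : col A x z w) : col A x y w := fun a ha e => h2 a ha (h1 a ha e)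

theorem col_swap (hxy : x ≠ y) (hxz : x ≠ z) (h1 : col A x y z) : col A x z y := fun _ ha e =>
  ((eq_of_le_of_card_ge (H := A x ⊓ stabilizer G y) (K := A x ⊓ stabilizer G z) (fun b hb => ⟨hb.1, h1 b hb.1 hb.2⟩)
    (h.cardL hxz hxy)).ge ⟨ha, e⟩).2

theorem col_symm (hxy : x ≠ y) (h1 : col A x y w) : col A y x w := by
  by_cases e : y = w
  · exact e ▸ h.col_left y x
  refine h.col_swap e hxy.symm fun s hs hw => by_contra fun hx => ?_
  let f : ↥(A x ⊓ stabilizer G y) → ↥(A y ⊓ stabilizer G w) := fun l => ⟨l * s * (l : G)⁻¹, h.conj' hs l.2.2,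
    show _ • w = w by rw [← h1 _ l.2.1 l.2.2, conj_smul, hw]⟩
  obtain ⟨l, hl⟩ := ((Nat.bijective_iff_injective_and_card f).2 ⟨fun l l' e => by_contra fun e' => hx (h.cent
    (mul_mem (inv_mem l'.2.1) l.2.1) (fun e => e' (Subtype.ext (inv_mul_eq_one.1 e).symm)) (by
      have e : l * s * (l : G)⁻¹ = l' * s * (l' : G)⁻¹ := congrArg Subtype.val e
      rw [mul_assoc, ← inv_mul_cancel_right (l * s) l, mul_assoc _ _ (l : G)]
      rw [← mul_assoc (l * s : G), e]; group)), le_antisymm (h.cardL hxy e) (h.cardL e hxy)⟩).2 1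
  have : s = 1 := by simpa [f] using congrArg Subtype.val hl
  exact hx (by simp [this])

theorem col_of (hxy : x ≠ y) (h1 : col A x y z) (h2 : col A x y w) (hzw : z ≠ w) :
    col A z w v ↔ col A x y v := by
  have key : ∀ {x y z v : X}, x ≠ y → x ≠ z → col A x y z → (col A x z v ↔ col A x y v) := fun hxy hxz h1 =>
    ⟨col_trans h1, col_trans (h.col_swap hxy hxz h1)⟩
  have sy : ∀ {x y v : X}, x ≠ y → (col A x y v ↔ col A y x v) := fun e => ⟨h.col_symm e, h.col_symm e.symm⟩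
  by_cases e : x = z
  · exact e ▸ key hxy (e ▸ hzw) h2
  · rw [← key hxy e h1, sy e, key (Ne.symm e) hzw (h.col_symm e ((key hxy e h1).2 h2))]

theorem col_smul (g : G) (h1 : col A x y z) : col A (g • x) (g • y) (g • z) := fun a ha e => by
  have := h1 (g⁻¹ * a * g⁻¹⁻¹) (by simpa using h.conj g⁻¹ ha) (by simp [mul_smul, e])
  rwa [inv_inv, mul_smul, mul_smul, inv_smul_eq_iff] at this

theorem col_A (ha : a ∈ A x) (y : X) : col A x y (a • y) := fun b hb e => by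
  rw [← mul_smul, h.comm hb ha, mul_smul, e]

theorem meet (hw : ¬ col A x y w) (h1 : col A x y z) (h2 : col A x w z) : z = x := by_contra fun e =>
  hw (col_trans h1 (h.col_swap (fun e => hw (e ▸ h.col_left x y)) (Ne.symm e) h2))

theorem ncol_ne (hw : ¬ col A x y w) : x ≠ w ∧ y ≠ w :=
  ⟨fun e => hw (e ▸ h.col_left x y), fun e => hw (e ▸ col_right x y)⟩

theorem ncol_swap (hxy : x ≠ y) (hw : ¬ col A x y w) : ¬ col A x w y := fun e =>
  hw (h.col_swap (h.ncol_ne hw).1 hxy e)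

theorem ncol_symm (hxy : x ≠ y) (hw : ¬ col A x y w) : ¬ col A y x w := fun e => hw (h.col_symm hxy.symm e)

theorem fix_line (hyw : y ≠ w) (ha : a ∈ A x) (h1 : a • y = y) (h2 : a • w = w) (hz : col A y w z) : a • z = z := by
  by_cases e : col A y w x
  · by_cases e' : x = y
    · exact hz a (e' ▸ ha) h2
    · exact (h.col_of hyw e (h.col_left y w) e').2 hz a ha h1
  have xz : x ≠ z := fun e' => e (e' ▸ hz)
  have h3 := h.col_smul a hz
  rw [h1, h2] at h3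
  by_contra e'
  exact e ((h.col_of hyw hz h3 (Ne.symm e')).1 ((h.col_of xz (col_right x z) (h.col_A ha z) (Ne.symm e')).2
    (h.col_left x z)))

theorem exists_L (hxy : x ≠ y) : ∃ a ∈ A x, a ≠ 1 ∧ a • y = y := by
  obtain ⟨u, v, huv, a, ha, a1, e⟩ := h.nsr
  obtain ⟨g, rfl, rfl⟩ := exists_smul2 h.two huv hxy
  exact ⟨_, h.conj g ha, by simpa using a1, by rw [conj_smul, e]⟩

theorem exists_ncol (hxy : x ≠ y) : ∃ w, ¬ col A x y w := by
  obtain ⟨a, ha, a1, e⟩ := h.exists_L hxy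
  obtain ⟨w, hw⟩ := exists_smul_ne (α := X) a1
  exact ⟨w, fun c => hw (c a ha e)⟩

theorem exists_move (hxy : x ≠ y) : ∃ a ∈ A x, a • y ≠ y := by
  obtain ⟨a, ha, a1, -⟩ := h.exists_L hxy
  obtain ⟨w, hw⟩ := exists_smul_ne (α := X) a1
  obtain ⟨g, e, rfl⟩ := exists_smul2 h.two (show x ≠ w by rintro rfl; exact hw (h.fix ha)) hxy
  exact ⟨_, h.conj' ha e, by rw [conj_smul]; simpa using hw⟩

theorem comm_fix (ha : a ∈ A x) (hk : k ∈ A y) (hx : k • x = x) (hz : k • z = z) :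
    (a * k * a⁻¹ * k⁻¹) • z = z := by
  have : k • a⁻¹ • z = a⁻¹ • z := by
    by_cases e : x = z
    · rw [← e, h.fix (inv_mem ha), hx]
    · exact h.fix_line e hk hx hz (h.col_A (inv_mem ha) z)
  rw [mul_smul, inv_smul_eq_iff.2 hz.symm, mul_smul, mul_smul, this, smul_inv_smul]

theorem orb (hxy : x ≠ y) (hk : k ∈ A y) (hx : k • x = x) (hw : k • w ≠ w) (hb : b ∈ A x) :
    ∃ a ∈ A x, (a * k * a⁻¹ * k⁻¹) • w = b • w := by
  have xw : x ≠ w := by rintro rfl; exact hw hx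
  have yw : y ≠ w := by rintro rfl; exact hw (h.fix hk)
  have key : ∀ a ∈ A x, (a * k * a⁻¹ * k⁻¹) • w = w → a • y = y := fun a ha e => by_contra fun e' => by
    have h1 : (a * k * a⁻¹) • k⁻¹ • w = w := by rwa [mul_smul] at e
    have h2 := h.col_A (h.conj a hk) (k⁻¹ • w)
    have h3 : k⁻¹ • w ≠ w := fun e => hw (inv_smul_eq_iff.1 e).symm
    rw [h1] at h2
    have h4 : a • y ≠ k⁻¹ • w := fun e => h3 (by rw [← e, h.fix (h.conj a hk)] at h1; rw [← e, h1])
    have h5 := (h.col_of yw (h.col_A (inv_mem hk) w) (col_right y w) h3).1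
      ((h.col_of h4 (col_right _ _) h2 h3).2 (h.col_left _ _))
    exact hw (col_trans (h.col_symm hxy (h.col_A ha y)) (h.col_swap yw (Ne.symm e') h5) k hk hx)
  have : Nonempty X := ⟨x⟩
  obtain ⟨e, he⟩ := (Function.factorsThrough_iff (f := fun a : A x => (a * k * (a : G)⁻¹ * k⁻¹) • w)
    fun a : A x => (a : G) • y).1 fun s t e => by
      have c := h.comm (h.conj' (inv_mem s.2) hx) (h.conj' t.2 hx)
      have c' := h.comm (h.conj' t.2 hx) (mul_mem (inv_mem t.2) s.2)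
      have : (t : G)⁻¹ * s * k * ((t : G)⁻¹ * s)⁻¹ * k⁻¹ =
          (t * k * (t : G)⁻¹ * k⁻¹)⁻¹ * (s * k * (s : G)⁻¹ * k⁻¹) :=
        calc _ = (t : G)⁻¹ * s * (k * (s : G)⁻¹ * k⁻¹ * (k * t * k⁻¹)) := by group
          _ = k * t * k⁻¹ * ((t : G)⁻¹ * s) * (k * (s : G)⁻¹ * k⁻¹) := by rw [c, c', ← mul_assoc]
          _ = _ := by group
      have := key _ (mul_mem (inv_mem t.2) s.2) (by rw [this, mul_smul, inv_smul_eq_iff]; exact e)
      rwa [mul_smul, inv_smul_eq_iff] at this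
  obtain ⟨a, ha⟩ := (Set.eq_of_subset_of_ncard_le (s := Set.range fun a : A x => (a * k * (a : G)⁻¹ * k⁻¹) • w)
    (t := Set.range fun a : A x => (a : G) • w) (by rintro _ ⟨a, rfl⟩; exact ⟨⟨_, h.comm_mem a.2 hx⟩, rfl⟩) (by
      refine le_trans ?_ (Set.ncard_image_le (f := e))
      rw [← Set.range_comp, ← he]
      obtain ⟨g, e1, e2⟩ := exists_smul2 h.two xw hxy
      refine Set.ncard_le_ncard_of_injOn (g • ·) ?_ (MulAction.injective g).injOn
      rintro _ ⟨a, rfl⟩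
      exact ⟨⟨_, h.conj' a.2 e1⟩, e2 ▸ conj_smul _ _ _⟩)).ge ⟨⟨b, hb⟩, rfl⟩
  exact ⟨a, a.2, ha⟩

theorem orbL (hxy : x ≠ y) (hw : ¬ col A x y w) (hb : b ∈ A x) : ∃ a ∈ A x, a • y = y ∧ a • w = b • w := by
  obtain ⟨k, hk, hx, hw⟩ : ∃ k ∈ A y, k • x = x ∧ k • w ≠ w := by simpa [col] using h.ncol_symm hxy hw
  obtain ⟨a, ha, e⟩ := h.orb hxy hk hx hw hb
  exact ⟨_, h.comm_mem ha hx, h.comm_fix ha hk hx (h.fix hk), e⟩

theorem cone (hyw : y ≠ w) (hx : ¬ col A y w x) (hb : b ∈ A x) (hw : b • w ≠ w) (hv : col A x y v) (hxv : x ≠ v) :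
    ∃ z, col A y w z ∧ ∃ a ∈ A x, a • z = z ∧ a • w = b • w ∧ a • y = v := by
  have xy := (h.ncol_ne hx).1.symm
  have : ∀ z, col A y w z ∧ z ≠ w → ∃ a ∈ A x, a • z = z ∧ a • w = b • w := fun z hz =>
    have xz : x ≠ z := fun e => hx (e ▸ hz.1)
    h.orbL xz (fun c => hx ((h.col_of hyw hz.1 (col_right y w) hz.2).1
      ((h.col_of xz (col_right x z) c hz.2).2 (h.col_left x z)))) hb
  choose! f f1 f2 f3 using this
  obtain ⟨g, e1, e2⟩ := exists_smul2 h.two xy hyw.symm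
  obtain ⟨z, hz, e⟩ := Set.surj_on_of_inj_on_of_ncard_le (s := {z | col A y w z ∧ z ≠ w})
    (t := {z | col A x y z ∧ z ≠ x}) (fun z _ => f z • y)
    (fun z hz => ⟨h.col_A (f1 z hz) y, fun e => xy (smul_left_cancel (f z) ((h.fix (f1 z hz)).trans e.symm))⟩)
    (fun z z' hz hz' e => by_contra fun zz => hw (by
      have := h.fix_line hyw (mul_mem (inv_mem (f1 z hz)) (f1 z' hz')) (by rw [mul_smul, ← e, inv_smul_smul])
        (by rw [mul_smul, f3 z' hz', ← f3 z hz, inv_smul_smul]) hz.1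
      rw [mul_smul, inv_smul_eq_iff, f2 z hz] at this
      rw [← f3 z' hz']
      exact h.fix_line zz (f1 z' hz') this (f2 z' hz') ((h.col_of hyw hz.1 hz'.1 zz).2 (col_right y w))))
    (Set.ncard_le_ncard_of_injOn (g • ·) (fun z hz => ⟨h.col_symm hyw.symm (e1 ▸ e2 ▸ h.col_smul g hz.1),
      fun e => hz.2 (smul_left_cancel g (e.trans e1.symm))⟩) (MulAction.injective g).injOn)
    (Set.toFinite _) v ⟨hv, hxv.symm⟩
  exact ⟨z, hz.1, _, f1 z hz, f2 z hz, f3 z hz, e.symm⟩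

theorem trans (hxy : x ≠ y) (hv : col A x y v) (hxv : x ≠ v) : ∃ a ∈ A x, a • y = v := by
  obtain ⟨w, hw⟩ := h.exists_ncol hxy
  obtain ⟨b, hb, e⟩ := h.exists_move (h.ncol_ne hw).1
  obtain ⟨-, -, a, ha, -, -, e⟩ := h.cone (h.ncol_ne hw).2 (h.ncol_swap hxy.symm (h.ncol_symm hxy hw)) hb e hv hxv
  exact ⟨a, ha, e⟩

theorem transL (hxy : x ≠ y) (hw : ¬ col A x y w) (hv : col A x w v) (hxv : x ≠ v) :
    ∃ a ∈ A x, a • y = y ∧ a • w = v := by
  obtain ⟨b, hb, rfl⟩ := h.trans (h.ncol_ne hw).1 hv hxv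
  exact h.orbL hxy hw hb

theorem third (hxy : x ≠ y) : ∃ z, col A x y z ∧ z ≠ x ∧ z ≠ y := by
  obtain ⟨a, ha, e⟩ := h.exists_move hxy
  exact ⟨_, h.col_A ha y, fun e => hxy (smul_left_cancel a ((h.fix ha).trans e.symm)), e⟩

variable {B : Set X} {c d : X}

theorem ax_meet (hB : Ax A B) (hyw : y ≠ w) : ∃ z ∈ B, col A y w z := by
  obtain ⟨x, b, hb, -, rfl⟩ := hB
  by_cases hx : col A y w x
  · exact ⟨x, h.fix hb, hx⟩
  by_cases hw : b • w = w
  · exact ⟨w, hw, col_right y w⟩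
  obtain ⟨z, hz, a, ha, e1, e2, e3⟩ := h.cone hyw hx hb hw (h.col_A hb y) fun e =>
    (h.ncol_ne hx).1 (smul_left_cancel b (e.symm.trans (h.fix hb).symm))
  have := h.fix_line hyw (mul_mem (inv_mem hb) ha) (by rw [mul_smul, e3, inv_smul_smul])
    (by rw [mul_smul, e2, inv_smul_smul]) hz
  rw [mul_smul, e1, inv_smul_eq_iff] at this
  exact ⟨z, this.symm, hz⟩

theorem ax_sub (hB : Ax A B) (hc : c ∈ B) (hd : d ∈ B) (hcd : c ≠ d) (hz : col A c d z) : z ∈ B := by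
  obtain ⟨x, b, hb, -, rfl⟩ := hB
  exact h.fix_line hcd hb hc hd hz

theorem ax_semi (hB : Ax A B) (ha : a ∈ A x) (h1 : ∀ c ∈ B, a • c = c) (hw : w ∉ B) (h2 : a • w = w) : a = 1 :=
  eq_one_of_forall_smul (α := X) fun v => by
    by_cases e : w = v
    · exact e ▸ h2
    obtain ⟨c, hc, h3⟩ := h.ax_meet hB e
    have : w ≠ c := fun e => hw (e ▸ hc)
    exact h.fix_line this ha h2 (h1 c hc) (h.col_swap e this h3)

omit h in
theorem ax_ne (hB : Ax A B) : ∃ w, w ∉ B := by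
  obtain ⟨x, b, -, b1, rfl⟩ := hB
  exact exists_smul_ne (α := X) b1

theorem ax_two (hB : Ax A B) (c : X) : ∃ d ∈ B, c ≠ d := by
  obtain ⟨u, v, huv, -⟩ := h.nsr
  have : Nontrivial X := ⟨u, v, huv⟩
  obtain ⟨y, hy⟩ := exists_ne c
  obtain ⟨w, hw⟩ := h.exists_ncol hy.symm
  obtain ⟨d, hd, e⟩ := h.ax_meet hB (h.ncol_ne hw).2
  exact ⟨d, hd, fun e' => h.ncol_swap hy (h.ncol_symm hy.symm hw) (e' ▸ e)⟩

theorem ax_trans (hB : Ax A B) (hc : c ∈ B) (hw : w ∉ B) (hz : col A c w z) (hcz : c ≠ z) :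
    ∃ t ∈ A c, (∀ b ∈ B, t • b = b) ∧ t • w = z := by
  have key : ∀ {c y z : X} {k : G}, k ∈ A y → B = {x | k • x = x} → c ≠ y → c ∈ B → col A c w z → c ≠ z →
      ∃ t ∈ A c, (∀ b ∈ B, t • b = b) ∧ t • w = z := fun hk e hcy hc hz hcz => by
    subst e
    obtain ⟨b, hb, rfl⟩ := h.trans (by rintro rfl; exact hw hc) hz hcz
    obtain ⟨a, ha, e⟩ := h.orb hcy hk hc hw hb
    exact ⟨_, h.comm_mem ha hc, fun b => h.comm_fix ha hk hc, e⟩
  obtain ⟨d, hd, hcd⟩ := h.ax_two hB c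
  obtain ⟨y, k, hk, -, e⟩ := id hB
  by_cases hcy : c = y
  swap
  · exact key hk e hcy hc hz hcz
  obtain ⟨v, h1, h2, h3⟩ := h.third (show d ≠ w by rintro rfl; exact hw hd)
  obtain ⟨t, ht, t1, rfl⟩ := key hk e (hcy ▸ hcd.symm) hd h1 h2.symm
  refine key ht (Set.ext fun u => ⟨t1 u, fun hu => by_contra fun hu' => h3 ?_⟩) hcd hc hz hcz
  rw [h.ax_semi hB ht t1 hu' hu, one_smul]

theorem ax_smul (hB : Ax A B) (hc : c ∈ B) (ha : a ∈ A c) (hd : d ∈ B) : a • d ∈ B := by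
  by_cases e : c = d
  · rwa [← e, h.fix ha]
  · exact h.ax_sub hB hc hd e (h.col_A ha d)

end ON
end H16
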