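import Cfsg.Agent.H16.ON
import Cfsg.Agent.H16.AZ

/-! O'Nan's theorem, coordinates: the translation group `Tr A B` of an axis, its vector space structure
(`ON.exists_module`) and homogeneous coordinates of the points (`ON.coord`). -/

set_option autoImplicit false
set_option linter.unusedSectionVars false

namespace H16
open Subgroup MulAction

universe u
variable {G : Type u} {X : Type*} [Group G] [Finite G] [Finite X] [MulAction G X] [FaithfulSMul G X] {A : X → Subgroup G}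

/-- the translation group with axis `B` -/
def Tr (A : X → Subgroup G) (B : Set X) : Subgroup G :=
  fixingSubgroup G B ⊓ centralizer {s | (∀ b ∈ B, s • b = b) ∧ ∃ c ∈ B, s ∈ A c}

/-- a commutative subgroup written additively -/
def Ab (H : Subgroup G) (_ : ∀ a ∈ H, ∀ b ∈ H, a * b = b * a) : Type _ := ↥H

namespace Ab
variable {H : Subgroup G} {hH : ∀ a ∈ H, ∀ b ∈ H, a * b = b * a}

instance : AddCommGroup (Ab H hH) :=
  { (inferInstance : AddGroup (Additive H)) with add_comm := fun a b => Subtype.ext (hH _ a.2 _ b.2) }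

instance : Finite (Ab H hH) := inferInstanceAs (Finite H)

/-- the underlying element -/
def v (a : Ab H hH) : G := a.1

theorem mem (a : Ab H hH) : a.v ∈ H := a.2
theorem ext {a b : Ab H hH} (h : a.v = b.v) : a = b := Subtype.ext h
theorem v_add (a b : Ab H hH) : (a + b).v = a.v * b.v := rfl
theorem v_neg (a : Ab H hH) : (-a).v = a.v⁻¹ := rfl
theorem ne_one {a : Ab H hH} (h : a ≠ 0) : a.v ≠ 1 := fun e => h (ext e)

end Ab

/-- the component of a translation -/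
def cmp (A : X → Subgroup G) (B : Set X) {hT} (t : Ab (Tr A B) hT) : AddSubgroup (Ab (Tr A B) hT) where
  carrier := {s | ∀ c ∈ B, t.v ∈ A c → s.v ∈ A c}
  zero_mem' := fun _ _ _ => one_mem _
  add_mem' := fun h1 h2 c hc e => mul_mem (h1 c hc e) (h2 c hc e)
  neg_mem' := fun h1 c hc e => inv_mem (h1 c hc e)

theorem Tr_fix {B : Set X} {t : G} (ht : t ∈ Tr A B) : ∀ b ∈ B, t • b = b := (mem_fixingSubgroup_iff G).1 ht.1

namespace ON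
variable (h : ON A) {x y z w v c d : X} {a b g k t : G} {B : Set X}
include h

theorem mem_Tr (hc : c ∈ B) (ha : a ∈ A c) (h1 : ∀ b ∈ B, a • b = b) : a ∈ Tr A B :=
  ⟨(mem_fixingSubgroup_iff G).2 h1, fun s ⟨h2, d, hd, hs⟩ => by
    by_cases e : d = c
    · exact h.comm hs (e ▸ ha)
    · exact h.comm2 e hs (h2 c hc) ha (h1 d hd)⟩

theorem tr_trans (hB : Ax A B) (hy : y ∉ B) (hz : z ∉ B) : ∃ t, (∃ c ∈ B, t ∈ A c) ∧ (∀ b ∈ B, t • b = b) ∧ t • y = z := by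
  by_cases e : y = z
  · obtain ⟨c, hc, -⟩ := h.ax_two hB y
    exact ⟨1, ⟨c, hc, one_mem _⟩, by simp, by simpa⟩
  obtain ⟨c, hc, h1⟩ := h.ax_meet hB e
  have cy : c ≠ y := fun e => hy (e ▸ hc)
  obtain ⟨t, h2, h3⟩ := h.ax_trans hB hc hy (h.col_symm cy.symm (h.col_swap e cy.symm h1)) fun e => hz (e ▸ hc)
  exact ⟨t, ⟨c, hc, h2⟩, h3⟩

theorem tr_semi (hB : Ax A B) (ht : t ∈ Tr A B) (hy : y ∉ B) (e : t • y = y) : t = 1 :=
  eq_one_of_forall_smul (α := X) fun z => by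
    by_cases hz : z ∈ B
    · exact Tr_fix ht z hz
    obtain ⟨s, h1, h2, rfl⟩ := h.tr_trans hB hy hz
    rw [← mul_smul, ← ht.2 s ⟨h2, h1⟩, mul_smul, e]

omit h in
theorem tr_notMem (ht : t ∈ Tr A B) (hy : y ∉ B) : t • y ∉ B := fun e =>
  hy (smul_left_cancel t (Tr_fix ht _ e) ▸ e)

theorem tr_cen (hB : Ax A B) (ht : t ∈ Tr A B) : ∃ c ∈ B, t ∈ A c := by
  obtain ⟨o, ho⟩ := ax_ne hB
  obtain ⟨s, ⟨c, hc, h1⟩, h2, e⟩ := h.tr_trans hB ho (tr_notMem ht ho)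
  have := h.tr_semi hB (mul_mem (inv_mem ht) (h.mem_Tr hc h1 h2)) ho (by rw [mul_smul, e, inv_smul_smul])
  exact ⟨c, hc, inv_mul_eq_one.1 this ▸ h1⟩

theorem tr_comm (hB : Ax A B) : ∀ s ∈ Tr A B, ∀ t ∈ Tr A B, s * t = t * s := fun s hs _ ht =>
  ht.2 s ⟨Tr_fix hs, h.tr_cen hB hs⟩

theorem tr_ne (hB : Ax A B) (hc : c ∈ B) : ∃ t ∈ Tr A B, t ∈ A c ∧ t ≠ 1 := by
  obtain ⟨o, ho⟩ := ax_ne hB
  obtain ⟨z, h1, h2, h3⟩ := h.third (show c ≠ o from fun e => ho (e ▸ hc))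
  obtain ⟨t, ht, h4, rfl⟩ := h.ax_trans hB hc ho h1 h2.symm
  exact ⟨t, h.mem_Tr hc ht h4, ht, by rintro rfl; simp at h3⟩

theorem tr_conj (hB : Ax A B) (hc : c ∈ B) (ha : a ∈ A c) (ht : t ∈ Tr A B) : a * t * a⁻¹ ∈ Tr A B := by
  obtain ⟨d, hd, h1⟩ := h.tr_cen hB ht
  exact h.mem_Tr (h.ax_smul hB hc ha hd) (h.conj a h1) fun b hb => by
    rw [mul_smul, mul_smul, Tr_fix ht _ (h.ax_smul hB hc (inv_mem ha) hb), smul_inv_smul]

theorem mem_cmp {hT} {s t : Ab (Tr A B) hT} (hc : c ∈ B) (ht : t.v ∈ A c) (t0 : t ≠ 0) :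
    s ∈ cmp A B t ↔ s.v ∈ A c := ⟨fun e => e c hc ht, fun e d _ hd => by
  by_cases e' : c = d
  · exact e' ▸ e
  · exact absurd (h.ti e' ht hd) (Ab.ne_one t0)⟩

theorem col_mul (hcd : c ≠ d) (ha : a ∈ A c) (hb : b ∈ A d) (hb' : b • c = c) (hz : a * b ∈ A z)
    (h1 : a * b ≠ 1) : col A c d z := fun g hg e => h.cent hz h1 (by
  rw [← mul_assoc, h.comm hg ha, mul_assoc, h.comm2 hcd hg e hb hb', mul_assoc])

theorem tr_dec (hB : Ax A B) (hc : c ∈ B) (hcd : c ≠ d) (hz : col A c d z) (ht : t ∈ Tr A B)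
    (ht' : t ∈ A z) : ∃ a ∈ Tr A B, a ∈ A c ∧ ∃ b ∈ Tr A B, b ∈ A d ∧ a * b = t := by
  by_cases e : c = z
  · exact ⟨t, ht, e ▸ ht', 1, one_mem _, one_mem _, mul_one t⟩
  obtain ⟨g, hg, rfl⟩ := h.trans hcd hz e
  have h1 := h.tr_conj hB hc (inv_mem hg) ht
  have h2 : g⁻¹ * t * g⁻¹⁻¹ ∈ A d := by simpa using h.conj g⁻¹ ht'
  exact ⟨_, mul_mem ht (inv_mem h1), by simpa [mul_assoc] using h.comm_mem hg (Tr_fix h1 c hc), _, h1, h2,
    inv_mul_cancel_right _ _⟩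

theorem spr (hB : Ax A B) : Spr (cmp A B (hT := h.tr_comm hB)) where
  zero := eq_bot_iff.2 fun s hs => by
    obtain ⟨c, hc, -⟩ := h.tr_cen hB s.mem
    obtain ⟨d, hd, e⟩ := h.ax_two hB c
    exact Ab.ext (h.ti e (hs c hc (one_mem _)) (hs d hd (one_mem _)))
  mem := fun _ _ _ e => e
  eq := fun {v w} hw w0 => by
    obtain ⟨c, hc, e⟩ := h.tr_cen hB v.mem
    refine AddSubgroup.ext fun s => (h.mem_cmp hc (hw c hc e) w0).trans (h.mem_cmp hc e ?_).symm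
    rintro rfl
    obtain ⟨d, hd, e'⟩ := h.ax_two hB c
    exact w0 (Ab.ext (h.ti e' (hw c hc (one_mem _)) (hw d hd (one_mem _))))

theorem sup_cmp (hB : Ax A B) {s t u : Ab (Tr A B) (h.tr_comm hB)} (hc : c ∈ B) (hd : d ∈ B) (hcd : c ≠ d)
    (hs : s.v ∈ A c) (s0 : s ≠ 0) (ht : t.v ∈ A d) (t0 : t ≠ 0) (hu : u.v ∈ A z) (u0 : u ≠ 0) :
    u ∈ cmp A B s ⊔ cmp A B t ↔ col A c d z := by
  refine ⟨fun e => ?_, fun e => ?_⟩
  · obtain ⟨a, ha, b, hb, rfl⟩ := AddSubgroup.mem_sup.1 e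
    exact h.col_mul hcd (ha c hc hs) (hb d hd ht) (Tr_fix b.mem c hc) hu (Ab.ne_one u0)
  · obtain ⟨a, h1, h2, b, h3, h4, e⟩ := h.tr_dec hB hc hcd e u.mem hu
    exact AddSubgroup.mem_sup.2 ⟨⟨a, h1⟩, (h.mem_cmp hc hs s0).2 h2, ⟨b, h3⟩, (h.mem_cmp hd ht t0).2 h4, Ab.ext e⟩

theorem geo (hB : Ax A B) {u s t : Ab (Tr A B) (h.tr_comm hB)} (hu : u ∈ cmp A B s ⊔ cmp A B t) :
    cmp A B u ≤ cmp A B s ⊔ cmp A B t := by
  have H := h.spr hB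
  by_cases u0 : u = 0
  · simp [u0, H.zero]
  by_cases e : t ∈ cmp A B s
  · by_cases t0 : t = 0
    · rw [t0, H.zero, sup_bot_eq] at hu ⊢; exact (H.eq hu u0).le
    · rw [H.eq e t0, sup_idem] at hu ⊢; exact (H.eq hu u0).le
  by_cases s0 : s = 0
  · rw [s0, H.zero, bot_sup_eq] at hu ⊢; exact (H.eq hu u0).le
  have t0 : t ≠ 0 := fun e' => e (e' ▸ zero_mem _)
  obtain ⟨c, hc, h1⟩ := h.tr_cen hB s.mem
  obtain ⟨d, hd, h2⟩ := h.tr_cen hB t.mem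
  obtain ⟨z, hz, h3⟩ := h.tr_cen hB u.mem
  have cd : c ≠ d := fun e' => e ((h.mem_cmp hc h1 s0).2 (e' ▸ h2))
  intro r hr
  by_cases r0 : r = 0
  · simp [r0]
  exact (h.sup_cmp hB hc hd cd h1 s0 h2 t0 (hr z hz h3) r0).2 ((h.sup_cmp hB hc hd cd h1 s0 h2 t0 h3 u0).1 hu)

/-- root groups -/
abbrev Rt (x y : X) := Ab (A x ⊓ stabilizer G y) fun _ ha _ hb => h.comm ha.1 hb.1

/-- the commutator pairing of two root groups -/
def bil (hxy : x ≠ y) (w : X) : h.Rt x w →+ h.Rt y x →+ h.Rt x y :=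
  AddMonoidHom.mk' (fun a => AddMonoidHom.mk' (fun k => ⟨a.v * k.v * a.v⁻¹ * k.v⁻¹,
      h.comm_mem a.mem.1 k.mem.2, h.comm_fix a.mem.1 k.mem.1 k.mem.2 (h.fix k.mem.1)⟩)
    fun k l => Ab.ext (by
      have := h.comm2 hxy (h.comm_mem a.mem.1 l.mem.2)
        (h.comm_fix a.mem.1 l.mem.1 l.mem.2 (h.fix l.mem.1)) k.mem.1 k.mem.2
      change a.v * (k.v * l.v) * a.v⁻¹ * (k.v * l.v)⁻¹ = a.v * k.v * a.v⁻¹ * k.v⁻¹ * (a.v * l.v * a.v⁻¹ * l.v⁻¹)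
      rw [mul_assoc _ k.v⁻¹, ← mul_inv_cancel_right (a.v * l.v * _ * _) k.v, this]
      group))
    fun a b => AddMonoidHom.ext fun k => Ab.ext (by
      have := h.comm (h.conj' (inv_mem a.mem.1) k.mem.2) (h.comm_mem b.mem.1 k.mem.2)
      change a.v * b.v * k.v * (a.v * b.v)⁻¹ * k.v⁻¹ = a.v * k.v * a.v⁻¹ * k.v⁻¹ * (b.v * k.v * b.v⁻¹ * k.v⁻¹)
      rw [mul_assoc a.v k.v, mul_assoc a.v (_ * a.v⁻¹), mul_assoc a.v (_ * k.v⁻¹), this]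
      group)

omit h in
theorem graph {P Q : Subgroup G} (hPQ : ∀ s ∈ P, s ∈ Q → s = 1) {u u' k k' : G} (hu : u ∈ P) (hu' : u' ∈ P)
    (hk : k ∈ Q) (hk' : k' ∈ Q) (e : u * k = u' * k') : u = u' ∧ k = k' := by
  have := hPQ _ (mul_mem (inv_mem hu') hu) (by
    rw [show u'⁻¹ * u = k' * k⁻¹ by rw [eq_mul_inv_iff_mul_eq, mul_assoc, e, inv_mul_cancel_left]]
    exact mul_mem hk' (inv_mem hk))
  obtain rfl := inv_mul_eq_one.1 this
  exact ⟨rfl, mul_left_cancel e⟩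

theorem inv1 (hxy : x ≠ y) (a : h.Rt x w) (g : h.Rt y w) (e : a.v • y = g.v • x) (k : h.Rt y x) :
    h.bil hxy.symm w g (h.bil hxy w a k) = k := by
  have h1 : g.v⁻¹ * (a.v * k.v * a.v⁻¹) * g.v⁻¹⁻¹ ∈ A x := by simpa [e] using h.conj g.v⁻¹ (h.conj a.v k.mem.1)
  have h2 : (a.v * k.v * a.v⁻¹) • y = y := by
    simpa [mul_smul, h.fix (inv_mem k.mem.1)] using h.comm_fix a.mem.1 k.mem.1 k.mem.2 (h.fix k.mem.1)
  have h3 : (g.v⁻¹ * (a.v * k.v * a.v⁻¹) * g.v⁻¹⁻¹) • y = y := by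
    rw [mul_smul, mul_smul, h.fix (inv_mem (inv_mem g.mem.1)), h2, h.fix (inv_mem g.mem.1)]
  let u : h.Rt x y := ⟨_, h1, h3⟩
  obtain ⟨e1, e2⟩ := graph (fun s => h.ti hxy) (h.bil hxy w a k).mem.1 h1 k.mem.1 (h.bil hxy.symm w g u).mem.1 (by
    rw [h.comm2 hxy h1 h3 (h.bil hxy.symm w g u).mem.1 (h.bil hxy.symm w g u).mem.2]
    change a.v * k.v * a.v⁻¹ * k.v⁻¹ * k.v = g.v * u.v * g.v⁻¹ * u.v⁻¹ * u.v
    simp [u, Ab.v, mul_assoc])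
  rw [show h.bil hxy w a k = u from Ab.ext e1, Ab.ext e2]

theorem inv2 (hxy : x ≠ y) (hxw : x ≠ w) (hP : ∀ s ∈ A x, s • y = y → s • w = w → s = 1) (k : h.Rt y x)
    (g : h.Rt w x) (e : k.v • w = g.v • y) (a : h.Rt x w) : h.bil hxw y (h.bil hxy w a k) g = a := by
  let u : h.Rt x y := ⟨g.v⁻¹ * (k.v * a.v * k.v⁻¹) * g.v⁻¹⁻¹,
    h.conj' (h.conj' a.mem.1 k.mem.2) (inv_smul_eq_iff.2 g.mem.2.symm), show _ • y = y by
      rw [inv_inv, mul_smul, mul_smul, ← e, conj_smul, show a.v • w = w from a.mem.2, e, inv_smul_smul]⟩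
  obtain ⟨e1, e2⟩ := graph (P := A x ⊓ stabilizer G y) (Q := A x ⊓ stabilizer G w) (fun s h1 h2 => hP s h1.1 h1.2 h2.2)
    (-h.bil hxy w a k).mem u.mem a.mem (-h.bil hxw y u g).mem (by
    rw [h.comm u.mem.1 (-h.bil hxw y u g).mem.1]
    change (a.v * k.v * a.v⁻¹ * k.v⁻¹)⁻¹ * a.v = (u.v * g.v * u.v⁻¹ * g.v⁻¹)⁻¹ * u.v
    simp [u, Ab.v, mul_assoc])
  rw [neg_eq_iff_eq_neg.1 (Ab.ext e1), map_neg, Ab.ext e2]
  rfl

theorem plane (hxy : x ≠ y) (hw : ¬ col A x y w)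
    (hP : ∀ {x y w}, x ≠ y → ¬ col A x y w → ∀ s ∈ A x, s • y = y → s • w = w → s = 1) :
    ∃ (F : Type) (_ : Field F) (eX : h.Rt x w ≃+ F) (eY : h.Rt y x ≃+ F) (eZ : h.Rt x y ≃+ F),
      ∀ a k, eZ (h.bil hxy w a k) = eX a * eY k := by
  have key : ∀ {x y w : X}, x ≠ y → ¬ col A x y w → ∀ a : h.Rt x w, a ≠ 0 → ∃ g : h.Rt y w, a.v • y = g.v • x :=
    fun {x y w} hxy hw a a0 => by
      obtain ⟨g, h1, h2, h3⟩ := h.transL (h.ncol_ne hw).2 (h.ncol_swap hxy.symm (h.ncol_symm hxy hw))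
        (h.col_symm hxy (h.col_A a.mem.1 y)) fun e => Ab.ne_one a0 (hP hxy hw _ a.mem.1 e.symm a.mem.2)
      exact ⟨⟨g, h1, h2⟩, h3.symm⟩
  have xw := (h.ncol_ne hw).1
  have yw := (h.ncol_ne hw).2
  have h1 := h.ncol_swap hxy.symm (h.ncol_symm hxy hw)
  obtain ⟨a, a1, a2, a3⟩ := h.exists_L xw
  obtain ⟨k, k1, k2, k3⟩ := h.exists_L hxy.symm
  refine field_of_bil (h.bil hxy w) (h.bil hxy.symm w).range (h.bil xw y).flip.range (fun a a0 => ?_) ?_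
    (fun a a0 => ?_) ?_ (x₀ := ⟨a, a1, a3⟩) (y₀ := ⟨k, k1, k3⟩) (fun e => a2 (congrArg Ab.v e))
    fun e => k2 (congrArg Ab.v e)
  · obtain ⟨g, e⟩ := key hxy hw a a0
    exact ⟨_, ⟨g, rfl⟩, h.inv1 hxy a g e, h.inv1 hxy.symm g a e.symm⟩
  · rintro _ ⟨g, rfl⟩ g0
    obtain ⟨a, e⟩ := key hxy.symm (h.ncol_symm hxy hw) g (by rintro rfl; simp at g0)
    exact ⟨a, h.inv1 hxy a g e.symm, h.inv1 hxy.symm g a e⟩
  · obtain ⟨g, e⟩ := key yw h1 a a0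
    exact ⟨_, ⟨g, rfl⟩, h.inv2 hxy xw (hP hxy hw) a g e,
      h.inv2 xw hxy (fun s h1 h2 h3 => hP hxy hw s h1 h3 h2) g a e.symm⟩
  · rintro _ ⟨g, rfl⟩ g0
    obtain ⟨a, e⟩ := key yw.symm (h.ncol_symm yw h1) g (by rintro rfl; simp at g0)
    exact ⟨a, h.inv2 hxy xw (hP hxy hw) a g e.symm,
      h.inv2 xw hxy (fun s h1 h2 h3 => hP hxy hw s h1 h3 h2) g a e⟩

theorem exists_module (hB : Ax A B) : ∃ (F : Type) (_ : Field F) (_ : Module F (Ab (Tr A B) (h.tr_comm hB))),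
    ∀ v w : Ab (Tr A B) (h.tr_comm hB), w ∈ cmp A B v ↔ ∃ c : F, w = c • v := by
  have H := h.spr hB
  by_cases h3 : ∀ v w : Ab (Tr A B) (h.tr_comm hB), cmp A B v ⊔ cmp A B w ≠ ⊤
  · exact H.exists_module (fun v e => h3 v v (by rw [e, sup_idem])) (H.exists_ker (h.geo hB) h3)
  obtain ⟨x, hx, y, hy, hxy, hl⟩ : ∃ x ∈ B, ∃ y ∈ B, x ≠ y ∧ ∀ z ∈ B, col A x y z := by
    push Not at h3
    obtain ⟨s, t, e⟩ := h3
    have : ∀ c ∈ B, ∀ s : Ab (Tr A B) (h.tr_comm hB), s.v ∈ A c → ∃ s' : Ab (Tr A B) (h.tr_comm hB),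
        s'.v ∈ A c ∧ s' ≠ 0 ∧ cmp A B s ≤ cmp A B s' := fun c hc s hs => by
      by_cases s0 : s = 0
      · obtain ⟨t, h1, h2, h3⟩ := h.tr_ne hB hc
        exact ⟨⟨t, h1⟩, h2, fun e => h3 (congrArg Ab.v e), by simp [s0, H.zero]⟩
      · exact ⟨s, hs, s0, le_rfl⟩
    obtain ⟨c, hc, h1⟩ := h.tr_cen hB s.mem
    obtain ⟨d, hd, h2⟩ := h.tr_cen hB t.mem
    obtain ⟨s, h1, s0, e1⟩ := this c hc s h1
    obtain ⟨t, h2, t0, e2⟩ := this d hd t h2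
    replace e := top_unique (e ▸ sup_le_sup e1 e2)
    by_cases cd : c = d
    · obtain ⟨d, hd, cd'⟩ := h.ax_two hB c
      obtain ⟨u, h3, h4, h5⟩ := h.tr_ne hB hd
      rw [H.eq ((h.mem_cmp hc h1 s0).2 (cd ▸ h2)) t0, sup_idem] at e
      exact absurd (h.ti cd' ((e.ge trivial : (⟨u, h3⟩ : Ab _ _) ∈ _) c hc h1) h4) h5
    refine ⟨c, hc, d, hd, cd, fun z hz => ?_⟩
    obtain ⟨u, h3, h4, h5⟩ := h.tr_ne hB hz
    exact (h.sup_cmp hB (u := ⟨u, h3⟩) hc hd cd h1 s0 h2 t0 h4 fun e => h5 (congrArg Ab.v e)).1 (e.ge trivial)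
  obtain ⟨w, hw⟩ := ax_ne hB
  have hw' : ¬ col A x y w := fun e => hw (h.ax_sub hB hx hy hxy e)
  obtain ⟨F, _, eX, eY, eZ, e⟩ := h.plane hxy hw' fun {u v w} huv hw s hs e1 e2 => by
    obtain ⟨g, rfl, rfl⟩ := exists_smul2 h.two hxy huv
    have h1 : g⁻¹ * s * g⁻¹⁻¹ ∈ A x := by simpa using h.conj g⁻¹ hs
    simpa only [conj_eq_one_iff] using h.ax_semi hB h1 (w := g⁻¹ • w) (fun c hc => hl c hc _ h1 (by simp [mul_smul, e1]))
      (fun e => hw (by simpa using h.col_smul g (hl _ e))) (by rw [conj_smul, e2])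
  let i : h.Rt y x × h.Rt x y →+ Ab (Tr A B) (h.tr_comm hB) := AddMonoidHom.coprod
    (AddMonoidHom.mk' (fun k => ⟨k.v, h.mem_Tr hy k.mem.1 fun z hz => h.col_symm hxy (hl z hz) _ k.mem.1 k.mem.2⟩)
      fun _ _ => rfl)
    (AddMonoidHom.mk' (fun k => ⟨k.v, h.mem_Tr hx k.mem.1 fun z hz => hl z hz _ k.mem.1 k.mem.2⟩) fun _ _ => rfl)
  have hi : ∀ k u, (i (k, u)).v = k.v * u.v := fun _ _ => rfl
  let j := AddEquiv.ofBijective i ⟨(injective_iff_map_eq_zero i).2 fun ⟨k, u⟩ e => by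
      obtain ⟨e1, e2⟩ := graph (fun s => h.ti hxy.symm) k.mem.1 (one_mem _) u.mem.1 (one_mem _)
        ((congrArg Ab.v e).trans (mul_one 1).symm)
      exact Prod.ext (Ab.ext e1) (Ab.ext e2), fun t => by
      obtain ⟨z, hz, h1⟩ := h.tr_cen hB t.mem
      obtain ⟨a, h1, h2, b, h3, h4, e⟩ := h.tr_dec hB hy hxy.symm (h.col_symm hxy (hl z hz)) t.mem h1
      exact ⟨(⟨a, h2, Tr_fix h1 x hx⟩, ⟨b, h4, Tr_fix h3 y hy⟩), Ab.ext e⟩⟩
  let E := j.symm.trans (eY.prodCongr eZ)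
  have hE : ∀ k u, E (i (k, u)) = (eY k, eZ u) := fun k u => congrArg (eY.prodCongr eZ) (j.symm_apply_apply (k, u))
  have key : ∀ c ∈ B, ∃ p : F × F, ∀ t, t.v ∈ A c ↔ ∃ a : F, E t = a • p := fun c hc => by
    by_cases cx : x = c
    · refine ⟨(0, 1), fun t => ?_⟩
      obtain ⟨⟨k, u⟩, rfl⟩ := j.surjective t
      change (i (k, u)).v ∈ _ ↔ ∃ a : F, E (i (k, u)) = _
      rw [hE, hi, ← cx, mul_mem_cancel_right (show u.v ∈ A x from u.mem.1)]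
      exact ⟨fun e => ⟨eZ u, by simp [show k = 0 from Ab.ext (h.ti hxy e k.mem.1)]⟩, fun ⟨a, ha⟩ => by
        rw [show k = 0 by simpa using congrArg Prod.fst ha]; exact one_mem _⟩
    obtain ⟨a, h1, h2, rfl⟩ := h.transL (h.ncol_ne hw').1 (h.ncol_swap hxy hw') (hl c hc) cx
    refine ⟨(1, eX ⟨a, h1, h2⟩), fun t => ?_⟩
    obtain ⟨⟨k, u⟩, rfl⟩ := j.surjective t
    change (i (k, u)).v ∈ _ ↔ ∃ a : F, E (i (k, u)) = _
    have h4 : ∀ k : h.Rt y x, k.v * (h.bil hxy w ⟨a, h1, h2⟩ k).v = a * k.v * a⁻¹ := fun k => by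
      rw [← h.comm2 hxy (h.bil hxy w ⟨a, h1, h2⟩ k).mem.1 (h.bil hxy w ⟨a, h1, h2⟩ k).mem.2 k.mem.1 k.mem.2]
      exact inv_mul_cancel_right _ _
    rw [hE, hi]
    refine ⟨fun h5 => ⟨eY k, ?_⟩, fun ⟨b, hb⟩ => ?_⟩
    · have h6 := mul_mem (inv_mem (h4 k ▸ h.conj a k.mem.1)) h5
      rw [mul_inv_rev, mul_assoc, inv_mul_cancel_left] at h6
      have := h.ti cx (mul_mem (inv_mem (h.bil hxy w ⟨a, h1, h2⟩ k).mem.1) u.mem.1) h6
      rw [← Ab.ext (inv_mul_eq_one.1 this)]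
      exact Prod.ext (by simp) ((e _ k).trans (mul_comm _ _))
    · obtain ⟨rfl, hb⟩ : eY k = b ∧ eZ u = b * eX ⟨a, h1, h2⟩ := by simpa using hb
      rw [eZ.injective (hb.trans ((mul_comm _ _).trans (e _ k).symm)), h4]
      exact h.conj a k.mem.1
  refine ⟨F, _, E.module F, fun v t => ?_⟩
  change _ ↔ ∃ c : F, t = E.symm (c • E v)
  simp only [AddEquiv.eq_symm_apply]
  by_cases v0 : v = 0
  · simp [v0, H.zero]
  obtain ⟨c, hc, h1⟩ := h.tr_cen hB v.mem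
  obtain ⟨p, hp⟩ := key c hc
  obtain ⟨a, ha⟩ := (hp v).1 h1
  have a0 : a ≠ 0 := fun e => v0 (by simpa [e] using ha)
  rw [h.mem_cmp hc h1 v0, hp, ha]
  exact ⟨fun ⟨b, hb⟩ => ⟨b / a, by rw [hb, smul_smul, div_mul_cancel₀ _ a0]⟩, fun ⟨b, hb⟩ => ⟨_, hb.trans (smul_smul ..)⟩⟩

theorem coord0 : ∃ (F : Type) (_ : Field F) (_ : Finite F) (W : Type u) (_ : AddCommGroup W) (_ : Module F W)
    (_ : Finite W) (v : X → W), (∀ x, v x ≠ 0) ∧ (∀ w, w ≠ 0 → ∃ x, ∃ c : F, w = c • v x) ∧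
      (∀ x y, ∀ c : F, v x = c • v y → x = y) ∧
      ∀ x y z, x ≠ y → (col A x y z ↔ ∃ a b : F, a • v x + b • v y = v z) := by
  classical
  obtain ⟨y, -, -, k, hk, k1, -⟩ := h.nsr
  have hB : Ax A {x | k • x = x} := ⟨y, k, hk, k1, rfl⟩
  generalize {x : X | k • x = x} = B at hB
  obtain ⟨F, _, _, hF⟩ := h.exists_module hB
  obtain ⟨o, ho⟩ := ax_ne hB
  have : ∀ y, y ∉ B → ∃ t : Ab (Tr A B) (h.tr_comm hB), t.v • o = y := fun y hy => by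
    obtain ⟨t, ⟨c, hc, h1⟩, h2, e⟩ := h.tr_trans hB ho hy
    exact ⟨⟨t, h.mem_Tr hc h1 h2⟩, e⟩
  choose! τ hτ using this
  have τ1 : ∀ y t, y ∉ B → t.v • o = y → t = τ y := fun y t hy e => (neg_add_eq_zero.1 (Ab.ext (h.tr_semi hB
    (-τ y + t).mem ho (by rw [Ab.v_add, mul_smul, e, Ab.v_neg, inv_smul_eq_iff, hτ y hy])))).symm
  have τ2 : ∀ y (t : Ab (Tr A B) (h.tr_comm hB)), y ∉ B → τ (t.v • y) = t + τ y := fun y t hy =>
    (τ1 _ _ (tr_notMem t.mem hy) (by rw [Ab.v_add, mul_smul, hτ y hy])).symm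
  have : ∀ c ∈ B, ∃ t : Ab (Tr A B) (h.tr_comm hB), t.v ∈ A c ∧ t ≠ 0 := fun c hc => by
    obtain ⟨t, h1, h2, h3⟩ := h.tr_ne hB hc
    exact ⟨⟨t, h1⟩, h2, fun e => h3 (congrArg Ab.v e)⟩
  choose! ν ν1 ν2 using this
  have ν3 : ∀ c ∈ B, ∀ t, t.v ∈ A c ↔ ∃ a : F, t = a • ν c := fun c hc t =>
    (h.mem_cmp hc (ν1 c hc) (ν2 c hc)).symm.trans (hF _ _)
  have ν4 : ∀ c ∈ B, ∀ d ∈ B, ∀ a : F, ν d = a • ν c → d = c := fun c hc d hd a e => by_contra fun e' =>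
    Ab.ne_one (ν2 d hd) (h.ti e' (ν1 d hd) ((ν3 c hc _).2 ⟨a, e⟩))
  have : Finite F := by
    obtain ⟨c, hc, -⟩ := h.ax_two hB o
    exact Finite.of_injective _ (smul_left_injective F (ν2 c hc))
  let v : X → F × Ab (Tr A B) (h.tr_comm hB) := fun x => if x ∈ B then (0, ν x) else (1, τ x)
  have v1 : ∀ x ∈ B, v x = (0, ν x) := fun x hx => if_pos hx
  have v2 : ∀ x, x ∉ B → v x = (1, τ x) := fun x hx => if_neg hx
  have inj : ∀ x y, ∀ c : F, v x = c • v y → x = y := fun x y c e => by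
    by_cases hx : x ∈ B <;> by_cases hy : y ∈ B
    · exact ν4 y hy x hx c (by simpa [v1, hx, hy] using e)
    · obtain ⟨rfl, e⟩ : 0 = c ∧ ν x = c • τ y := by simpa [v1, v2, hx, hy] using e
      exact absurd (e.trans (zero_smul _ _)) (ν2 x hx)
    · simp [v1, v2, hx, hy] at e
    · obtain ⟨rfl, e⟩ : 1 = c ∧ τ x = c • τ y := by simpa [v2, hx, hy] using e
      rw [← hτ x hx, e, one_smul, hτ y hy]
  have i1 : ∀ c y z, c ∈ B → y ∉ B → (col A c y z ↔ ∃ a b : F, a • v c + b • v y = v z) := fun c y z hc hy => by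
    have cy : c ≠ y := fun e => hy (e ▸ hc)
    refine ⟨fun e => ?_, fun ⟨a, b, e⟩ => ?_⟩
    · by_cases cz : c = z
      · exact ⟨1, 0, by simp [cz]⟩
      obtain ⟨t, h1, h2, rfl⟩ := h.ax_trans hB hc hy e cz
      obtain ⟨a, ha⟩ := (ν3 c hc ⟨t, h.mem_Tr hc h1 h2⟩).1 h1
      refine ⟨a, 1, ?_⟩
      rw [v1 c hc, v2 y hy, v2 _ (tr_notMem (h.mem_Tr hc h1 h2) hy),
        show τ (t • y) = _ from τ2 y ⟨t, h.mem_Tr hc h1 h2⟩ hy, ha]
      simp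
    by_cases hz : z ∈ B
    · obtain ⟨rfl, e⟩ : b = 0 ∧ a • ν c + b • τ y = ν z := by simpa [v1, v2, hc, hy, hz] using e
      rw [ν4 c hc z hz a (by simpa using e.symm)]
      exact h.col_left c y
    · obtain ⟨rfl, e⟩ : b = 1 ∧ a • ν c + b • τ y = τ z := by simpa [v1, v2, hc, hy, hz] using e
      rw [← hτ z hz, ← e, one_smul, Ab.v_add, mul_smul, hτ y hy]
      exact h.col_A ((ν3 c hc _).2 ⟨a, rfl⟩) y
  refine ⟨F, _, this, _, _, inferInstance, inferInstance, v, fun x e => ?_, fun ⟨a, t⟩ e => ?_, inj,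
    fun x y z hxy => ?_⟩
  · by_cases hx : x ∈ B
    · exact ν2 x hx (by simpa [v1 x hx] using e)
    · simp [v2 x hx] at e
  · by_cases a0 : a = 0
    · obtain ⟨c, hc, h1⟩ := h.tr_cen hB t.mem
      obtain ⟨b, rfl⟩ := (ν3 c hc t).1 h1
      exact ⟨c, b, by simp [v1 c hc, a0]⟩
    · refine ⟨(a⁻¹ • t).v • o, a, ?_⟩
      rw [v2 _ (tr_notMem (Ab.mem _) ho), ← τ1 _ _ (tr_notMem (Ab.mem _) ho) rfl]
      simp [a0]
  by_cases hx : x ∈ B <;> by_cases hy : y ∈ B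
  · by_cases hz : z ∈ B
    · rw [← h.sup_cmp hB hx hy hxy (ν1 x hx) (ν2 x hx) (ν1 y hy) (ν2 y hy) (ν1 z hz) (ν2 z hz), AddSubgroup.mem_sup]
      simp [v1, hx, hy, hz, hF]
    · exact iff_of_false (fun e => hz (h.ax_sub hB hx hy hxy e)) (by simp [v1, v2, hx, hy, hz])
  · exact i1 x y z hx hy
  · rw [← h.col_of hxy (col_right x y) (h.col_left x y) hxy.symm, i1 y x z hy hx]
    exact ⟨fun ⟨a, b, e⟩ => ⟨b, a, (add_comm _ _).trans e⟩, fun ⟨a, b, e⟩ => ⟨b, a, (add_comm _ _).trans e⟩⟩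
  · obtain ⟨c, hc, h1⟩ := h.ax_meet hB hxy
    have cy : c ≠ y := fun e => hy (e ▸ hc)
    have h2 := fun z => h.col_of (v := z) hxy h1 (col_right x y) cy
    obtain ⟨a, b, e⟩ := (i1 c y x hc hy).1 ((h2 x).2 (h.col_left x y))
    have a0 : a ≠ 0 := fun e' => hxy (inj x y b (by simp [← e, e']))
    rw [← h2, i1 c y z hc hy, ← e]
    exact ⟨fun ⟨s, t, e⟩ => ⟨s / a, t - s / a * b, by rw [← e]; match_scalars <;> field_simp; ring⟩,
      fun ⟨s, t, e⟩ => ⟨s * a, s * b + t, by rw [← e]; module⟩⟩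

theorem coord : ∃ (F : Type) (_ : Field F) (_ : Fintype F) (n : ℕ) (v : X → Fin n → F), (∀ x, v x ≠ 0) ∧
    (∀ w, w ≠ 0 → ∃ x, ∃ c : F, w = c • v x) ∧ (∀ x y, ∀ c : F, v x = c • v y → x = y) ∧
      ∀ x y z, x ≠ y → (col A x y z ↔ ∃ a b : F, a • v x + b • v y = v z) := by
  obtain ⟨F, _, _, W, _, _, _, v, h1, h2, h3, h4⟩ := h.coord0
  let e := (Module.finBasis F W).equivFun
  refine ⟨F, _, Fintype.ofFinite F, _, fun x => e (v x), fun x => by simpa using h1 x, fun w hw => ?_,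
    fun x y c h => h3 x y c (e.injective (h.trans (map_smul e c _).symm)), fun x y z hxy => ?_⟩
  · obtain ⟨x, c, hx⟩ := h2 (e.symm w) (by simpa using hw)
    exact ⟨x, c, by rw [← map_smul, ← hx, e.apply_symm_apply]⟩
  · simp only [h4 x y z hxy, ← map_smul, ← map_add, e.injective.eq_iff]

end ON
end H16
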