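import Cfsg.Agent.H16.ON2
import Cfsg.Agent.H24.LinG
import Cfsg.Agent.H17.Comp
import Mathlib.LinearAlgebra.Projectivization.Action
import Mathlib.LinearAlgebra.Projectivization.Cardinality

/-! O'Nan's theorem, group part: the elements of `A x` act as the transvections with centre `x`, so `⟨A x⟩` is a normal
`PSL_n(F)` with trivial centraliser (`ON.main`); `on_of_normal` builds `ON` from an abelian normal subgroup of a point
stabiliser; `gfit_eq_of_simple`. -/

set_option autoImplicit false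
set_option linter.unusedSectionVars false

namespace H16
open Subgroup MulAction Matrix H25
open scoped LinearAlgebra.Projectivization

theorem exists_dot {F ι : Type*} [Field F] [Fintype ι] [DecidableEq ι] (S : Submodule F (ι → F)) {u : ι → F}
    (hu : u ∉ S) : ∃ w, (∀ s ∈ S, s ⬝ᵥ w = 0) ∧ u ⬝ᵥ w ≠ 0 := by
  obtain ⟨f, h1, h2⟩ := Submodule.exists_le_ker_of_notMem hu
  have : ∀ s, s ⬝ᵥ (fun i => f (Pi.single i 1)) = f s := fun s => by
    rw [LinearMap.pi_apply_eq_sum_univ f s]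
    exact Finset.sum_congr rfl fun i _ => congrArg (s i * f ·) (funext fun j => by simp [Pi.single_apply, eq_comm])
  exact ⟨_, fun s hs => (this s).trans (h2 hs), this u ▸ h1⟩

theorem gfit_eq_of_simple {G : Type*} [Group G] [Finite G] (N : Subgroup G) [N.Normal] [IsSimpleGroup N]
    (hc : centralizer (N : Set G) = ⊥) : Cfsg.generalizedFittingSubgroup G = N := by
  have q : Cfsg.IsQuasisimple N := H17.isQuasisimple_of_simple fun h => (N.nontrivial_iff_ne_bot.1 inferInstance)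
    (le_bot_iff.1 (hc ▸ le_centralizer N))
  have c : H17.IsComp N ⊤ := ⟨.of_normal le_top (by rw [normalizer_eq_top]), q⟩
  have z : ∀ K : Subgroup G, ⁅N, K⁆ = ⊥ → K ≤ N := fun K e => by
    rw [commutator_comm, commutator_eq_bot_iff_le_centralizer, hc] at e
    exact e.trans bot_le
  rw [← H17.gfit_top, H17.gfit_eq]
  refine le_antisymm (sup_le (H17.lay_le_iff.2 fun K hK => ?_) (z _ ?_)) (c.le_lay.trans le_sup_left)
  · exact (hK.le_or_commutator le_top (by rw [normalizer_eq_top]; exact le_top)).elim id (z K)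
  · exact le_bot_iff.1 (H17.commutator_lay_fit (⊤ : Subgroup G) ▸ commutator_mono c.le_lay le_rfl)

variable {G X : Type*} [Group G] [Finite G] [Finite X] [MulAction G X] [FaithfulSMul G X] {A : X → Subgroup G}
  {F : Type*} [Field F] {n : ℕ}

/-- projective coordinates for the lines `col A` -/
structure Co (A : X → Subgroup G) (v : X → Fin n → F) : Prop where
  v0 : ∀ x, v x ≠ 0
  sur : ∀ w, w ≠ 0 → ∃ x, ∃ c : F, w = c • v x
  inj : ∀ x y, ∀ c : F, v x = c • v y → x = y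
  col : ∀ x y z, x ≠ y → (col A x y z ↔ ∃ a b : F, a • v x + b • v y = v z)

/-- `a` acts as the transvection with centre `x` and form `φ` -/
def Tv (v : X → Fin n → F) (a : G) (x : X) (φ : Fin n → F) : Prop :=
  ∀ w, ∃ c : F, v (a • w) = c • (v w + (φ ⬝ᵥ v w) • v x)

namespace Co
variable {v : X → Fin n → F} (c : Co A v) (h : ON A) {x y z w : X} {a b : G} {B : Set X} {φ ψ : Fin n → F}
include c

theorem ind (hxy : x ≠ y) (hw : ¬ H16.col A x y w) {p q r : F} (e : p • v x + q • v y + r • v w = 0) :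
    p = 0 ∧ q = 0 ∧ r = 0 := by
  have r0 : r = 0 := by_contra fun r0 => hw ((c.col _ _ _ hxy).2 ⟨-p / r, -q / r, smul_right_injective _ r0 (by
    rw [← sub_eq_zero, ← neg_eq_zero, ← e]; match_scalars <;> field_simp)⟩)
  subst r0
  have p0 : p = 0 := by_contra fun p0 => hxy (c.inj x y (-q / p) (smul_right_injective _ p0 (by
    rw [← sub_eq_zero, ← e]; match_scalars <;> field_simp)))
  simpa [p0, c.v0] using e

include h

theorem form (hB : Ax A B) : ∃ ψ, ∀ w, ψ ⬝ᵥ v w = 0 ↔ w ∈ B := by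
  obtain ⟨o, ho⟩ := ON.ax_ne hB
  let S : Submodule F (Fin n → F) :=
    { carrier := {u | ∀ z, ∀ e : F, e ≠ 0 → u = e • v z → z ∈ B}
      zero_mem' := fun z e e0 h => absurd h.symm (smul_ne_zero e0 (c.v0 z))
      smul_mem' := fun d u hu z e e0 h => by
        have d0 : d ≠ 0 := by rintro rfl; exact smul_ne_zero e0 (c.v0 z) (h.symm.trans (zero_smul _ _))
        exact hu z (e / d) (div_ne_zero e0 d0) (smul_right_injective _ d0 (by
          simp only [h, smul_smul, mul_div_cancel₀ _ d0]))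
      add_mem' := fun {s t} hs ht z e e0 h' => by
        by_cases s0 : s = 0
        · exact ht z e e0 (by simpa [s0] using h')
        by_cases t0 : t = 0
        · exact hs z e e0 (by simpa [t0] using h')
        obtain ⟨p, d, rfl⟩ := c.sur s s0
        obtain ⟨q, d', rfl⟩ := c.sur t t0
        have hp := hs p d (left_ne_zero_of_smul s0) rfl
        have hq := ht q d' (left_ne_zero_of_smul t0) rfl
        have e' : (d / e) • v p + (d' / e) • v q = v z := smul_right_injective _ e0 (by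
          simp only [← h', smul_add, smul_smul, mul_div_cancel₀ _ e0])
        by_cases pq : p = q
        · exact c.inj z p (d / e + d' / e) (by rw [← e', pq, add_smul]) ▸ hp
        · exact h.ax_sub hB hp hq pq ((c.col _ _ _ pq).2 ⟨_, _, e'⟩) }
  obtain ⟨ψ, h1, h2⟩ := exists_dot S (u := v o) fun e => ho (e o 1 one_ne_zero (one_smul _ _).symm)
  have h3 : ∀ w ∈ B, ψ ⬝ᵥ v w = 0 := fun w hw => by
    rw [dotProduct_comm]
    exact h1 _ fun z e _ h => c.inj _ _ _ h ▸ hw
  refine ⟨ψ, fun w => ⟨fun e => by_contra fun hw => ?_, h3 w⟩⟩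
  have ow : o ≠ w := by rintro rfl; exact h2 ((dotProduct_comm _ _).trans e)
  obtain ⟨z, hz, h4⟩ := h.ax_meet hB ow
  obtain ⟨s, t, h4⟩ := (c.col _ _ _ ow).1 h4
  have := h3 z hz
  rw [← h4, dotProduct_add, dotProduct_smul, dotProduct_smul, e, smul_zero, add_zero, dotProduct_comm] at this
  rw [(smul_eq_zero.1 this).resolve_right h2, zero_smul, zero_add] at h4
  exact hw (c.inj _ _ _ h4.symm ▸ hz)

theorem tv_of (hB : Ax A B) (hx : x ∈ B) (ha : a ∈ A x) (h1 : ∀ b ∈ B, a • b = b) (h2 : ∀ b ∈ B, φ ⬝ᵥ v b = 0)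
    {o : X} (ho : o ∉ B) {d : F} (e : v (a • o) = d • (v o + (φ ⬝ᵥ v o) • v x)) : Tv v a x φ := by
  have step : ∀ {o w : X} {d : F}, o ∉ B → w ∉ B → ¬ H16.col A x o w → v (a • o) = d • (v o + (φ ⬝ᵥ v o) • v x) →
      ∃ d : F, v (a • w) = d • (v w + (φ ⬝ᵥ v w) • v x) := fun {o w d} ho hw hn e => by
    have xo : x ≠ o := fun e => ho (e ▸ hx)
    have ow := (h.ncol_ne hn).2
    obtain ⟨z, hz, h3⟩ := h.ax_meet hB ow
    have zo : z ≠ o := fun e => ho (e ▸ hz)
    have h4 := h.col_smul a ((h.col_of ow h3 (h.col_left o w) zo).2 (ON.col_right o w))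
    rw [h1 z hz] at h4
    obtain ⟨r, u, h4⟩ := (c.col _ _ _ fun e => zo (smul_left_cancel a ((h1 z hz).trans e))).1 h4
    obtain ⟨p, q, h5⟩ := (c.col _ _ _ (h.ncol_ne hn).1).1 (h.col_A ha w)
    obtain ⟨s, t, h3⟩ := (c.col _ _ _ ow).1 h3
    have h6 := h2 z hz
    rw [← h3, dotProduct_add, dotProduct_smul, dotProduct_smul, smul_eq_mul, smul_eq_mul] at h6
    obtain ⟨e1, e2, e3⟩ := c.ind xo hn (p := u * d * (φ ⬝ᵥ v o) - p) (q := r * s + u * d) (r := r * t - q) (by
      rw [← sub_eq_zero.2 (h4.trans h5.symm), e, ← h3]; module)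
    refine ⟨q, ?_⟩
    rw [← h5, show p = q * (φ ⬝ᵥ v w) by linear_combination -e1 + (φ ⬝ᵥ v o) * e2 - r * h6 + (φ ⬝ᵥ v w) * e3]
    module
  intro w
  by_cases hw : w ∈ B
  · exact ⟨1, by simp [h1 w hw, h2 w hw]⟩
  by_cases hn : H16.col A x o w
  swap
  · exact step ho hw hn e
  have xo : x ≠ o := fun e => ho (e ▸ hx)
  obtain ⟨z, hz, xz⟩ := h.ax_two hB x
  have zo : z ≠ o := fun e => ho (e ▸ hz)
  obtain ⟨u, h3, h4, h5⟩ := h.third zo
  have hu : u ∉ B := fun hu => ho (h.ax_sub hB hz hu h4.symm (h.col_swap zo h4.symm h3))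
  have h6 : ¬ H16.col A x o u := fun h6 => ho (h.ax_sub hB hx hz xz (h.col_swap xo xz
    ((h.col_of xo (ON.col_right x o) h6 h5.symm).1 ((h.col_of zo (ON.col_right z o) h3 h5.symm).2 (h.col_left z o)))))
  obtain ⟨d, e⟩ := step ho hu h6 e
  exact step hu hw (fun h7 => hw (h.meet h6 hn h7 ▸ hx)) e

theorem exists_tv (ha : a ∈ A x) : ∃ φ, φ ⬝ᵥ v x = 0 ∧ Tv v a x φ := by
  by_cases a1 : a = 1
  · exact ⟨0, by simp, fun w => ⟨1, by simp [a1]⟩⟩
  have hB : Ax A {w | a • w = w} := ⟨x, a, ha, a1, rfl⟩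
  obtain ⟨ψ, hψ⟩ := c.form h hB
  obtain ⟨o, ho⟩ := ON.ax_ne hB
  have xo : x ≠ o := fun e => ho (e ▸ h.fix ha)
  obtain ⟨s, t, e⟩ := (c.col _ _ _ xo).1 (h.col_A ha o)
  have t0 : t ≠ 0 := fun t0 => xo (smul_left_cancel a ((h.fix ha).trans
    (c.inj _ _ s (by simp [← e, t0])).symm))
  have h1 : ∀ b, a • b = b → ((s / t / ψ ⬝ᵥ v o) • ψ) ⬝ᵥ v b = 0 := fun b hb => by simp [(hψ b).2 hb]
  refine ⟨_, h1 x (h.fix ha), c.tv_of h hB (h.fix ha) ha (fun _ => id) h1 ho (d := t) ?_⟩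
  have := (hψ o).not.2 ho
  rw [← e, smul_dotProduct, smul_eq_mul]
  match_scalars <;> field_simp

omit h in
theorem tv_fix (h1 : Tv v a x φ) (h2 : φ ⬝ᵥ v w = 0) : a • w = w := by
  obtain ⟨d, e⟩ := h1 w
  exact c.inj _ _ d (by simpa [h2] using e)

theorem exists_A (hφ : φ ⬝ᵥ v x = 0) : ∃ a ∈ A x, Tv v a x φ := by
  let S : Submodule F (Fin n → F) :=
    { carrier := {φ | φ ⬝ᵥ v x = 0 ∧ ∃ a ∈ A x, Tv v a x φ}
      zero_mem' := ⟨by simp, 1, one_mem _, fun w => ⟨1, by simp⟩⟩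
      add_mem' := fun {φ ψ} ⟨h1, a, ha, h2⟩ ⟨h3, b, hb, h4⟩ => ⟨by simp [h1, h3], _, mul_mem ha hb, fun w => by
        obtain ⟨d, e⟩ := h4 w
        obtain ⟨d', e'⟩ := h2 (b • w)
        refine ⟨d' * d, ?_⟩
        rw [mul_smul, e', e]
        simp only [dotProduct_smul, dotProduct_add, add_dotProduct, h1]
        module⟩
      smul_mem' := fun d φ ⟨h1, a, ha, h2⟩ => ⟨by simp [h1], by
        by_cases a1 : ∀ w, φ ⬝ᵥ v w = 0
        · exact ⟨1, one_mem _, fun w => ⟨1, by simp [a1 w]⟩⟩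
        obtain ⟨o, ho⟩ := not_forall.1 a1
        have xo : x ≠ o := fun e => ho (e ▸ h1)
        have h3 : ∀ w, a • w = w → φ ⬝ᵥ v w = 0 := fun w hw => by_contra fun e => by
          obtain ⟨d, e'⟩ := h2 w
          have xw : x ≠ w := fun e' => e (e' ▸ h1)
          obtain ⟨u, hu⟩ := h.exists_ncol xw
          obtain ⟨e1, e2, -⟩ := c.ind xw hu (p := d * φ ⬝ᵥ v w) (q := d - 1) (r := 0) (by
            rw [hw] at e'; rw [← sub_eq_zero.2 e'.symm]; module)
          exact e (by simpa [sub_eq_zero.1 e2] using e1)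
        have hB : Ax A {w | a • w = w} := ⟨x, a, ha, fun e => ho (h3 o (by simp [e])), rfl⟩
        obtain ⟨u, hu⟩ := h.exists_ncol xo
        obtain ⟨z, e, hz⟩ := c.sur (v o + ((d • φ) ⬝ᵥ v o) • v x) fun e => one_ne_zero
          (c.ind xo hu (q := 1) (r := 0) (by rw [← e]; module)).2.1
        have e0 : e ≠ 0 := fun e0 => one_ne_zero (c.ind xo hu (q := 1) (r := 0) (by
          rw [← zero_smul F (v z), ← e0, ← hz, e0]; module)).2.1
        have hz' : v z = e⁻¹ • (v o + ((d • φ) ⬝ᵥ v o) • v x) := by rw [hz, inv_smul_smul₀ e0]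
        obtain ⟨t, ht, t1, rfl⟩ := h.ax_trans hB (h.fix ha) (fun e => ho (h3 o e))
          ((c.col _ _ z xo).2 ⟨_, e⁻¹, by rw [hz', smul_add, smul_smul, add_comm]⟩) fun e' => one_ne_zero
          (c.ind xo hu (p := (d • φ) ⬝ᵥ v o - e) (q := 1) (r := 0) (by
            rw [← sub_eq_zero.2 hz, ← e']; module)).2.1
        exact ⟨t, ht, c.tv_of h hB (h.fix ha) ht t1 (fun b hb => by simp [h3 b hb]) (fun e => ho (h3 o e)) hz'⟩⟩ }
  by_contra hn
  obtain ⟨u, h1, h2⟩ := exists_dot S (u := φ) fun e => hn e.2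
  obtain ⟨y, d, rfl⟩ := c.sur u (by rintro rfl; simp at h2)
  have d0 : d ≠ 0 := by rintro rfl; simp at h2
  obtain ⟨a, ha, e⟩ := h.exists_move (x := x) (y := y) (by rintro rfl; simp [hφ] at h2)
  obtain ⟨ψ, h3, h4⟩ := c.exists_tv h ha
  exact e (c.tv_fix h4 (by simpa [d0] using h1 ψ ⟨h3, a, ha, h4⟩))

end Co

theorem ON.main (h : ON A) : ∃ (F : Type) (_ : Field F) (_ : Fintype F) (n : ℕ) (e : X ≃ ℙ F (Fin n → F)), 3 ≤ n ∧
    (∀ x y z, x ≠ y → (col A x y z ↔ (e z).submodule ≤ (e x).submodule ⊔ (e y).submodule)) ∧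
    ∃ N : Subgroup G, N.Normal ∧ Nonempty (N ≃* ProjectiveSpecialLinearGroup (Fin n) F) ∧
      centralizer (N : Set G) = ⊥ := by
  obtain ⟨F, _, _, n, v, h1, h2, h3, h4⟩ := h.coord
  have c : Co A v := ⟨h1, h2, h3, h4⟩
  let e : X ≃ ℙ F (Fin n → F) := Equiv.ofBijective (fun x => .mk F (v x) (h1 x)) ⟨fun x y e => by
    obtain ⟨a, e⟩ := (Projectivization.mk_eq_mk_iff' ..).1 e
    exact h3 x y a e.symm, fun p => by
      induction p using Projectivization.ind with | _ w hw =>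
      obtain ⟨x, d, e⟩ := h2 w hw
      exact ⟨x, ((Projectivization.mk_eq_mk_iff' ..).2 ⟨d, e.symm⟩).symm⟩⟩
  have he : ∀ x, e x = .mk F (v x) (h1 x) := fun _ => rfl
  have n3 : 3 ≤ n := by
    obtain ⟨x, y, hxy, -⟩ := h.nsr
    obtain ⟨w, hw⟩ := h.exists_ncol hxy
    have : LinearIndependent F ![v x, v y, v w] := Fintype.linearIndependent_iff.2 fun g e i => by
      obtain ⟨e1, e2, e3⟩ := c.ind hxy hw (p := g 0) (q := g 1) (r := g 2) (by simpa [Fin.sum_univ_three] using e)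
      fin_cases i <;> assumption
    simpa using this.fintype_card_le_finrank
  let ρ : G →* Equiv.Perm (ℙ F (Fin n → F)) := (e.permCongrHom : _ →* _).comp (toPermHom G X)
  have key : ∀ {a : G} {x φ}, φ ⬝ᵥ v x = 0 → Tv v a x φ →
      Projectivization.PSLAction.toPermHom (QuotientGroup.mk (tv (v x) φ)) = ρ a := fun {a x φ} hφ ht => by
    ext p
    obtain ⟨w, rfl⟩ := e.surjective p
    obtain ⟨d, e'⟩ := ht w
    change tv (v x) φ • e w = e (a • e.symm (e w))
    rw [e.symm_apply_apply, he, he, Projectivization.smul_mk]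
    exact ((Projectivization.mk_eq_mk_iff' ..).2 ⟨d, by rw [e', ← tv_mulVec hφ]; rfl⟩).symm
  refine ⟨F, _, inferInstance, n, e, n3, fun x y z hxy => ?_, ⨆ x, A x, ⟨fun a ha g => ?_⟩, ⟨?_⟩, ?_⟩
  · simp only [h4 x y z hxy, he, Projectivization.submodule_mk, Submodule.span_singleton_le_iff_mem,
      ← Submodule.span_insert, Submodule.mem_span_pair]
  · refine iSup_induction (C := fun a => g * a * g⁻¹ ∈ ⨆ x, A x) A ha
      (fun x a ha => mem_iSup_of_mem _ (h.conj g ha)) (by simp) fun a b ha hb => ?_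
    simpa using mul_mem ha hb
  · refine (equivMapOfInjective _ ρ (e.permCongrHom.injective.comp toPerm_injective)).trans
      ((MulEquiv.subgroupCongr (le_antisymm ?_ ?_)).trans
        (MonoidHom.ofInjective ProjectiveSpecialLinearGroup.toPermHom_injective).symm)
    · rw [map_le_iff_le_comap]
      refine iSup_le fun x a ha => ?_
      obtain ⟨φ, h5, h6⟩ := c.exists_tv h ha
      exact ⟨_, key h5 h6⟩
    · rintro _ ⟨g, rfl⟩
      obtain ⟨g, rfl⟩ := QuotientGroup.mk_surjective g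
      have : Nontrivial (Fin n) := Fin.nontrivial_iff_two_le.2 (by omega)
      refine H10.SL_transvection_induction (fun g => Projectivization.PSLAction.toPermHom (QuotientGroup.mk g) ∈
        (⨆ x, A x).map ρ) (fun i j hij d => ?_) (fun a b ha hb => by simpa using mul_mem ha hb) g
      obtain ⟨x, t, hx⟩ := h2 (Pi.single i 1) (by simp)
      have t0 : t ≠ 0 := fun t0 => by simp [t0] at hx
      have h5 : Pi.single j d ⬝ᵥ v x = 0 := by
        have : Pi.single j d ⬝ᵥ (Pi.single i 1 : Fin n → F) = 0 := by simp [hij.symm]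
        simpa [hx, t0] using this
      obtain ⟨a, ha, h6⟩ := c.exists_A h (φ := t • Pi.single j d) (x := x) (by simp [h5])
      rw [H24.LinG.transvection_eq_tv, hx, tv_smul t h5, key (by simp [h5]) h6]
      exact mem_map_of_mem _ (mem_iSup_of_mem _ ha)
  · refine eq_bot_iff.2 fun g hg => eq_one_of_forall_smul (α := X) fun y => ?_
    obtain ⟨u, w, huw, -⟩ := h.nsr
    have : Nontrivial X := ⟨u, w, huw⟩
    obtain ⟨x, hx⟩ := exists_ne y
    obtain ⟨k, hk, k1, -⟩ := h.exists_L hx.symm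
    exact h.cent hk k1 (hg k (mem_iSup_of_mem _ hk)).symm

theorem on_of_normal (h2 : IsMultiplyPretransitive G X 2) (x : X) (N : Subgroup G) (hle : ∀ a ∈ N, a • x = x)
    (hn : ∀ g : G, g • x = x → ∀ a ∈ N, g * a * g⁻¹ ∈ N) (hc : ∀ a ∈ N, ∀ b ∈ N, a * b = b * a)
    (hs : ∃ a ∈ N, a ≠ 1 ∧ ∃ y, y ≠ x ∧ a • y = y) : ∃ A : X → Subgroup G, ON A := by
  obtain ⟨a, ha, a1, y, hy, e⟩ := hs
  have t : ∀ z : X, ∃ g : G, g • z = x := fun z => by
    have : Nontrivial X := ⟨y, x, hy⟩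
    obtain ⟨w, hw⟩ := exists_ne z
    obtain ⟨g, e, -⟩ := exists_smul2 h2 hw.symm hy.symm
    exact ⟨g, e⟩
  refine ⟨fun z => ⨅ g : G, ⨅ _ : g • z = x, N.comap (MulAut.conj g).toMonoidHom, h2, fun g z b hb => ?_,
    fun {z b} hb => ?_, fun {z b d} hb hd => ?_, x, y, hy.symm, a, by simpa using fun g e => hn g e a ha, a1, e⟩
  · simp only [mem_iInf, mem_comap] at hb ⊢
    simpa [mul_assoc] using fun k e => hb (k * g) (by rwa [mul_smul])
  · obtain ⟨g, rfl⟩ := t z
    simp only [mem_iInf, mem_comap] at hb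
    simpa [mul_smul] using hle _ (hb g rfl)
  · obtain ⟨g, e⟩ := t z
    simp only [mem_iInf, mem_comap] at hb hd
    exact (MulAut.conj g).injective (by rw [map_mul, map_mul]; exact hc _ (hb g e) _ (hd g e))

end H16
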