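import Cfsg.Agent.H18.FE2
import Cfsg.Agent.H6.OcDef
/-! Type Tits, part 1: coordinates `ρ : F → G` on `U = 2⁵` (`F = 𝔽₂⁵`, `ρ o = z`, `ρ (d j)` on the line `j`), the
action `A ρ h α β f` of `h ∈ C(z)` (affine map of the lines and a functional) and the point structure `Pt ρ`. -/
set_option autoImplicit false
set_option linter.unusedSectionVars false
namespace H16.Ti
open Subgroup Function

abbrev F := ZMod 5 → ZMod 2
def o : F := fun _ => 1
def d (j : ZMod 5) : F := fun i => if i = j then 1 else 0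
def pm (α β : ZMod 5) (b : F) : F := fun i => b (α * i + β)
def sm (g : F) : ZMod 2 := g 0 + g 1 + g 2 + g 3 + g 4
def act (α β : ZMod 5) (f b : F) : F := fun i => b (α * i + β) + sm (f * pm α β b)
abbrev iV (b : F) : Prop := b 1 = b 2 ∧ b 1 = b 3 ∧ b 1 = b 4
abbrev iI (b : F) : Prop := b 1 = b 4 ∧ b 2 = b 3
abbrev ev (b : F) : Prop := b 1 + b 2 + b 3 + b 4 = 0
abbrev iZ (b : F) : Prop := b = 0 ∨ b = o

theorem sm_pm : ∀ α β g, α ≠ 0 → sm (pm α β g) = sm g := by decide +kernel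
theorem add_self : ∀ b : F, b + b = 0 := by decide +kernel
theorem act_one : ∀ b, act 1 0 0 b = b := by decide +kernel
theorem act_o : ∀ α β f, sm f = 0 → act α β f o = o := by decide +kernel
theorem act_zero : ∀ α β b, act α β 0 b = pm α β b := by decide +kernel
theorem pm_one : ∀ b, pm 1 0 b = b := by decide +kernel
theorem pm_zero (α β : ZMod 5) : pm α β 0 = 0 := rfl
theorem sm_add (f g : F) : sm (f + g) = sm f + sm g := by simp only [sm, Pi.add_apply]; ring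
theorem act_add (α β : ZMod 5) (f a b : F) : act α β f (a + b) = act α β f a + act α β f b := by
  ext i; simp only [act, sm, pm, Pi.add_apply, Pi.mul_apply]; ring
theorem act_act {α α' : ZMod 5} (β β' : ZMod 5) {f : F} (f' b : F) (hα : α ≠ 0) (hf : sm f = 0) :
    act α β f (act α' β' f' b) = act (α' * α) (α' * β + β') (f + pm α β f') b := by
  ext i
  have e := sm_pm α β (f' * pm α' β' b) hα
  have : ∀ i, α' * (α * i + β) + β' = α' * α * i + (α' * β + β') := fun i => by ring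
  simp only [act, sm, pm, Pi.add_apply, Pi.mul_apply, this] at e hf ⊢
  linear_combination (f' 0 * b (α' * 0 + β') + f' 1 * b (α' * 1 + β') + f' 2 * b (α' * 2 + β') +
    f' 3 * b (α' * 3 + β') + f' 4 * b (α' * 4 + β')) * hf - e
theorem act_d : ∀ α β f i, α ≠ 0 → act α β f (d (α * i + β)) = d i + fun _ => f i := by decide +kernel
theorem act_pm : ∀ α β f b, iZ (act α β f b + pm α β b) := fun α β f b => by
  have : ∀ (g : F) (c : ZMod 2), iZ ((fun i => g i + c) + g) := by decide +kernel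
  exact this (pm α β b) _
theorem act_inj {α β α' β' : ZMod 5} {f f' : F} (h : α ≠ 0) (h' : α' ≠ 0) (e : ∀ b, act α β f b = act α' β' f' b) :
    α = α' ∧ β = β' ∧ f = f' := by
  have k : ∀ α β α' β' : ZMod 5, α ≠ 0 → α' ≠ 0 → (∀ j, ∃ b, iZ (b + pm α β (d j)) ∧ iZ (b + pm α' β' (d j))) →
    α = α' ∧ β = β' := by decide +kernel
  obtain ⟨rfl, rfl⟩ := k _ _ _ _ h h' fun j => ⟨_, act_pm α β f _, e _ ▸ act_pm α' β' f' _⟩
  exact ⟨rfl, rfl, funext fun i => add_left_cancel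
    (congrFun ((act_d α β f i h).symm.trans ((e _).trans (act_d α β f' i h))) 0)⟩
theorem pm_pm (α β α' β' : ZMod 5) (b : F) : pm α β (pm α' β' b) = pm (α' * α) (α' * β + β') b := by
  ext i; simp only [pm]; ring_nf

variable {G : Type*} [Group G] {ρ σ : F → G} {g h k c q x : G} {α β α' β' : ZMod 5} {f f' a b : F}

/-- `h` acts on the coordinates by `act α β f` -/
def A (ρ : F → G) (h : G) (α β : ZMod 5) (f : F) : Prop :=
  α ≠ 0 ∧ sm f = 0 ∧ ∀ b, h * ρ b * h⁻¹ = ρ (act α β f b)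

theorem A.e (e : A ρ h α β f) (b : F) : h * ρ b * h⁻¹ = ρ (act α β f b) := e.2.2 b
theorem A.fix (e : A ρ h α β f) : h * ρ o * h⁻¹ = ρ o := by rw [e.e, act_o _ _ _ e.2.1]
theorem A.mul (e : A ρ h α β f) (e' : A ρ k α' β' f') : A ρ (h * k) (α' * α) (α' * β + β') (f + pm α β f') :=
  ⟨(by decide : ∀ a b : ZMod 5, a ≠ 0 → b ≠ 0 → a * b ≠ 0) _ _ e'.1 e.1,
    by rw [sm_add, sm_pm _ _ _ e.1, e.2.1, e'.2.1, add_zero], fun b => by
    rw [← act_act _ _ _ _ e.1 e.2.1, ← e.e, ← e'.e]; group⟩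
theorem A.one : A ρ 1 1 0 0 := ⟨by decide, rfl, fun b => by simp [act_one]⟩
theorem A.cast (e : A ρ h α β f) (e1 : α = α') (e2 : β = β') (e3 : f = f') : A ρ h α' β' f' := e1 ▸ e2 ▸ e3 ▸ e
theorem A.inv (e : A ρ h α β f) : A ρ h⁻¹ (α ^ 3) (-(α ^ 3 * β)) (pm (α ^ 3) (-(α ^ 3 * β)) f) := by
  have k : ∀ a : ZMod 5, a ≠ 0 → a ^ 3 * a = 1 ∧ a ^ 3 ≠ 0 := by decide
  obtain ⟨k1, k2⟩ := k α e.1
  refine ⟨k2, by rw [sm_pm _ _ _ k2, e.2.1], fun b => ?_⟩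
  have := e.e (act (α ^ 3) (-(α ^ 3 * β)) (pm (α ^ 3) (-(α ^ 3 * β)) f) b)
  rw [act_act _ _ _ _ e.1 e.2.1, pm_pm, k1, add_neg_cancel, pm_one, add_self, act_one] at this
  rw [← this]; group
theorem A.mulQ (e : A ρ h 1 0 f) (e' : A ρ k 1 0 f') : A ρ (h * k) 1 0 (f + f') :=
  (e.mul e').cast (mul_one _) (by decide) (by rw [pm_one])
theorem A.invQ (e : A ρ h 1 0 f) : A ρ h⁻¹ 1 0 f := e.inv.cast (by decide) (by decide) (pm_one f)
theorem A.mulC (e : A ρ h α β f) (e' : A ρ k 1 0 0) : A ρ (h * k) α β f :=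
  (e.mul e').cast (one_mul _) (by simp) (add_zero _)
theorem A.div (e : A ρ h α β f) (e' : A ρ k α β f) : A ρ (h⁻¹ * k) 1 0 0 := by
  have k : ∀ a : ZMod 5, a ≠ 0 → a * a ^ 3 = 1 := by decide
  exact (e.inv.mul e').cast (k α e.1) (by rw [mul_neg, ← mul_assoc, k α e.1]; simp) (add_self _)
theorem A.conj (e : A ρ h α β f) (e' : A ρ q 1 0 f') : A ρ (h * q * h⁻¹) 1 0 (pm α β f') := by
  have k : ∀ a : ZMod 5, a ≠ 0 → a ^ 3 * (1 * a) = 1 := by decide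
  refine ((e.mul e').mul e.inv).cast (k α e.1) (by simp) ?_
  rw [pm_pm, k α e.1, show α ^ 3 * (1 * β + 0) + -(α ^ 3 * β) = 0 by ring, pm_one, add_right_comm, add_self, zero_add]
theorem A.sur (e : A ρ h α β f) (b : F) : ∃ a, act α β f a = b ∧ h * ρ a * h⁻¹ = ρ b := by
  have k : ∀ a : ZMod 5, a ≠ 0 → a ^ 3 * a = 1 := by decide
  have : act α β f (act (α ^ 3) (-(α ^ 3 * β)) (pm (α ^ 3) (-(α ^ 3 * β)) f) b) = b := by
    rw [act_act _ _ _ _ e.1 e.2.1, pm_pm, k α e.1, add_neg_cancel, pm_one, add_self, act_one]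
  exact ⟨_, this, by rw [e.e, this]⟩
theorem A.comm (e : A ρ c 1 0 0) (b : F) : c * ρ b = ρ b * c := by
  have := e.e b; rwa [act_one, mul_inv_eq_iff_eq_mul] at this

/-- conjugate coordinates -/
def cρ (g : G) (ρ : F → G) : F → G := fun b => g * ρ b * g⁻¹

theorem A.cj (e : A ρ h α β f) (g : G) : A (cρ g ρ) (g * h * g⁻¹) α β f :=
  ⟨e.1, e.2.1, fun b => by simp only [cρ, ← e.e]; group⟩
theorem A.cj' (e : A (cρ g ρ) h α β f) : A ρ (g⁻¹ * h * g) α β f :=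
  ⟨e.1, e.2.1, fun b => by
    have := e.e b
    simp only [cρ] at this
    rw [← mul_left_inj g⁻¹, ← mul_right_inj g, ← mul_assoc g (ρ _), ← this]; group⟩

/-- the structure of `H = C(ρ o)` on `U = range ρ` -/
structure Pt (ρ : F → G) : Prop where
  add : ∀ a b, ρ (a + b) = ρ a * ρ b
  inj : Injective ρ
  ex : ∀ h, h * ρ o * h⁻¹ = ρ o → ∃ α β f, A ρ h α β f
  su : ∀ α β f, α ≠ 0 → sm f = 0 → ∃ h, A ρ h α β f
  two : ∀ c c', A ρ c 1 0 0 → A ρ c' 1 0 0 → c ∉ Set.range ρ → c' ∉ Set.range ρ → ∃ b, c' = c * ρ b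
  oz : ∀ c, c * c = 1 → (∀ s α f, A ρ s α 0 f → s * c * s⁻¹ = c) → c = 1 ∨ c = ρ o

theorem mem_cρ : x ∈ Set.range (cρ g ρ) ↔ g⁻¹ * x * g ∈ Set.range ρ :=
  ⟨fun ⟨b, e⟩ => ⟨b, by rw [← e, cρ]; group⟩, fun ⟨b, e⟩ => ⟨b, by rw [cρ, e]; group⟩⟩

theorem Pt.cj (p : Pt ρ) (g : G) : Pt (cρ g ρ) where
  add a b := by simp only [cρ, p.add]; group
  inj a b e := p.inj (by simpa [cρ] using e)
  ex h e := by
    obtain ⟨α, β, f, k⟩ := p.ex (g⁻¹ * h * g) (by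
      rw [← mul_left_inj g⁻¹, ← mul_right_inj g, ← mul_assoc g (ρ o)]
      exact Eq.trans (by simp only [cρ]; group) e)
    exact ⟨α, β, f, by simpa [mul_assoc] using k.cj g⟩
  su α β f h1 h2 := let ⟨_, e⟩ := p.su α β f h1 h2; ⟨_, e.cj g⟩
  two c c' e e' k k' := by
    obtain ⟨b, j⟩ := p.two _ _ e.cj' e'.cj' (mt mem_cρ.2 k) (mt mem_cρ.2 k')
    exact ⟨b, by rw [cρ, ← mul_left_inj g, ← mul_right_inj g⁻¹, ← mul_assoc, j]; group⟩
  oz c e k := by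
    have := p.oz (g⁻¹ * c * g) (by simp [mul_assoc, ← mul_assoc c, e]) fun s α f j => by
      rw [← mul_left_inj g⁻¹, ← mul_right_inj g]
      exact Eq.trans (by group) ((k _ _ _ (j.cj g)).trans (by group))
    exact this.imp (fun j => by rw [← mul_left_inj g, ← mul_right_inj g⁻¹, ← mul_assoc, j]; group)
      fun j => by rw [cρ, ← j]; group

namespace Pt
variable (p : Pt ρ)
include p

theorem zero : ρ 0 = 1 := by simpa using p.add 0 0
theorem sq (b : F) : ρ b * ρ b = 1 := by rw [← p.add, add_self, p.zero]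
theorem inv (b : F) : (ρ b)⁻¹ = ρ b := inv_eq_of_mul_eq_one_right (p.sq b)
theorem comm (a b : F) : ρ a * ρ b = ρ b * ρ a := by rw [← p.add, add_comm, p.add]
theorem self (b : F) : A ρ (ρ b) 1 0 0 := ⟨by decide, rfl, fun a => by rw [act_one, p.comm, mul_inv_cancel_right]⟩
theorem uniq (e : A ρ h α β f) (e' : A ρ h α' β' f') : α = α' ∧ β = β' ∧ f = f' :=
  act_inj e.1 e'.1 fun b => p.inj ((e.e b).symm.trans (e'.e b))
theorem eq1 : ρ b = 1 ↔ b = 0 := by rw [← p.zero, p.inj.eq_iff]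
theorem ofC (e : ∀ b, c * ρ b = ρ b * c) : A ρ c 1 0 0 :=
  ⟨by decide, rfl, fun b => by rw [act_one, e, mul_inv_cancel_right]⟩
/-- `C_U(Q) = Z` -/
theorem fixQ (e : ∀ q f, A ρ q 1 0 f → q * ρ b * q⁻¹ = ρ b) : iZ b :=
  (by decide +kernel : ∀ b, (∀ f, sm f = 0 → act 1 0 f b = b) → iZ b) b fun f hf =>
    let ⟨q, k⟩ := p.su 1 0 f (by decide) hf; p.inj ((k.e b).symm.trans (e q f k))
theorem cc (e : A ρ c 1 0 0) (n : c ∉ Set.range ρ) (k : A ρ h α β f) : ∃ b, h * c * h⁻¹ = c * ρ b :=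
  p.two _ _ e (k.conj e) n fun ⟨b, j⟩ => n ⟨_, by rw [← k.inv.e, j]; group⟩
theorem Ccomm (e : A ρ c 1 0 0) (e' : A ρ k 1 0 0) : c * k = k * c := by
  by_cases n : c ∈ Set.range ρ
  · obtain ⟨b, rfl⟩ := n; exact (e'.comm b).symm
  by_cases n' : k ∈ Set.range ρ
  · obtain ⟨b, rfl⟩ := n'; exact e.comm b
  obtain ⟨b, rfl⟩ := p.two _ _ e e' n n'
  rw [mul_assoc, e.comm]
theorem mulsq (e : A ρ c 1 0 0) (b : F) : c * ρ b * (c * ρ b) = c * c := by
  rw [mul_assoc, ← mul_assoc (ρ b), ← e.comm, mul_assoc c, p.sq, mul_one]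
theorem csq (e : A ρ c 1 0 0) : ∃ b, iZ b ∧ c * c = ρ b := by
  by_cases n : c ∈ Set.range ρ
  · obtain ⟨b, rfl⟩ := n; exact ⟨0, .inl rfl, by rw [p.sq, p.zero]⟩
  obtain ⟨b, j⟩ := p.two _ _ e.invQ e (fun ⟨b, j⟩ => n ⟨b, by rw [← p.inv, j, inv_inv]⟩) n
  have j : c * c = ρ b := by rw [← mul_right_inj c⁻¹, ← j, inv_mul_cancel_left]
  refine ⟨b, p.fixQ fun q f k => ?_, j⟩
  obtain ⟨a, i⟩ := p.cc e n k
  rw [← j]
  exact Eq.trans (by rw [← i]; group) (p.mulsq e a)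
/-- four elements of type `x_j` span `Q/C` -/
theorem gen (K : Subgroup G) (hx : ∀ j, j ≠ 0 → ∃ x ∈ K, A ρ x 1 0 (o + d j)) (hf : sm f = 0) :
    ∃ x ∈ K, A ρ x 1 0 f := by
  have k : ∀ j, j ≠ 0 → ∀ e : Bool, ∃ x ∈ K, A ρ x 1 0 (if e then o + d j else 0) := fun j hj e => by
    cases e
    exacts [⟨1, one_mem _, .one⟩, hx j hj]
  obtain ⟨e1, e2, e3, e4, rfl⟩ := (by decide +kernel : ∀ f, sm f = 0 → ∃ e1 e2 e3 e4 : Bool, f =
    (if e1 then o + d 1 else 0) + (if e2 then o + d 2 else 0) + (if e3 then o + d 3 else 0) +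
    (if e4 then o + d 4 else 0)) f hf
  obtain ⟨_, a1, b1⟩ := k 1 (by decide) e1
  obtain ⟨_, a2, b2⟩ := k 2 (by decide) e2
  obtain ⟨_, a3, b3⟩ := k 3 (by decide) e3
  obtain ⟨_, a4, b4⟩ := k 4 (by decide) e4
  exact ⟨_, mul_mem (mul_mem (mul_mem a1 a2) a3) a4, ((b1.mulQ b2).mulQ b3).mulQ b4⟩
end Pt

end H16.Ti
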