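import Cfsg.Agent.H2.Subnormal
import Mathlib.Data.Set.Finite.Lemmas

/-! The generalized zipper lemma (Flavell): `H16.Full A H` says that the normal closure of `A` in `H`
is `H`; `H16.gen_zipper`: if `Full A ⊤`, `A ≠ ⊤` and all proper `H` with `Full A H` lie in one proper
subgroup, then `A` lies in a unique maximal subgroup. -/

set_option autoImplicit false
open scoped Pointwise
open Subgroup H2

namespace H16

variable {G : Type*} [Group G]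

local notation:75 g " ⋆ " H:75 => MulAut.conj g • H
local notation "𝐍(" H ")" => Subgroup.normalizer (SetLike.coe (H : Subgroup _))

/-- The normal closure of `A` in `H` is `H`. -/
def Full (A H : Subgroup G) : Prop := A ≤ H ∧ ∀ L : Subgroup G, A ≤ L → H ≤ 𝐍(L) → H ≤ L

namespace Full

theorem refl (A : Subgroup G) : Full A A := ⟨le_rfl, fun _ h _ => h⟩

theorem trans {A Y H : Subgroup G} (h1 : Full A Y) (h2 : Full Y H) : Full A H :=
  ⟨h1.1.trans h2.1, fun L hL hN => h2.2 L (h1.2 L hL (h2.1.trans hN)) hN⟩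

theorem mono {A B H : Subgroup G} (h : Full A H) (h1 : A ≤ B) (h2 : B ≤ H) : Full B H :=
  ⟨h2, fun L hL hN => h.2 L (h1.trans hL) hN⟩

theorem eq_of_subn {A E H : Subgroup G} (h : Full A H) (hA : A ≤ E) (hE : SubnIn E H) : E = H := by
  by_contra hne
  obtain ⟨L, h1, h2, h3⟩ := hE.exists_normal_lt hne
  exact h2.not_ge (h.2 L (hA.trans h1.le) h3)

theorem sSup {A : Subgroup G} {S : Set (Subgroup G)} (h : ∀ H ∈ S, Full A H)
    (hA : A ≤ SupSet.sSup S) : Full A (SupSet.sSup S) :=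
  ⟨hA, fun L hL hN => sSup_le fun H hH => (h H hH).2 L hL ((le_sSup hH).trans hN)⟩

theorem conj {A H : Subgroup G} (h : Full A H) (g : G) : Full (g ⋆ A) (g ⋆ H) := by
  refine ⟨conj_mono g h.1, fun L hL hN => ?_⟩
  rw [conj_le_iff] at hL hN ⊢
  refine h.2 _ hL ?_
  rwa [← conj_normalizer]

theorem normalizer_ne_top {A T : Subgroup G} (h : Full A ⊤) (h1 : A ≤ T) (h2 : T ≠ ⊤) :
    𝐍(T) ≠ ⊤ := fun e => h2 (top_le_iff.mp (h.2 T h1 e.ge))

end Full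

theorem exists_full [Finite G] {A H : Subgroup G} (h : A ≤ H) : ∃ E, SubnIn E H ∧ Full A E := by
  induction H using WellFoundedLT.induction with
  | ind H ih =>
  by_cases hF : Full A H
  · exact ⟨H, SubnIn.refl H, hF⟩
  · have : ∃ L : Subgroup G, A ≤ L ∧ H ≤ 𝐍(L) ∧ ¬ H ≤ L := by
      by_contra hc
      push Not at hc
      exact hF ⟨h, hc⟩
    obtain ⟨L, h1, h2, h3⟩ := this
    have hlt : L ⊓ H < H := lt_of_le_of_ne inf_le_right fun e => h3 (inf_eq_right.mp e)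
    obtain ⟨E, hE, hF⟩ := ih _ hlt (le_inf h1 h)
    exact ⟨E, hE.trans (SubnIn.of_normal inf_le_right (le_normalizer_inf h2 le_normalizer)), hF⟩

theorem full_iff {A H : Subgroup G} (h : A ≤ H) :
    Full A H ↔ normalClosure ((A.subgroupOf H : Subgroup H) : Set H) = ⊤ := by
  constructor
  · intro hF
    set N := normalClosure ((A.subgroupOf H : Subgroup H) : Set H)
    have h1 : A ≤ N.map H.subtype := by
      intro a ha
      exact ⟨⟨a, h ha⟩, subset_normalClosure (by exact ha), rfl⟩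
    have h2 : H ≤ 𝐍(N.map H.subtype) := by
      have : (⊤ : Subgroup H) ≤ 𝐍(N) := le_normalizer_of_normal
      have := (map_mono (f := H.subtype) this).trans (le_normalizer_map H.subtype)
      rwa [← MonoidHom.range_eq_map, range_subtype] at this
    rw [eq_top_iff]
    intro x _
    obtain ⟨y, hy, e⟩ := hF.2 _ h1 h2 x.2
    rwa [← Subtype.ext e]
  · intro hN
    refine ⟨h, fun L h1 h2 => ?_⟩
    have : (L.subgroupOf H).Normal := by
      have := normal_subgroupOf_of_le_normalizer h2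
      exact this
    have : normalClosure ((A.subgroupOf H : Subgroup H) : Set H) ≤ L.subgroupOf H :=
      normalClosure_le_normal fun x hx => h1 hx
    intro x hx
    have := this (hN ▸ mem_top (⟨x, hx⟩ : H))
    exact this

theorem full_top_iff {A : Subgroup G} : Full A ⊤ ↔ normalClosure (A : Set G) = ⊤ := by
  constructor
  · intro hF
    exact top_le_iff.mp (hF.2 _ le_normalClosure le_normalizer_of_normal)
  · intro hN
    refine ⟨le_top, fun L h1 h2 => ?_⟩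
    have := normal_of_top_le_normalizer h2
    exact hN ▸ normalClosure_le_normal h1

/-- The axioms of the configuration in the generalized zipper lemma. -/
structure ZC (R : Subgroup G → Subgroup G → Prop) : Prop where
  conj : ∀ {C N} (g : G), R C N → R (g ⋆ C) (g ⋆ N)
  le : ∀ {C N}, R C N → C ≤ N
  ne : ∀ {C N}, R C N → N ≠ ⊤
  norm : ∀ {C N}, R C N → 𝐍(C) ≤ N
  nsub : ∀ {C N}, R C N → ¬ SubnIn C N
  eq_of_le : ∀ {C N C' N'}, R C N → R C' N' → N ≤ N' → N = N'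
  sub : ∀ {C N H}, R C N → C ≤ H → H ≠ ⊤ → ¬ H ≤ N → SubnIn C H
  uniq : ∀ {C C' N H}, R C N → R C' N → C ≤ H → C' ≤ H → H ≠ ⊤ → ¬ H ≤ N → C = C'
  fn : ∀ {C N N'}, R C N → R C N' → N = N'
  nn : ∀ {C N T}, R C N → C ≤ T → T ≠ ⊤ → 𝐍(T) ≠ ⊤

/-- Members of the class lying in `K`. -/
def ZU (R : Subgroup G → Subgroup G → Prop) (K : Subgroup G) : Set (Subgroup G) :=
  {C | (∃ N, R C N) ∧ C ≤ K}

theorem ZU.mono {R : Subgroup G → Subgroup G → Prop} {K L : Subgroup G} (h : K ≤ L) :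
    ZU R K ⊆ ZU R L := fun _ hC => ⟨hC.1, hC.2.trans h⟩

theorem ZU.sSup_le (R : Subgroup G → Subgroup G → Prop) (K : Subgroup G) : sSup (ZU R K) ≤ K :=
  _root_.sSup_le fun _ hC => hC.2

/-- A pair configuration. -/
structure ZP (R : Subgroup G → Subgroup G → Prop) (A M X N : Subgroup G) : Prop where
  a : R A M
  x : R X N
  xm : X ≤ M
  an : A ≤ N
  ne : M ≠ N

theorem ZP.symm {R : Subgroup G → Subgroup G → Prop} {A M X N : Subgroup G} (h : ZP R A M X N) :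
    ZP R X N A M := ⟨h.x, h.a, h.an, h.xm, h.ne.symm⟩

/-- The good case. -/
def ZG (U : Set (Subgroup G)) (A M : Subgroup G) : Prop :=
  ∃ h ∈ M, h ∈ 𝐍(sSup (U \ {A})) ∧ h ∉ 𝐍(A)

namespace ZC

variable {R : Subgroup G → Subgroup G → Prop} (z : ZC R)
include z

theorem mem_conj {K C : Subgroup G} {g : G} (hC : C ∈ ZU R K) (hg : g ∈ 𝐍(K)) :
    g ⋆ C ∈ ZU R K := by
  obtain ⟨⟨N, hN⟩, h⟩ := hC
  exact ⟨⟨_, z.conj g hN⟩, conj_le_of_mem_normalizer h hg⟩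

theorem fix {C N H : Subgroup G} {g : G} (h : R C N) (h1 : C ≤ H) (h2 : H ≠ ⊤) (h3 : ¬ H ≤ N)
    (hg : g ∈ N) (h4 : g ⋆ C ≤ H) : g ∈ 𝐍(C) := by
  have := z.conj g h
  rw [conj_eq_of_mem hg] at this
  exact conj_eq_iff.mp (z.uniq this h h4 h1 h2 h3)

theorem nle {A M X N : Subgroup G} (p : ZP R A M X N) : ¬ N ≤ M := fun h =>
  p.ne (z.eq_of_le p.x p.a h).symm

theorem inf_le {A M X N : Subgroup G} (p : ZP R A M X N) : M ⊓ N ≤ 𝐍(A) := fun _ hg =>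
  z.fix p.a p.an (z.ne p.x) (z.nle p) hg.1 (conj_le_of_mem p.an hg.2)

theorem not_le_good {A M X N : Subgroup G} (p : ZP R A M X N) {h : G} (hM : h ∈ M)
    (hV : h ∈ 𝐍(sSup (ZU R (M ⊓ N) \ {A}))) (hA : h ∉ 𝐍(A)) :
    ¬ A ≤ sSup (ZU R (M ⊓ N) \ {A}) := by
  intro hle
  refine hA (z.fix p.a p.an (z.ne p.x) (z.nle p) hM ?_)
  refine (conj_le_of_mem_normalizer hle hV).trans (_root_.sSup_le fun C hC => ?_)
  exact hC.1.2.trans inf_le_right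

theorem perm_good {A M X N : Subgroup G} (p : ZP R A M X N) {h : G} (hM : h ∈ M)
    (hV : h ∈ 𝐍(sSup (ZU R (M ⊓ N) \ {A}))) (hA : h ∉ 𝐍(A)) {C : Subgroup G}
    (hC : C ∈ ZU R (M ⊓ N)) (hne : C ≠ A) : h ⋆ C ∈ ZU R (M ⊓ N) ∧ h ⋆ C ≠ A := by
  have h1 : C ∈ ZU R (sSup (ZU R (M ⊓ N) \ {A})) := ⟨hC.1, le_sSup ⟨hC, hne⟩⟩
  have h2 := z.mem_conj h1 hV
  refine ⟨⟨h2.1, h2.2.trans (_root_.sSup_le fun C hC => hC.1.2)⟩, fun e => ?_⟩
  exact z.not_le_good p hM hV hA (e ▸ h2.2)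

theorem moves {A M X N : Subgroup G} (p : ZP R A M X N) {h : G} (hM : h ∈ M) (hA : h ∉ 𝐍(A)) :
    ¬ A ≤ 𝐍(h ⋆ X) := by
  intro hle
  have hx := z.conj h p.x
  refine hA (z.fix p.a (hle.trans (z.norm hx)) (z.ne hx) (fun e => z.nle p ?_) hM
    (conj_mono h p.an))
  rwa [← conj_eq_of_mem hM, conj_le_conj_iff] at e

theorem both_good [Finite G] {A M X N : Subgroup G} (p : ZP R A M X N)
    (gA : ZG (ZU R (M ⊓ N)) A M) (gX : ZG (ZU R (M ⊓ N)) X N) : False := by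
  obtain ⟨h, hM, hV, hA⟩ := gA
  obtain ⟨l, lN, lT, lX⟩ := gX
  have pA := fun C => z.perm_good p hM hV hA (C := C)
  have pX := fun C => z.perm_good p.symm lN (by rwa [inf_comm]) lX (C := C)
  rw [inf_comm N M] at pX
  have nA : ∀ C ∈ ZU R (M ⊓ N), C ≤ 𝐍(A) := fun C hC => hC.2.trans (z.inf_le p)
  have nX : ∀ C ∈ ZU R (M ⊓ N), C ≤ 𝐍(X) := fun C hC =>
    hC.2.trans ((inf_comm M N).le.trans (z.inf_le p.symm))
  have mv : ∀ (g : G) (C D : Subgroup G), ¬ C ≤ 𝐍(D) → ¬ g ⋆ C ≤ 𝐍(g ⋆ D) := by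
    intro g C D h1 h2
    rw [← conj_normalizer, conj_le_conj_iff] at h2
    exact h1 h2
  have m1 := z.moves p hM hA
  have m2 := z.moves p.symm lN lX
  have e1 : ∀ n : ℕ, h * (l * h) ^ n = (h * l) ^ n * h := by
    intro n
    induction n with
    | zero => simp
    | succ n ih => rw [pow_succ, ← mul_assoc, ih, pow_succ]; simp only [mul_assoc]
  have e2 : ∀ n : ℕ, l * (h * l) ^ n = (l * h) ^ n * l := by
    intro n
    induction n with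
    | zero => simp
    | succ n ih => rw [pow_succ, ← mul_assoc, ih, pow_succ]; simp only [mul_assoc]
  have ps : ∀ n : ℕ, ¬ (h * l) ^ n ⋆ A ≤ 𝐍(h ⋆ (l * h) ^ n ⋆ X) := by
    intro n
    have := mv ((h * l) ^ n) _ _ m1
    rwa [conj_conj, ← e1, ← conj_conj] at this
  have rq : ∀ n : ℕ, ¬ (l * h) ^ n ⋆ X ≤ 𝐍(l ⋆ (h * l) ^ n ⋆ A) := by
    intro n
    have := mv ((l * h) ^ n) _ _ m2
    rwa [conj_conj, ← e2, ← conj_conj] at this
  have sp : ∀ n : ℕ, (h * l) ^ (n + 1) ⋆ A = h ⋆ l ⋆ (h * l) ^ n ⋆ A := by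
    intro n
    rw [conj_conj, conj_conj, pow_succ']
  have sr : ∀ n : ℕ, (l * h) ^ (n + 1) ⋆ X = l ⋆ h ⋆ (l * h) ^ n ⋆ X := by
    intro n
    rw [conj_conj, conj_conj, pow_succ']
  have step : ∀ n : ℕ, ((h * l) ^ n ⋆ A ∈ ZU R (M ⊓ N) ∧ (h * l) ^ n ⋆ A ≠ X) ∧
      ((l * h) ^ n ⋆ X ∈ ZU R (M ⊓ N) ∧ (l * h) ^ n ⋆ X ≠ A) →
      (((h * l) ^ (n + 1) ⋆ A ∈ ZU R (M ⊓ N) ∧ (h * l) ^ (n + 1) ⋆ A ≠ X) ∧
      ((l * h) ^ (n + 1) ⋆ X ∈ ZU R (M ⊓ N) ∧ (l * h) ^ (n + 1) ⋆ X ≠ A)) ∧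
      (h * l) ^ (n + 1) ⋆ A ≠ A := by
    rintro n ⟨⟨p1, p2⟩, r1, r2⟩
    obtain ⟨q1, -⟩ := pX _ p1 p2
    obtain ⟨s1, -⟩ := pA _ r1 r2
    have q3 : l ⋆ (h * l) ^ n ⋆ A ≠ A := fun e => rq n (by rw [e]; exact nA _ r1)
    have s3 : h ⋆ (l * h) ^ n ⋆ X ≠ X := fun e => ps n (by rw [e]; exact nX _ p1)
    obtain ⟨p3, p4⟩ := pA _ q1 q3
    obtain ⟨r3, -⟩ := pX _ s1 s3
    rw [sp, sr]
    refine ⟨⟨⟨p3, fun e => ?_⟩, r3, fun e => ?_⟩, p4⟩
    · exact mv h _ _ (rq n) (by rw [e]; exact nX _ s1)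
    · exact mv l _ _ (ps n) (by rw [e]; exact nA _ q1)
  have hAX : A ≠ X := fun e => p.ne (z.fn p.a (e ▸ p.x))
  have inv : ∀ n : ℕ, ((h * l) ^ n ⋆ A ∈ ZU R (M ⊓ N) ∧ (h * l) ^ n ⋆ A ≠ X) ∧
      ((l * h) ^ n ⋆ X ∈ ZU R (M ⊓ N) ∧ (l * h) ^ n ⋆ X ≠ A) := by
    intro n
    induction n with
    | zero =>
      simp only [pow_zero, conj_one]
      exact ⟨⟨⟨⟨_, p.a⟩, le_inf (z.le p.a) p.an⟩, hAX⟩, ⟨⟨_, p.x⟩, le_inf p.xm (z.le p.x)⟩, hAX.symm⟩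
    | succ n ih => exact (step n ih).1
  obtain ⟨n, hn⟩ := Nat.exists_eq_succ_of_ne_zero (orderOf_pos (h * l)).ne'
  refine (step n (inv n)).2 ?_
  rw [← Nat.succ_eq_add_one, ← hn, pow_orderOf_eq_one, conj_one]

theorem good_or [Finite G] {A M X N : Subgroup G} (p : ZP R A M X N) :
    ZG (ZU R (M ⊓ N)) A M ∨ ∃ Y ∈ ZU R M, ¬ Y ≤ N ∧ Y ≤ 𝐍(sSup (ZU R (M ⊓ N))) := by
  set S : Set (Subgroup G) := {C | C ∈ ZU R M ∧ SubnIn C M} with hS
  have hconj : ∀ U ∈ S, ∀ g ∈ M, g ⋆ U ∈ S := fun U hU g hg =>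
    ⟨z.mem_conj hU.1 (le_normalizer hg), hU.2.conj_of_mem hg⟩
  have h0 : ZU R (M ⊓ N) \ {A} ⊆ S := by
    rintro C ⟨⟨⟨P, hP⟩, hC⟩, hne⟩
    refine ⟨⟨⟨P, hP⟩, hC.trans inf_le_left⟩, z.sub hP (hC.trans inf_le_left) (z.ne p.a) fun e => ?_⟩
    have := z.eq_of_le p.a hP e
    subst this
    exact hne (z.uniq hP p.a (hC.trans inf_le_right) p.an (z.ne p.x) (z.nle p))
  rcases h0.eq_or_ssubset with heq | hss
  · left
    have h1 : ¬ M ≤ 𝐍(A) := fun e => z.nsub p.a (SubnIn.of_normal (z.le p.a) e)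
    obtain ⟨h, hM, hA⟩ := SetLike.not_le_iff_exists.mp h1
    refine ⟨h, hM, ?_, hA⟩
    rw [heq]
    exact le_normalizer_sSup hconj hM
  · obtain ⟨Y, hY, hY0, hYn⟩ := exists_normalizing_of_ssubset (fun U hU => hU.2) hconj hss
    by_cases hYA : Y ≤ 𝐍(A)
    · right
      refine ⟨Y, hY.1, fun e => hY0 ⟨⟨hY.1.1, le_inf hY.1.2 e⟩, fun e' => ?_⟩, ?_⟩
      · rw [Set.mem_singleton_iff] at e'
        exact z.nsub p.a (e' ▸ hY.2)
      · have hA : A ∈ ZU R (M ⊓ N) := ⟨⟨_, p.a⟩, le_inf (z.le p.a) p.an⟩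
        rw [← Set.insert_sdiff_self_of_mem hA, sSup_insert]
        exact le_normalizer_sup hYA hYn
    · left
      obtain ⟨h, hM, hA⟩ := SetLike.not_le_iff_exists.mp hYA
      exact ⟨h, hY.1.2 hM, hYn hM, hA⟩

/-- Replacing the second member of a pair by a conjugate of the first. -/
theorem shift {A M K : Subgroup G} (a : R A M) (h1 : A ≤ K) (h2 : K ≠ ⊤) (h3 : ¬ K ≤ M) {l : G}
    (hl : l ∈ 𝐍(sSup (ZU R (M ⊓ K)))) (hlM : l ∉ M) :
    ZP R A M (l ⋆ A) (l ⋆ M) ∧ ZU R (M ⊓ K) ⊆ ZU R (M ⊓ l ⋆ M) := by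
  have hA : A ≤ sSup (ZU R (M ⊓ K)) := le_sSup ⟨⟨_, a⟩, le_inf (z.le a) h1⟩
  have hD := ZU.sSup_le R (M ⊓ K)
  have hD' : sSup (ZU R (M ⊓ K)) ≤ l ⋆ M := by
    rw [← conj_eq_of_mem_normalizer hl]
    exact conj_mono l (hD.trans inf_le_left)
  have hX := (conj_le_of_mem_normalizer hA hl).trans hD
  refine ⟨⟨a, z.conj l a, hX.trans inf_le_left, hA.trans hD', fun e => hlM ?_⟩, fun C hC =>
    ⟨hC.1, le_inf (hC.2.trans inf_le_left) ((le_sSup hC).trans hD')⟩⟩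
  have := z.conj l a
  rw [← e] at this
  exact z.norm a (conj_eq_iff.mp (z.uniq this a (hX.trans inf_le_right) h1 h2 h3))

theorem exists_pair [Finite G] {A M K : Subgroup G} (a : R A M) (h1 : A ≤ K) (h2 : K ≠ ⊤)
    (h3 : ¬ K ≤ M) : ∃ X N, ZP R A M X N ∧ ZU R (M ⊓ K) ⊆ ZU R (M ⊓ N) := by
  by_cases hc : ∃ X N, R X N ∧ X ≤ M ⊓ K ∧ K ≤ N
  · obtain ⟨X, N, x, hX, hN⟩ := hc
    exact ⟨X, N, ⟨a, x, hX.trans inf_le_left, h1.trans hN, fun e => h3 (e ▸ hN)⟩,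
      ZU.mono (inf_le_inf_left _ hN)⟩
  push Not at hc
  set S : Set (Subgroup G) := {C | C ∈ ZU R K ∧ SubnIn C K} with hS
  have hconj : ∀ U ∈ S, ∀ g ∈ K, g ⋆ U ∈ S := fun U hU g hg =>
    ⟨z.mem_conj hU.1 (le_normalizer hg), hU.2.conj_of_mem hg⟩
  have h0 : ZU R (M ⊓ K) ⊆ S := by
    rintro C ⟨⟨P, hP⟩, hC⟩
    exact ⟨⟨⟨P, hP⟩, hC.trans inf_le_right⟩, z.sub hP (hC.trans inf_le_right) h2 (hc C P hP hC)⟩
  have : ∃ l, l ∈ 𝐍(sSup (ZU R (M ⊓ K))) ∧ l ∉ M := by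
    rcases h0.eq_or_ssubset with heq | hss
    · obtain ⟨l, hl, hlM⟩ := SetLike.not_le_iff_exists.mp h3
      refine ⟨l, ?_, hlM⟩
      rw [heq]
      exact le_normalizer_sSup hconj hl
    · obtain ⟨Y, hY, hY0, hYn⟩ := exists_normalizing_of_ssubset (fun U hU => hU.2) hconj hss
      have : ¬ Y ≤ M := fun e => hY0 ⟨hY.1.1, le_inf e hY.1.2⟩
      obtain ⟨l, hl, hlM⟩ := SetLike.not_le_iff_exists.mp this
      exact ⟨l, hYn hl, hlM⟩
  obtain ⟨l, hl, hlM⟩ := this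
  exact ⟨_, _, z.shift a h1 h2 h3 hl hlM⟩

theorem one_good [Finite G] {A M X N : Subgroup G} (p : ZP R A M X N)
    (hmax : ∀ A' M' K', R A' M' → A' ≤ K' → K' ≠ ⊤ → ¬ K' ≤ M' →
      (ZU R (M' ⊓ K')).ncard ≤ (ZU R (M ⊓ N)).ncard)
    (gA : ZG (ZU R (M ⊓ N)) A M) : False := by
  rcases z.good_or p.symm with gX | ⟨Y, -, hYM, hY⟩
  · rw [inf_comm] at gX
    exact z.both_good p gA gX
  rw [inf_comm] at hY
  obtain ⟨l, hl, hlM⟩ := SetLike.not_le_iff_exists.mp hYM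
  replace hl := hY hl
  obtain ⟨p', hsub⟩ := z.shift p.a p.an (z.ne p.x) (z.nle p) hl hlM
  have heq : ZU R (M ⊓ N) = ZU R (M ⊓ l ⋆ M) :=
    Set.eq_of_subset_of_ncard_le hsub (hmax _ _ _ p.a p'.an (z.ne p'.x) (z.nle p'))
  refine z.both_good p' (heq ▸ gA) ?_
  rw [← heq]
  obtain ⟨h, hM, hV, hA⟩ := gA
  have hU : ZU R (sSup (ZU R (M ⊓ N))) = ZU R (M ⊓ N) :=
    Set.Subset.antisymm (ZU.mono (ZU.sSup_le _ _)) fun C hC => ⟨hC.1, le_sSup hC⟩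
  have key : ∀ (g : G) (B : Subgroup G), g ∈ 𝐍(sSup (ZU R (M ⊓ N))) →
      g ⋆ sSup (ZU R (M ⊓ N) \ {B}) ≤ sSup (ZU R (M ⊓ N) \ {g ⋆ B}) := by
    intro g B hg
    refine conj_sSup_le fun U hU' => le_sSup ⟨?_, fun e => hU'.2 (conj_injective g e)⟩
    rw [← hU]
    exact z.mem_conj (hU.symm ▸ hU'.1) hg
  have e : l ⋆ sSup (ZU R (M ⊓ N) \ {A}) = sSup (ZU R (M ⊓ N) \ {l ⋆ A}) := by
    refine le_antisymm (key l A hl) ?_
    have := key l⁻¹ (l ⋆ A) (inv_mem hl)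
    rw [conj_inv_conj, conj_le_iff, inv_inv] at this
    exact this
  refine ⟨l * h * l⁻¹, conj_mem_conj.mpr hM, ?_, ?_⟩
  · rw [← e, ← conj_normalizer]
    exact conj_mem_conj.mpr hV
  · rw [← conj_normalizer]
    exact fun e => hA (conj_mem_conj.mp e)

theorem le_of [Finite G] {A M K : Subgroup G} (a : R A M) (h1 : A ≤ K) (h2 : K ≠ ⊤) : K ≤ M := by
  by_contra h3
  obtain ⟨⟨A, M, K⟩, ⟨a, h1, h2, h3⟩, hmax⟩ := Set.exists_max_image
    {t : Subgroup G × Subgroup G × Subgroup G | R t.1 t.2.1 ∧ t.1 ≤ t.2.2 ∧ t.2.2 ≠ ⊤ ∧ ¬ t.2.2 ≤ t.2.1}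
    (fun t => (ZU R (t.2.1 ⊓ t.2.2)).ncard) (Set.toFinite _) ⟨(A, M, K), a, h1, h2, h3⟩
  dsimp only at a h1 h2 h3
  obtain ⟨X, N, p, hsub⟩ := z.exists_pair a h1 h2 h3
  have hmax' : ∀ A' M' K', R A' M' → A' ≤ K' → K' ≠ ⊤ → ¬ K' ≤ M' →
      (ZU R (M' ⊓ K')).ncard ≤ (ZU R (M ⊓ N)).ncard := fun A' M' K' b1 b2 b3 b4 =>
    (hmax (A', M', K') ⟨b1, b2, b3, b4⟩).trans (Set.ncard_le_ncard hsub)
  rcases z.good_or p with gA | ⟨Y, hY, hYN, hYn⟩
  · exact z.one_good p hmax' gA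
  rcases z.good_or p.symm with gX | ⟨W, hW, hWM, hWn⟩
  · exact z.one_good p.symm (by rwa [inf_comm N M]) gX
  rw [inf_comm] at hWn
  have hA : A ≤ sSup (ZU R (M ⊓ N)) := le_sSup ⟨⟨_, a⟩, le_inf (z.le a) p.an⟩
  have hD := ZU.sSup_le R (M ⊓ N)
  have := hmax' A M _ a (hA.trans le_normalizer)
    (z.nn a hA fun e => z.ne a (top_le_iff.mp (e.ge.trans (hD.trans inf_le_left))))
    fun e => hWM (hWn.trans e)
  refine this.not_gt (Set.ncard_lt_ncard ⟨fun C hC => ⟨hC.1, le_inf (hC.2.trans inf_le_left)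
    ((le_sSup hC).trans le_normalizer)⟩, fun e => hYN ?_⟩)
  exact (e ⟨hY.1, le_inf hY.2 hYn⟩).2.trans inf_le_right

end ZC

/-- The generalized zipper lemma. -/
theorem gen_zipper [Finite G] {A M0 : Subgroup G} (hA : Full A ⊤) (hAG : A ≠ ⊤) (h0 : M0 ≠ ⊤)
    (h : ∀ H, H ≠ ⊤ → Full A H → H ≤ M0) :
    ∃ M, A ≤ M ∧ M ≠ ⊤ ∧ ∀ K, A ≤ K → K ≠ ⊤ → K ≤ M := by
  induction A using WellFoundedGT.induction generalizing M0 with
  | ind A ih =>
  set Y := sSup {H | H ≠ ⊤ ∧ Full A H} with hY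
  have hYle : ∀ H, H ≠ ⊤ → Full A H → H ≤ Y := fun H h1 h2 => le_sSup ⟨h1, h2⟩
  have hAY : A ≤ Y := hYle A hAG (Full.refl A)
  have hYF : Full A Y := Full.sSup (fun H hH => hH.2) hAY
  have hYt : Y ≠ ⊤ := fun e => h0 (top_le_iff.mp (e.ge.trans (sSup_le fun H hH => h H hH.1 hH.2)))
  have hne : ∀ {E H : Subgroup G}, E ≤ H → H ≠ ⊤ → E ≠ ⊤ := fun h1 h2 e =>
    h2 (top_le_iff.mp (e.ge.trans h1))
  rcases hAY.eq_or_lt with heq | hlt
  · obtain ⟨M, h1, h2, h3⟩ := zipper (A := A) (K := ⊤) le_top (fun V h1 h2 => by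
      obtain ⟨E, hE, hF⟩ := exists_full h1
      have : E = A := le_antisymm (heq ▸ hYle E (hne hE.le h2.ne) hF) hF.1
      exact this ▸ hE) (fun e => hAG (hA.eq_of_subn le_rfl e))
    exact ⟨M, h1, h2.ne, fun K a b => h3 K a (lt_top_iff_ne_top.mpr b)⟩
  obtain ⟨M, hYM, hMt, hM⟩ := ih Y hlt (hA.mono hAY le_top) hYt hYt
    fun H h1 h2 => hYle H h1 (hYF.trans h2)
  have hAM := hAY.trans hYM
  have hNM : 𝐍(M) ≤ M := hM _ (hYM.trans le_normalizer) (hA.normalizer_ne_top hAM hMt)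
  have hcard : ∀ (g : G) (B : Subgroup G), g ⋆ B ≤ B → g ⋆ B = B := fun g B hle =>
    eq_of_le_of_card_ge hle (card_conj g B).ge
  have hNA : 𝐍(A) ≤ M := by
    intro g hg
    have h1 : g⁻¹ ⋆ Y ≤ Y := by
      refine hYle _ (by rwa [Ne, conj_eq_top_iff]) ?_
      have := hYF.conj g⁻¹
      rwa [conj_eq_of_mem_normalizer (inv_mem hg)] at this
    have h2 : g ⋆ M ≤ M := by
      refine hM _ ?_ (by rwa [Ne, conj_eq_top_iff])
      have := h1.trans hYM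
      rwa [conj_le_iff, inv_inv] at this
    exact hNM (conj_eq_iff.mp (hcard _ _ h2))
  -- overgroups of a larger subgroup of `M`
  have hbig : ∀ T M1 : Subgroup G, A < T → T ≤ M → M1 ≠ ⊤ → (∀ H, H ≠ ⊤ → Full T H → H ≤ M1) →
      ∀ K, T ≤ K → K ≠ ⊤ → K ≤ M := by
    intro T M1 h1 h2 h3 h4 K h5 h6
    obtain ⟨M', -, b2, b3⟩ := ih T h1 (hA.mono h1.le le_top) (hne h2 hMt) h3 h4
    exact (b3 K h5 h6).trans (hM _ (hYM.trans (b3 M h2 hMt)) b2)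
  have hsub : ∀ H, A ≤ H → H ≠ ⊤ → ¬ H ≤ M → SubnIn A H := by
    intro H h1 h2 h3
    obtain ⟨E, hE, hF⟩ := exists_full h1
    rcases hF.1.eq_or_lt with e | hlt'
    · exact e ▸ hE
    · exact absurd (hbig E Y hlt' ((hYle E (hne hE.le h2) hF).trans hYM) hYt
        (fun H' b1 b2 => hYle H' b1 (hF.trans b2)) H hE.le h2) h3
  have huniq : ∀ g ∈ M, ∀ H, A ≤ H → g ⋆ A ≤ H → H ≠ ⊤ → ¬ H ≤ M → g ⋆ A = A := by
    intro g hg H h1 h2 h3 h4
    by_contra hc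
    have hlt' : A < A ⊔ g ⋆ A := left_lt_sup.mpr fun e => hc (hcard _ _ e)
    refine h4 (hbig _ M hlt' (sup_le hAM (conj_le_of_mem hAM hg)) hMt ?_ H (sup_le h1 h2) h3)
    intro H' b1 b2
    obtain ⟨E1, c1, d1⟩ := exists_full (le_sup_left.trans b2.1)
    obtain ⟨E2, c2, d2⟩ := exists_full (le_sup_right.trans b2.1)
    rw [← b2.eq_of_subn (sup_le_sup d1.1 d2.1) (c1.sup c2)]
    refine sup_le ((hYle _ (hne c1.le b1) d1).trans hYM) ?_
    have := d2.conj g⁻¹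
    rw [conj_inv_conj] at this
    have := (hYle _ (by rw [Ne, conj_eq_top_iff]; exact hne c2.le b1) this).trans hYM
    rwa [conj_le_iff, inv_inv, conj_eq_of_mem hg] at this
  have z : ZC (fun C N : Subgroup G => ∃ g : G, C = g ⋆ A ∧ N = g ⋆ M) :=
    { conj := by
        rintro _ _ g ⟨k, rfl, rfl⟩
        exact ⟨g * k, conj_conj _ _ _, conj_conj _ _ _⟩
      le := by
        rintro _ _ ⟨k, rfl, rfl⟩
        exact conj_mono k hAM
      ne := by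
        rintro _ _ ⟨k, rfl, rfl⟩
        rwa [Ne, conj_eq_top_iff]
      norm := by
        rintro _ _ ⟨k, rfl, rfl⟩
        rw [← conj_normalizer]
        exact conj_mono k hNA
      nsub := by
        rintro _ _ ⟨k, rfl, rfl⟩ e
        have := e.conj k⁻¹
        rw [conj_inv_conj, conj_inv_conj] at this
        exact hlt.ne (hYF.eq_of_subn le_rfl (this.of_le hAY hYM))
      eq_of_le := by
        rintro _ _ _ _ ⟨k, rfl, rfl⟩ ⟨k', rfl, rfl⟩ e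
        exact eq_of_le_of_card_ge e (by rw [card_conj, card_conj])
      sub := by
        rintro _ _ H ⟨k, rfl, rfl⟩ h1 h2 h3
        have := (hsub (k⁻¹ ⋆ H) (conj_le_iff.mp h1) (by rwa [Ne, conj_eq_top_iff])
          (by rwa [conj_le_iff, inv_inv])).conj k
        rwa [conj_conj_inv] at this
      uniq := by
        rintro _ _ _ H ⟨k, rfl, rfl⟩ ⟨k', rfl, e⟩ h1 h2 h3 h4
        have hg : k⁻¹ * k' ∈ M := by
          refine hNM (conj_eq_iff.mp ?_)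
          rw [← conj_conj, ← e, conj_inv_conj]
        have := huniq _ hg (k⁻¹ ⋆ H) (conj_le_iff.mp h1)
          (by rw [← conj_conj]; exact conj_mono _ h2) (by rwa [Ne, conj_eq_top_iff])
          (by rwa [conj_le_iff, inv_inv])
        conv_lhs => rw [← this, conj_conj, mul_inv_cancel_left]
      fn := by
        rintro _ _ _ ⟨k, rfl, rfl⟩ ⟨k', e, rfl⟩
        have hg : k⁻¹ * k' ∈ M := by
          refine hNA (conj_eq_iff.mp ?_)
          rw [← conj_conj, ← e, conj_inv_conj]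
        conv_lhs => rw [← conj_eq_of_mem hg, conj_conj, mul_inv_cancel_left]
      nn := by
        rintro _ _ T ⟨k, rfl, rfl⟩ h1 h2
        have := hA.conj k
        rw [conj_top] at this
        exact this.normalizer_ne_top h1 h2 }
  exact ⟨M, hAM, hMt, fun K h1 h2 => z.le_of ⟨1, (conj_one A).symm, (conj_one M).symm⟩ h1 h2⟩

end H16
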