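import Cfsg.Agent.H16.Zip

/-! Consequences of the generalized zipper lemma: `H16.iter_comm_gen` (if the normal closure of `a` is
`G`, then `a` and the iterated commutators `[g, a, …, a]` generate `G`) and `H16.odd_inv_gen` (an
involution with normal closure `G` and the elements of odd order it inverts generate `G`). -/

set_option autoImplicit false
open scoped Pointwise
open Subgroup H2

namespace H16

universe u

theorem iter_comm_gen {G : Type u} [Group G] [Finite G] (a : G) (h : Full (zpowers a) ⊤) (k : ℕ) :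
    closure (Set.range (fun c => c * a * c⁻¹ * a⁻¹)^[k]) ⊔ zpowers a = ⊤ := by
  induction hn : Nat.card G using Nat.strong_induction_on generalizing G with
  | _ n ih =>
  by_contra hW
  have hA : zpowers a ≠ ⊤ := fun e => hW (top_le_iff.mp (e.ge.trans le_sup_right))
  obtain ⟨M, h1, h2, h3⟩ := gen_zipper h hA hW (fun H hH hF => by
    have ha : a ∈ H := hF.1 (mem_zpowers a)
    have e : (zpowers a).subgroupOf H = zpowers (⟨a, ha⟩ : H) := by
      ext x
      simp only [mem_subgroupOf, mem_zpowers_iff, Subtype.ext_iff, SubgroupClass.coe_zpow]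
    have hF' := (full_iff hF.1).mp hF
    rw [e, ← full_top_iff] at hF'
    have hlt : Nat.card H < n := by
      rw [← hn]
      exact lt_of_le_of_ne (card_le_card_group H) fun e => hH (eq_top_of_card_eq H e)
    have := congrArg (map H.subtype) (ih _ hlt _ hF' rfl)
    rw [← MonoidHom.range_eq_map, range_subtype, Subgroup.map_sup, MonoidHom.map_closure,
      MonoidHom.map_zpowers] at this
    rw [← this]
    refine sup_le_sup_right (closure_mono ?_) _
    rintro _ ⟨_, ⟨c, rfl⟩, rfl⟩
    refine ⟨c, ?_⟩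
    have : Function.Semiconj H.subtype (fun c => c * ⟨a, ha⟩ * c⁻¹ * (⟨a, ha⟩ : H)⁻¹)
      (fun c => c * a * c⁻¹ * a⁻¹) := fun c => by simp
    exact ((this.iterate_right k) c).symm)
  have hN : normalizer (M : Set G) ≤ M := h3 _ (h1.trans le_normalizer) (h.normalizer_ne_top h1 h2)
  have key : ∀ c : G, c * a * c⁻¹ * a⁻¹ ∈ M → c ∈ M := by
    intro c hc
    have h4 : c * a * c⁻¹ ∈ M := by
      simpa using M.mul_mem hc (h1 (mem_zpowers a))
    have h5 : MulAut.conj c⁻¹ • M ≤ M := by
      refine h3 _ ?_ (by rwa [Ne, conj_eq_top_iff])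
      rw [zpowers_le, mem_conj, inv_inv]
      exact h4
    exact M.inv_mem_iff.mp (hN (conj_eq_iff.mp (eq_of_le_of_card_ge h5 (card_conj _ _).ge)))
  have key2 : ∀ (j : ℕ) (c : G), (fun c => c * a * c⁻¹ * a⁻¹)^[j] c ∈ M → c ∈ M := by
    intro j
    induction j with
    | zero => exact fun c hc => hc
    | succ j ihj =>
      intro c hc
      rw [Function.iterate_succ_apply] at hc
      exact key c (ihj _ hc)
  refine h2 (top_le_iff.mp fun c _ => key2 k c ?_)
  exact h3 _ le_sup_right hW (mem_sup_left (subset_closure ⟨c, rfl⟩))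

theorem odd_pow_two_pow {G : Type*} [Group G] [Finite G] (y : G) :
    Odd (orderOf (y ^ 2 ^ Nat.card G)) := by
  rw [← Nat.not_even_iff_odd, even_iff_two_dvd, orderOf_pow]
  intro c
  obtain ⟨k, hk, e⟩ := (Nat.dvd_prime_pow Nat.prime_two).1
    (Nat.gcd_dvd_right (orderOf y) (2 ^ Nat.card G))
  have c2 : 2 ^ (k + 1) ∣ orderOf y := by
    rw [← Nat.div_mul_cancel (Nat.gcd_dvd_left (orderOf y) (2 ^ Nat.card G)), pow_succ']
    exact mul_dvd_mul c (e ▸ dvd_rfl)
  rcases hk.lt_or_eq with l | rfl
  · have := Nat.dvd_gcd c2 (pow_dvd_pow 2 l)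
    rw [e] at this
    exact absurd ((Nat.pow_dvd_pow_iff_le_right one_lt_two).1 this) (by omega)
  · have := Nat.le_of_dvd Nat.card_pos (c2.trans (orderOf_dvd_natCard y))
    have := Nat.lt_two_pow_self (n := Nat.card G + 1)
    omega

/-- An involution `a` with normal closure `G`, together with the elements of odd order inverted by
`a`, generates `G`. -/
theorem odd_inv_gen {G : Type u} [Group G] [Finite G] {a : G} (ha : a * a = 1)
    (h : normalClosure {a} = ⊤) :
    closure {x | Odd (orderOf x) ∧ a * x * a⁻¹ = x⁻¹} ⊔ zpowers a = ⊤ := by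
  have hF : Full (zpowers a) ⊤ := full_top_iff.mpr (top_le_iff.mp (h.ge.trans
    (normalClosure_mono (Set.singleton_subset_iff.mpr (mem_zpowers a)))))
  refine top_le_iff.mp ((iter_comm_gen a hF (Nat.card G + 1)).ge.trans
    (sup_le_sup_right (closure_mono ?_) _))
  rintro _ ⟨c, rfl⟩
  have it : ∀ n (x : G), a * x * a⁻¹ = x⁻¹ →
      (fun c : G => c * a * c⁻¹ * a⁻¹)^[n] x = x ^ 2 ^ n := fun n => by
    induction n with
    | zero => simp
    | succ n ih =>
      intro x hx
      rw [Function.iterate_succ_apply', ih x hx, pow_succ, pow_mul, pow_two]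
      have : a * (x ^ 2 ^ n)⁻¹ * a⁻¹ = x ^ 2 ^ n := by
        rw [← conj_inv, ← conj_pow, hx, inv_pow, inv_inv]
      simp only [mul_assoc] at this ⊢
      rw [this]
  have hi : a⁻¹ = a := inv_eq_of_mul_eq_one_right ha
  have e : a * (c * a * c⁻¹ * a⁻¹) * a⁻¹ = (c * a * c⁻¹ * a⁻¹)⁻¹ := by
    simp only [mul_inv_rev, inv_inv, hi, mul_assoc, ha, mul_one]
  rw [Function.iterate_succ_apply, it _ _ e]
  exact ⟨odd_pow_two_pow _, by rw [← conj_pow, e, inv_pow]⟩

end H16
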